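import Cfsg.Agent.Lib.Helper53.WeakClosed3

set_option autoImplicit false

namespace Cfsg.Agent.Lib.Helper53

open Cfsg

variable {G : Type*} [Group G]

/-- conjugation action of `A` on a subgroup `Y` it normalises -/
@[reducible] def conjActOn (A Y : Subgroup G) (h : A ≤ Subgroup.normalizer (Y : Set G)) :
    MulAction A Y where
  smul a y := ⟨a * y * a⁻¹, (Subgroup.mem_normalizer_iff.1 (h a.2) y).1 y.2⟩
  one_smul := by
    intro y
    apply Subtype.ext
    change ((1 : A) : G) * y * ((1 : A) : G)⁻¹ = y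
    simp
  mul_smul := by
    intro a b y
    apply Subtype.ext
    change ((a * b : A) : G) * y * ((a * b : A) : G)⁻¹ = a * (b * y * (b : G)⁻¹) * (a : G)⁻¹
    simp [mul_assoc]

theorem inf_centralizer_ne_bot [Finite G] {p : ℕ} [hp : Fact p.Prime] {A Y : Subgroup G}
    (hA : IsPGroup p A) (hY : IsPGroup p Y) (hY1 : Y ≠ ⊥)
    (h : A ≤ Subgroup.normalizer (Y : Set G)) : Y ⊓ Subgroup.centralizer (A : Set G) ≠ ⊥ := by
  let _ := conjActOn A Y h
  have hnt : Nontrivial Y := (Subgroup.nontrivial_iff_ne_bot Y).2 hY1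
  have hdvd : p ∣ Nat.card Y := by
    obtain ⟨n, hn0, hn⟩ := (hY.nontrivial_iff_card).1 hnt
    rw [hn]
    exact dvd_pow_self p hn0.ne'
  have h1 : (1 : Y) ∈ MulAction.fixedPoints A Y := by
    intro a
    apply Subtype.ext
    change (a : G) * ((1 : Y) : G) * (a : G)⁻¹ = ((1 : Y) : G)
    simp
  obtain ⟨b, hb, hb1⟩ := hA.exists_fixed_point_of_prime_dvd_card_of_fixed_point Y hdvd h1
  intro hbot
  apply hb1
  have h2 : (b : G) ∈ Y ⊓ Subgroup.centralizer (A : Set G) := by
    refine ⟨b.2, ?_⟩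
    change (b : G) ∈ Subgroup.centralizer (A : Set G)
    rw [Subgroup.mem_centralizer_iff]
    intro a ha
    have h3 := congrArg Subtype.val (hb ⟨a, ha⟩)
    change a * (b : G) * a⁻¹ = b at h3
    calc a * (b : G) = a * b * a⁻¹ * a := by group
      _ = b * a := by rw [h3]
  rw [hbot, Subgroup.mem_bot] at h2
  exact Subtype.ext h2.symm

theorem normalizer_le_normalizer_centralizer (R : Subgroup G) :
    Subgroup.normalizer (R : Set G)
      ≤ Subgroup.normalizer ((Subgroup.centralizer (R : Set G) : Subgroup G) : Set G) := by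
  intro g hg
  rw [← cj_eq_self_iff] at hg ⊢
  rw [← centralizer_cj, hg]

theorem normalizer_le_normalizer_center (R : Subgroup G) :
    Subgroup.normalizer (R : Set G)
      ≤ Subgroup.normalizer ((R ⊓ Subgroup.centralizer (R : Set G) : Subgroup G) : Set G) :=
  le_normalizer_inf le_rfl (normalizer_le_normalizer_centralizer R)

theorem IsLarge_cj {Q : Subgroup G} (h : IsLarge Q) (g : G) :
    IsLarge (Q.map (MulAut.conj g).toMonoidHom) := by
  refine ⟨?_, ?_⟩
  · rw [centralizer_cj]
    exact cj_mono g h.1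
  · intro U hU hU1
    rw [centralizer_cj, ← inv_inv g, ← cj_le_iff] at hU
    have h1 := h.2 _ hU (fun hb => hU1 (cj_eq_bot_iff.1 hb))
    rw [normalizer_cj, cj_le_iff, inv_inv, ← normalizer_cj] at h1
    exact h1

theorem IsLarge_normalizer_le [Finite G] {p : ℕ} [Fact p.Prime] {Q R : Subgroup G}
    (h : IsLarge Q) (hQ1 : Q ≠ ⊥) (hR : IsPGroup p R) (hQR : Q ≤ R) :
    Subgroup.normalizer (R : Set G) ≤ Subgroup.normalizer (Q : Set G) := by
  have hR1 : R ≠ ⊥ := fun hb => hQ1 (eq_bot_iff.2 (hb ▸ hQR))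
  have h1 := inf_centralizer_ne_bot hR hR hR1 Subgroup.le_normalizer
  exact (normalizer_le_normalizer_center R).trans
    (h.2 _ (inf_le_right.trans (Subgroup.centralizer_le hQR)) h1)

theorem IsLarge_wc [Finite G] {p : ℕ} [Fact p.Prime] {Q : Subgroup G}
    (h : IsLarge Q) (hQp : IsPGroup p Q) (hQ1 : Q ≠ ⊥) : IsWeaklyClosedSubgroup p Q :=
  wc_of_normalizer_crit hQp fun _ hR hQR => IsLarge_normalizer_le h hQ1 hR hQR

/-- distinct conjugates of a large subgroup have disjoint centralisers -/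
theorem IsLarge_centralizer_inf [Finite G] {p : ℕ} [Fact p.Prime] {Q : Subgroup G}
    (h : IsLarge Q) (hQp : IsPGroup p Q) (hQ1 : Q ≠ ⊥) {g : G}
    (hg : g ∉ Subgroup.normalizer (Q : Set G)) :
    Subgroup.centralizer (Q : Set G) ⊓
      Subgroup.centralizer ((Q.map (MulAut.conj g).toMonoidHom : Subgroup G) : Set G) = ⊥ := by
  by_contra hne
  apply hg
  set U := Subgroup.centralizer (Q : Set G) ⊓
      Subgroup.centralizer ((Q.map (MulAut.conj g).toMonoidHom : Subgroup G) : Set G) with hU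
  have h1 : Subgroup.normalizer (U : Set G) ≤ Subgroup.normalizer (Q : Set G) :=
    h.2 U inf_le_left hne
  have h3 : Q.map (MulAut.conj g).toMonoidHom ≤ Subgroup.normalizer (Q : Set G) := by
    refine le_trans ?_ h1
    refine le_trans ?_ (Subgroup.centralizer_le_normalizer (U : Set G))
    rw [Subgroup.le_centralizer_iff]
    exact inf_le_right
  have h4 : IsPGroup p (Q.map (MulAut.conj g).toMonoidHom ⊔ Q : Subgroup G) :=
    (isPGroup_cj hQp g).to_sup_of_normal_right' hQp h3
  rw [← cj_eq_self_iff]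
  exact (wc_iff hQp).1 (IsLarge_wc h hQp hQ1) _ h4 le_sup_right g le_sup_left

end Cfsg.Agent.Lib.Helper53
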