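import Cfsg.Agent.Lib.Helper53.JCBasic
import Cfsg.Agent.Lib.Helper55.SupNormal

set_option autoImplicit false

/-! J(T)-component ladder: centralizers modulo a subgroup, and the four-group `W_K`. -/

namespace Cfsg.Agent.Lib.Helper53.JC

open Cfsg Subgroup
open scoped commutatorElement
open Cfsg.Agent.Lib.Helper15.ZJ (AE PE)

variable {G : Type*} [Group G]

theorem eq_or_eq_of_relIndex_prime {A B K : Subgroup G} {p : ℕ} (hp : p.Prime) (hAB : A ≤ B)
    (hBK : B ≤ K) (h : A.relIndex K = p) : B = A ∨ B = K := by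
  have h1 := Subgroup.relIndex_mul_relIndex A B K hAB hBK
  rw [h] at h1
  rcases (Nat.dvd_prime hp).1 ⟨_, h1.symm⟩ with h2 | h2
  · left; exact le_antisymm (Subgroup.relIndex_eq_one.1 h2) hAB
  · right
    rw [h2] at h1
    have h3 : B.relIndex K = 1 := Nat.eq_of_mul_eq_mul_left hp.pos (by rw [h1, mul_one])
    exact le_antisymm hBK (Subgroup.relIndex_eq_one.1 h3)

/-- the centralizer of `X` modulo `N`, inside `N_G(N)`. -/
def CM (X N : Subgroup G) : Subgroup G where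
  carrier := {g | g ∈ normalizer (N : Set G) ∧ ∀ x ∈ X, ⁅x, g⁆ ∈ N}
  one_mem' := ⟨one_mem _, fun x _ => by rw [commutatorElement_one_right]; exact one_mem _⟩
  mul_mem' := by
    rintro a b ⟨ha, ha'⟩ ⟨hb, hb'⟩
    refine ⟨mul_mem ha hb, fun x hx => ?_⟩
    have h1 : ⁅x, a * b⁆ = ⁅x, a⁆ * (a * ⁅x, b⁆ * a⁻¹) := by
      simp only [commutatorElement_def]; group
    rw [h1]
    exact N.mul_mem (ha' x hx) ((mem_normalizer_iff.1 ha _).1 (hb' x hx))
  inv_mem' := by
    rintro a ⟨ha, ha'⟩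
    refine ⟨inv_mem ha, fun x hx => ?_⟩
    have h1 : ⁅x, a⁻¹⁆ = a⁻¹ * (⁅x, a⁆)⁻¹ * (a⁻¹)⁻¹ := by
      simp only [commutatorElement_def]; group
    rw [h1]
    exact (mem_normalizer_iff.1 (inv_mem ha) _).1 (N.inv_mem (ha' x hx))

theorem le_CM_iff {X N A : Subgroup G} :
    A ≤ CM X N ↔ A ≤ normalizer (N : Set G) ∧ ⁅X, A⁆ ≤ N := by
  rw [Subgroup.commutator_le]
  constructor
  · intro h; exact ⟨fun a ha => (h ha).1, fun x hx a ha => (h ha).2 x hx⟩
  · rintro ⟨h1, h2⟩ a ha; exact ⟨h1 ha, fun x hx => h2 x hx a ha⟩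

theorem commutator_sup_le {X A B N : Subgroup G} (hA : A ≤ normalizer (N : Set G))
    (hB : B ≤ normalizer (N : Set G)) (h1 : ⁅X, A⁆ ≤ N) (h2 : ⁅X, B⁆ ≤ N) : ⁅X, A ⊔ B⁆ ≤ N :=
  (le_CM_iff.1 (sup_le (le_CM_iff.2 ⟨hA, h1⟩) (le_CM_iff.2 ⟨hB, h2⟩))).2

theorem sup_commutator_le {X A B N : Subgroup G} (hA : A ≤ normalizer (N : Set G))
    (hB : B ≤ normalizer (N : Set G)) (h1 : ⁅A, X⁆ ≤ N) (h2 : ⁅B, X⁆ ≤ N) : ⁅A ⊔ B, X⁆ ≤ N := by
  rw [Subgroup.commutator_comm] at h1 h2 ⊢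
  exact commutator_sup_le hA hB h1 h2

theorem commutator_closure_le {X N : Subgroup G} {s : Set G}
    (hs : ∀ a ∈ s, a ∈ normalizer (N : Set G)) (h : ∀ a ∈ s, ∀ x ∈ X, ⁅x, a⁆ ∈ N) :
    ⁅X, Subgroup.closure s⁆ ≤ N :=
  (le_CM_iff.1 ((Subgroup.closure_le (CM X N)).2 fun a ha => ⟨hs a ha, h a ha⟩)).2

theorem commutator_sSup_le {X N : Subgroup G} {s : Set (Subgroup G)}
    (hs : ∀ A ∈ s, A ≤ normalizer (N : Set G)) (h : ∀ A ∈ s, ⁅X, A⁆ ≤ N) : ⁅X, sSup s⁆ ≤ N :=
  (le_CM_iff.1 (sSup_le fun A hA => le_CM_iff.2 ⟨hs A hA, h A hA⟩)).2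

/-- if `[X, A] ≤ N ≤ X`-ish: `A` normalizes `X ⊔ N`. -/
theorem le_normalizer_sup_of_commutator_le [Finite G] {X A N : Subgroup G}
    (hA : A ≤ normalizer (N : Set G)) (h : ⁅X, A⁆ ≤ N) : A ≤ normalizer ((X ⊔ N : Subgroup G) : Set G) := by
  intro a ha
  rw [← cj_eq_self_iff]
  apply cj_eq_of_le
  rw [cj_sup]
  apply sup_le
  · rintro _ ⟨x, hx, rfl⟩
    have h1 : (MulAut.conj a).toMonoidHom x = x * ⁅x⁻¹, a⁆ := by
      show a * x * a⁻¹ = _
      simp only [commutatorElement_def]; group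
    rw [h1]
    exact mul_mem (mem_sup_left hx)
      (mem_sup_right (h (Subgroup.commutator_mem_commutator (inv_mem hx) ha)))
  · rw [cj_eq_self_iff.2 (hA ha)]; exact le_sup_right

/-- stability: a group generated by elements of odd order stabilizing `X ≥ Y ≥ 1`, `Y` of exponent 2,
centralizes `X`. -/
theorem le_centralizer_of_stab {X Y K : Subgroup G}
    (hgen : Subgroup.closure {g : G | g ∈ K ∧ Odd (orderOf g)} = K)
    (h1 : ⁅K, X⁆ ≤ Y) (h2 : K ≤ centralizer (Y : Set G)) (h3 : ∀ y ∈ Y, y * y = 1) :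
    K ≤ centralizer (X : Set G) := by
  have hsq : ∀ k ∈ K, k ^ 2 ∈ centralizer (X : Set G) := by
    intro k hk
    rw [mem_centralizer_iff]
    intro x hx
    have hy : ⁅k, x⁆ ∈ Y := h1 (Subgroup.commutator_mem_commutator hk hx)
    have hc : ⁅k, x⁆ * k = k * ⁅k, x⁆ := mem_centralizer_iff.1 (h2 hk) _ hy
    have hkx : k * x = ⁅k, x⁆ * x * k := by simp only [commutatorElement_def]; group
    calc x * k ^ 2 = (⁅k, x⁆ * ⁅k, x⁆) * x * k ^ 2 := by rw [h3 _ hy, one_mul]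
      _ = ⁅k, x⁆ * (⁅k, x⁆ * x * k) * k := by rw [pow_two]; group
      _ = ⁅k, x⁆ * (k * x) * k := by rw [← hkx]
      _ = (⁅k, x⁆ * k) * x * k := by group
      _ = k * (⁅k, x⁆ * x * k) := by rw [hc]; group
      _ = k * (k * x) := by rw [← hkx]
      _ = k ^ 2 * x := by rw [pow_two]; group
  conv_lhs => rw [← hgen]
  rw [Subgroup.closure_le]
  rintro g ⟨hg, hodd⟩
  obtain ⟨m, hm⟩ := hodd
  have : g = (g ^ 2) ^ (m + 1) := by
    rw [← pow_mul, show 2 * (m + 1) = orderOf g + 1 by omega, pow_succ, pow_orderOf_eq_one, one_mul]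
  rw [SetLike.mem_coe, this]
  exact pow_mem (hsq g hg) _

theorem normalizer_le_normalizer_cent (X : Subgroup G) :
    normalizer (X : Set G) ≤ normalizer (centralizer (X : Set G) : Set G) := by
  intro g hg
  rw [← cj_eq_self_iff, ← centralizer_cj, cj_eq_self_iff.2 hg]

/-! ### the subgroup `W_K` -/

theorem le_normalizer_omega_pCoreOf (K : Subgroup G) :
    K ≤ normalizer (omegaCenterOf (pCoreOf 2 K) : Set G) :=
  (le_normalizer_pCoreOf 2 K).trans (normalizer_le_normalizer_omegaCenterOf _)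

theorem wOf_le_omega (K : Subgroup G) : wOf K ≤ omegaCenterOf (pCoreOf 2 K) := by
  unfold wOf
  rw [Subgroup.commutator_le]
  intro u hu k hk
  have h1 : ⁅u, k⁆ = u * (k * u⁻¹ * k⁻¹) := by simp only [commutatorElement_def]; group
  rw [h1]
  exact mul_mem hu ((mem_normalizer_iff.1 (le_normalizer_omega_pCoreOf K hk) _).1 (inv_mem hu))

theorem wOf_le_pCoreOf (K : Subgroup G) : wOf K ≤ pCoreOf 2 K :=
  (wOf_le_omega K).trans (omegaCenterOf_le _)

theorem wOf_le (K : Subgroup G) : wOf K ≤ K := (wOf_le_pCoreOf K).trans (pCoreOf_le 2 K)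

theorem pCoreOf_le_centralizer_wOf (K : Subgroup G) : pCoreOf 2 K ≤ centralizer (wOf K : Set G) := by
  rw [le_centralizer_iff]
  exact (wOf_le_omega K).trans (omegaCenterOf_le_centralizer _)

theorem le_normalizer_wOf (K : Subgroup G) : K ≤ normalizer (wOf K : Set G) :=
  le_normalizer.trans (normalizer_le_normalizer_wOf K)

theorem wOf_PE (K : Subgroup G) : PE 2 (wOf K) := (omegaCenterOf_PE _).mono (wOf_le_omega K)

section JC

variable {T K : Subgroup G}

theorem jc_pRes_eq (hK : IsJComponent T K) : (pResidual 2 K).map K.subtype = K := by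
  rw [pRes_eq_closure]
  conv_rhs => rw [← hK.1]
  congr 1
  ext g
  simp only [Set.mem_ofPred_eq, Nat.coprime_two_right]

theorem jc_JJ_le_normalizer (hK : IsJComponent T K) : JJ T ≤ normalizer (K : Set G) :=
  Helper55.le_normalizer_of_commutator_le hK.2.1.le

theorem jc_le_of_le_sup (hK : IsJComponent T K) {Q N : Subgroup G} (hQ : IsPGroup 2 Q)
    (hQN : Q ≤ normalizer (N : Set G)) (h : K ≤ Q ⊔ N) : K ≤ N :=
  (jc_pRes_eq hK).ge.trans (pRes_le_of_le_sup hQN hQ h)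

theorem jc_not_isPGroup (hK : IsJComponent T K) : ¬ IsPGroup 2 K := by
  intro h
  have h1 : K ≤ pCoreOf 2 K := le_pCoreOf le_rfl le_normalizer h
  have h2 := hK.2.2.1
  rw [Subgroup.relIndex_eq_one.2 h1] at h2
  omega

theorem jc_not_le_pCoreOf (hK : IsJComponent T K) : ¬ K ≤ pCoreOf 2 K := fun h =>
  jc_not_isPGroup hK ((pCoreOf_isPGroup 2 K).to_le h)

/-- a subgroup between `O₂(K)` and `K`. -/
theorem jc_eq_or_eq (hK : IsJComponent T K) {B : Subgroup G} (h1 : pCoreOf 2 K ≤ B) (h2 : B ≤ K) :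
    B = pCoreOf 2 K ∨ B = K :=
  eq_or_eq_of_relIndex_prime Nat.prime_three h1 h2 hK.2.2.1

theorem jc_wOf_ne_bot (hK : IsJComponent T K) : wOf K ≠ ⊥ := by
  intro h
  have := hK.2.2.2.2.1
  rw [h, Subgroup.card_bot] at this
  omega

theorem jc_not_le_centralizer_wOf (hK : IsJComponent T K) : ¬ K ≤ centralizer (wOf K : Set G) := by
  intro h
  have h1 : K ≤ centralizer (omegaCenterOf (pCoreOf 2 K) : Set G) :=
    le_centralizer_of_stab hK.1 (by rw [Subgroup.commutator_comm]; exact le_rfl) h hK.2.2.2.2.2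
  apply jc_wOf_ne_bot hK
  unfold wOf
  rw [Subgroup.commutator_comm, Subgroup.commutator_eq_bot_iff_le_centralizer]
  exact h1

theorem jc_wOf_irred (hK : IsJComponent T K) {W₀ : Subgroup G} (h1 : W₀ ≤ wOf K)
    (h2 : K ≤ normalizer (W₀ : Set G)) (h3 : W₀ ≠ ⊥) : W₀ = wOf K := by
  by_contra hne
  have hfin : Finite (wOf K) := Nat.finite_of_card_ne_zero (by rw [hK.2.2.2.2.1]; omega)
  have hfin0 : Finite W₀ := Finite.of_injective (Subgroup.inclusion h1) (Subgroup.inclusion_injective h1)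
  have hc := Subgroup.relIndex_mul_relIndex ⊥ W₀ (wOf K) bot_le h1
  rw [Subgroup.relIndex_bot_left, Subgroup.relIndex_bot_left, hK.2.2.2.2.1] at hc
  have hc1 : Nat.card W₀ ≠ 1 := fun h => h3 (Subgroup.card_eq_one.1 h)
  have hr1 : W₀.relIndex (wOf K) ≠ 1 := fun h => hne (le_antisymm h1 (Subgroup.relIndex_eq_one.1 h))
  have hc2 : Nat.card W₀ = 2 ∧ W₀.relIndex (wOf K) = 2 := by
    have hd : Nat.card W₀ ∣ 4 := ⟨_, hc.symm⟩
    have hle : Nat.card W₀ ≤ 4 := Nat.le_of_dvd (by omega) hd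
    generalize Nat.card W₀ = c at *
    generalize W₀.relIndex (wOf K) = r at *
    interval_cases c
    · omega
    · omega
    · omega
    · omega
    · omega
  apply jc_not_le_centralizer_wOf hK
  apply le_centralizer_of_stab (Y := W₀) hK.1
  · rw [Subgroup.commutator_le]
    intro k hk w hw
    have hidx : (W₀.subgroupOf (wOf K)).index = 2 := hc2.2
    have hkw : k * w * k⁻¹ ∈ wOf K := (mem_normalizer_iff.1 (le_normalizer_wOf K hk) _).1 hw
    have := Subgroup.mul_mem_iff_of_index_two hidx (a := ⟨k * w * k⁻¹, hkw⟩) (b := ⟨w⁻¹, inv_mem hw⟩)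
    simp only [Subgroup.mem_subgroupOf, Subgroup.coe_mul] at this
    rw [commutatorElement_def]
    rw [this, inv_mem_iff]
    exact (mem_normalizer_iff.1 (h2 hk) _).symm
  · intro k hk
    rw [mem_centralizer_iff]
    intro y hy
    by_cases hy1 : y = 1
    · rw [hy1]; simp
    · obtain ⟨z, _, hz⟩ := (Nat.card_eq_two_iff' (1 : W₀)).1 hc2.1
      have e1 := hz ⟨y, hy⟩ (fun h => hy1 (congrArg Subtype.val h))
      have hy' : k * y * k⁻¹ ∈ W₀ := (mem_normalizer_iff.1 (h2 hk) _).1 hy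
      have e2 := hz ⟨k * y * k⁻¹, hy'⟩ (fun h => hy1 (by
        have := congrArg Subtype.val h
        simpa using this))
      have e3 : k * y * k⁻¹ = y := congrArg Subtype.val (e2.trans e1.symm)
      calc y * k = (k * y * k⁻¹) * k := by rw [e3]
        _ = k * y := by group
  · intro y hy
    exact hK.2.2.2.2.2 y (h1 hy)

theorem jc_inf_centralizer_wOf (hK : IsJComponent T K) :
    K ⊓ centralizer (wOf K : Set G) = pCoreOf 2 K := by
  rcases jc_eq_or_eq hK (le_inf (pCoreOf_le 2 K) (pCoreOf_le_centralizer_wOf K)) inf_le_left with h | h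
  · exact h
  · exact absurd (h.ge.trans inf_le_right) (jc_not_le_centralizer_wOf hK)

theorem jc_wOf_inf_centralizer (hK : IsJComponent T K) : wOf K ⊓ centralizer (K : Set G) = ⊥ := by
  by_contra h
  have h1 := jc_wOf_irred hK (W₀ := wOf K ⊓ centralizer (K : Set G)) inf_le_left
    (le_normalizer_inf (le_normalizer_wOf K) (le_normalizer.trans (normalizer_le_normalizer_cent K))) h
  apply jc_not_le_centralizer_wOf hK
  rw [le_centralizer_iff, ← h1]
  exact inf_le_right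

end JC

end Cfsg.Agent.Lib.Helper53.JC
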