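import Cfsg.Agent.Lib.Helper53.SA2Defs
import Cfsg.Agent.Lib.Helper9.SALoc

/-!
# Ladder BA, rung LOC1 (helper9's `SALoc.loc` without the `x`-fields)
-/

set_option autoImplicit false

namespace Cfsg.Agent.Lib.Helper53.BA

open Cfsg Subgroup
open Cfsg.Agent.Lib.Helper53 Cfsg.Agent.Lib.Helper53.SA2
open Cfsg.Agent.Lib.Helper53.SA (ZP)
open Cfsg.Agent.Lib.Helper53.JC (cjj QQ)
open Cfsg.Agent.Lib.Helper9.SA (omega_le_ZP ZP_le_of le_normalizer_ZP)

variable {G : Type*} [Group G] [Finite G]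

/-- the two indices -/
theorem indices {P T : Subgroup G} (hsyl0 : IsSylowTwoIn T P) (h6 : (pCoreOf 2 P).relIndex P = 6) :
    QQ P ≤ T ∧ (QQ P).relIndex T = 2 ∧ T.relIndex P = 3 := by
  have hsyl : IsSyl 2 T P := JC.isSylowTwoIn_iff.1 hsyl0
  have hQT : QQ P ≤ T := pCoreOf_le_isSyl hsyl
  have h1 := Subgroup.relIndex_mul_relIndex (QQ P) T P hQT hsyl0.1
  rw [h6] at h1
  obtain ⟨n, hn⟩ := (hsyl0.2.1).index ((QQ P).subgroupOf T)
  have hn' : (QQ P).relIndex T = 2 ^ n := hn
  have hodd := hsyl0.2.2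
  refine ⟨hQT, ?_⟩
  have hd : T.relIndex P ∣ 6 := ⟨_, by rw [mul_comm]; exact h1.symm⟩
  have hle : T.relIndex P ≤ 6 := Nat.le_of_dvd (by norm_num) hd
  generalize T.relIndex P = m at *
  generalize (QQ P).relIndex T = k at *
  interval_cases m
  · simp at hd
  · exfalso
    have : k = 6 := by omega
    rw [this] at hn'
    have h2 : (3 : ℕ) ∣ 2 ^ n := ⟨2, by omega⟩
    have := (Nat.Prime.dvd_of_dvd_pow Nat.prime_three h2)
    omega
  · exact absurd hodd (by decide)
  · exact ⟨by omega, rfl⟩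
  · exact absurd hodd (by decide)
  · omega
  · exact absurd hodd (by decide)

theorem loc1 : Loc1St G := by
  intro P T hsyl0 h6 hchar hZ
  obtain ⟨hQT, hi2, hi3⟩ := indices hsyl0 h6
  have hTP : T ≤ P := hsyl0.1
  have hT2 : IsPGroup 2 T := hsyl0.2.1
  have hPQ : P ≤ normalizer (QQ P : Set G) := le_normalizer_pCoreOf 2 P
  have hmax : ∀ a ∈ P, a ∉ T → ∀ H : Subgroup G, T ≤ H → a ∈ H → P ≤ H := by
    intro a ha haT H hTH haH
    rcases JC.eq_or_eq_of_relIndex_prime Nat.prime_three (le_inf hTH hTP) inf_le_right hi3 with h1 | h1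
    · exact absurd (h1 ▸ (⟨haH, ha⟩ : a ∈ H ⊓ P)) haT
    · exact h1 ▸ inf_le_left
  have hnotn : ¬ P ≤ normalizer (T : Set G) := by
    intro hn
    have h1 : T ≤ QQ P := le_pCoreOf hTP hn hT2
    have h2 : (QQ P).relIndex T = 1 := relIndex_eq_one.2 h1
    omega
  have hselfn : ∀ a ∈ P, cjj a T = T → a ∈ T := by
    intro a ha haT
    by_contra hc
    exact hnotn (hmax a ha hc _ le_normalizer (cj_eq_self_iff.1 haT))
  have hOm : omegaCenterOf T ≤ omegaCenterOf (QQ P) := by
    intro z hz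
    obtain ⟨hz1, hz2, hz3⟩ := JC.mem_omegaCenterOf_iff.1 hz
    have hz4 : z ∈ centralizer (QQ P : Set G) := centralizer_le hQT hz2
    exact JC.mem_omegaCenterOf_iff.2 ⟨hchar ⟨hTP hz1, hz4⟩, hz4, hz3⟩
  have hZOm : ZP P T ≤ omegaCenterOf (QQ P) :=
    ZP_le_of hOm (hPQ.trans (JC.normalizer_le_normalizer_omegaCenterOf _))
  refine
    { TP := hTP
      QT := hQT
      ind2 := ?_
      max := hmax
      selfn := hselfn
      inter := ?_
      exm := ?_
      ZQ := hZOm.trans (JC.omegaCenterOf_le _)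
      Zn := le_normalizer_ZP P T
      QZ := ?_
      Zexp := ?_
      CZ := ?_
      Zne := ?_ }
  · intro a b ha hb haQ hbQ
    have := (Subgroup.mul_mem_iff_of_index_two (H := (QQ P).subgroupOf T) hi2
      (a := ⟨a, ha⟩) (b := ⟨b, hb⟩)).2
    simp only [mem_subgroupOf] at this
    exact this ⟨fun h => absurd h haQ, fun h => absurd h hbQ⟩
  · intro a ha haT
    have h1 : QQ P ≤ T ⊓ cjj a T := by
      refine le_inf hQT ?_
      have : cjj a (QQ P) = QQ P := cj_eq_self_iff.2 (hPQ ha)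
      rw [← this]
      exact cj_mono a hQT
    rcases JC.eq_or_eq_of_relIndex_prime Nat.prime_two h1 inf_le_left hi2 with h2 | h2
    · exact h2.le
    · exfalso
      have h3 : T ≤ cjj a T := inf_eq_left.1 h2
      have h4 : cjj a T = T :=
        (Subgroup.eq_of_le_of_card_ge h3 (card_cj T a).le).symm
      exact haT (hselfn a ha h4)
  · by_contra hc
    have hc' : P ≤ T := fun a ha => by
      by_contra haT
      exact hc ⟨a, ha, haT⟩
    have : T.relIndex P = 1 := relIndex_eq_one.2 hc'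
    omega
  · rw [le_centralizer_iff]
    exact hZOm.trans (JC.omegaCenterOf_le_centralizer _)
  · intro z hz
    have := (JC.mem_omegaCenterOf_iff.1 (hZOm hz)).2.2
    rwa [pow_two] at this
  · by_cases hc : P ⊓ centralizer (ZP P T : Set G) ≤ T
    · apply le_pCoreOf inf_le_left _ (hT2.to_le hc)
      exact le_normalizer_inf le_normalizer
        ((le_normalizer_ZP P T).trans (JC.normalizer_le_normalizer_cent _))
    · exfalso
      obtain ⟨d, hd, hdT⟩ := SetLike.not_le_iff_exists.1 hc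
      apply hZ
      apply hmax d hd.1 hdT
      · rw [le_centralizer_iff]
        exact JC.omegaCenterOf_le_centralizer T
      · exact centralizer_le (omega_le_ZP P T) hd.2
  · intro hb
    apply hZ
    have : omegaCenterOf T = ⊥ := le_bot_iff.1 (hb ▸ omega_le_ZP P T)
    rw [this]
    intro a _
    rw [mem_centralizer_iff]
    intro y hy
    have hy' : y = 1 := hy
    rw [hy']
    simp

end Cfsg.Agent.Lib.Helper53.BA
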