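import Cfsg.Agent.Lib.Helper53.SADefs

set_option autoImplicit false

/-! The abstract amalgam geometry over an arbitrary vertex `G`-set `V` (needed for bipartite coset
geometries), and the bipartite coset geometry of a pair `P₁, P₂`. -/

namespace Cfsg.Agent.Lib.Helper53.SA2

open Cfsg Subgroup
open Cfsg.Agent.Lib.Helper53.JC (cjj QQ)
open Cfsg.Agent.Lib.Helper53.SA (ZP)

variable {G : Type*} [Group G] {V : Type*} [MulAction G V]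

/-- The abstract geometry: vertices are the elements of a `G`-set `V`; `Pc g`, `Qc g`, `Zc g` are
the stabilizer of the vertex, its `O₂`, and its `Z`. -/
structure Geo (Pc Qc Zc : V → Subgroup G) (Adj : V → V → Prop) : Prop where
  symm : ∀ g h, Adj g h → Adj h g
  QP : ∀ g, Qc g ≤ Pc g
  ZQ : ∀ g, Zc g ≤ Qc g
  Qn : ∀ g, Pc g ≤ normalizer (Qc g : Set G)
  Zn : ∀ g, Pc g ≤ normalizer (Zc g : Set G)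
  QZ : ∀ g, Qc g ≤ centralizer (Zc g : Set G)
  Zexp : ∀ g, ∀ z ∈ Zc g, z * z = 1
  CZ : ∀ g, Pc g ⊓ centralizer (Zc g : Set G) ≤ Qc g
  QT : ∀ g h, Adj g h → Qc g ≤ Pc h
  ind2 : ∀ g h, Adj g h → ∀ a b, a ∈ Pc g ⊓ Pc h → b ∈ Pc g ⊓ Pc h → a ∉ Qc g → b ∉ Qc g → a * b ∈ Qc g
  max : ∀ g h, Adj g h → ∀ a ∈ Pc g, a ∉ Pc h → ∀ H : Subgroup G, Pc g ⊓ Pc h ≤ H → a ∈ H → Pc g ≤ H
  act : ∀ g h, Adj g h → ∀ a ∈ Pc g, Adj g (a • h)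
  Pmul : ∀ (a : G) (g : V), Pc (a • g) = cjj a (Pc g)
  Qmul : ∀ (a : G) (g : V), Qc (a • g) = cjj a (Qc g)
  Zmul : ∀ (a : G) (g : V), Zc (a • g) = cjj a (Zc g)
  same : ∀ g h k, Adj g h → Adj g k → Pc g ⊓ Pc h = Pc g ⊓ Pc k → Qc h = Qc k
  inter : ∀ g h k, Adj g h → Adj g k → Pc g ⊓ Pc h ≠ Pc g ⊓ Pc k → Pc g ⊓ Pc h ⊓ Pc k ≤ Qc g
  move : ∀ g h, Adj g h → ∀ a ∈ Pc g, a ∉ Pc h → Pc g ⊓ Pc (a • h) ≠ Pc g ⊓ Pc h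
  exm : ∀ g h, Adj g h → ∃ a ∈ Pc g, a ∉ Pc h
  noZ : ∀ g h, Adj g h → ∀ c, c ∈ Pc g → c ∈ Pc h → Pc g ≤ centralizer {c} → Pc h ≤ centralizer {c} →
    c = 1
  noN : ∀ g h, Adj g h → ¬ Pc g ≤ normalizer ((Zc g ⊔ Zc h : Subgroup G) : Set G)
  exc : ∃ (n : ℕ) (δ : ℕ → V), (∀ i < n, Adj (δ i) (δ (i + 1))) ∧ ¬ Zc (δ 0) ≤ Qc (δ n)

/-- `δ 0, …, δ n` is a walk. -/
def IsWalk (Adj : V → V → Prop) (n : ℕ) (δ : ℕ → V) : Prop := ∀ i < n, Adj (δ i) (δ (i + 1))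

/-- a walk of length `n` with `Z_{δ 0} ≰ Q_{δ n}`. -/
def Crit (Qc Zc : V → Subgroup G) (Adj : V → V → Prop) (n : ℕ) (δ : ℕ → V) : Prop :=
  IsWalk Adj n δ ∧ ¬ Zc (δ 0) ≤ Qc (δ n)

/-- no critical walk of length `< b`. -/
def Min (Qc Zc : V → Subgroup G) (Adj : V → V → Prop) (b : ℕ) : Prop :=
  ∀ n < b, ∀ δ : ℕ → V, IsWalk Adj n δ → Zc (δ 0) ≤ Qc (δ n)

/-- prepend a vertex to a walk. -/
def cons (l : V) (δ : ℕ → V) : ℕ → V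
  | 0 => l
  | (i + 1) => δ i

/-- the reversed walk. -/
def rev (n : ℕ) (δ : ℕ → V) : ℕ → V := fun i => δ (n - i)

/-- `r` is "the" commutator of the critical walk `δ` of length `b`. -/
structure IsR (Pc Qc Zc : V → Subgroup G) (b : ℕ) (δ : ℕ → V) (r : G) : Prop where
  ne : r ≠ 1
  mem0 : r ∈ Zc (δ 0)
  memb : r ∈ Zc (δ b)
  st : ∀ s ∈ Zc (δ 0), s ∉ Qc (δ b) → ∀ t ∈ Zc (δ b), t ∉ Qc (δ 0) → s * t * s⁻¹ * t⁻¹ = r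
  c0 : ∀ z ∈ Zc (δ 0), ∀ a ∈ Pc (δ 0) ⊓ Pc (δ 1), a * z * a⁻¹ * z⁻¹ = 1 ∨ a * z * a⁻¹ * z⁻¹ = r
  cb : ∀ z ∈ Zc (δ b), ∀ a ∈ Pc (δ (b - 1)) ⊓ Pc (δ b), a * z * a⁻¹ * z⁻¹ = 1 ∨ a * z * a⁻¹ * z⁻¹ = r
  z0 : Pc (δ 0) ⊓ Pc (δ 1) ≤ centralizer {r}
  zb : Pc (δ (b - 1)) ⊓ Pc (δ b) ≤ centralizer {r}

variable (G V)

/-- RUNG CRIT. -/
def CritSt : Prop := ∀ (Pc Qc Zc : V → Subgroup G) (Adj : V → V → Prop), Geo Pc Qc Zc Adj →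
  ∀ (b : ℕ) (δ : ℕ → V), 1 ≤ b → Min Qc Zc Adj b → Crit Qc Zc Adj b δ →
    Crit Qc Zc Adj b (rev b δ) ∧ Zc (δ 0) ≤ Pc (δ (b - 1)) ⊓ Pc (δ b) ∧ Zc (δ b) ≤ Pc (δ 0) ⊓ Pc (δ 1) ∧
      ∃ r, IsR Pc Qc Zc b δ r

/-- RUNG SHIFT (no "case I"). -/
def ShiftSt : Prop := ∀ (Pc Qc Zc : V → Subgroup G) (Adj : V → V → Prop), Geo Pc Qc Zc Adj →
  ∀ (b : ℕ) (δ : ℕ → V), 2 ≤ b → Min Qc Zc Adj b → Crit Qc Zc Adj b δ →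
    ∀ l : V, Adj (δ 0) l → Pc (δ 0) ⊓ Pc l ≠ Pc (δ 0) ⊓ Pc (δ 1) → Crit Qc Zc Adj b (cons l δ)

/-- RUNG CLAIMA. -/
def ClaimASt : Prop := ∀ (Pc Qc Zc : V → Subgroup G) (Adj : V → V → Prop), Geo Pc Qc Zc Adj →
  ∀ (b : ℕ) (δ : ℕ → V), 2 ≤ b → Min Qc Zc Adj b → Crit Qc Zc Adj b δ →
    ∀ r, IsR Pc Qc Zc b δ r → Pc (δ 1) ≤ centralizer {r} ∧ Pc (δ (b - 1)) ≤ centralizer {r}

/-- RUNG B3. -/
def B3St : Prop := ∀ (Pc Qc Zc : V → Subgroup G) (Adj : V → V → Prop), Geo Pc Qc Zc Adj →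
  ∀ (b : ℕ) (δ : ℕ → V), Min Qc Zc Adj b → Crit Qc Zc Adj b δ → b < 3

/-- RUNG B2. -/
def B2St : Prop := ∀ (Pc Qc Zc : V → Subgroup G) (Adj : V → V → Prop), Geo Pc Qc Zc Adj →
  ∀ (δ : ℕ → V), Min Qc Zc Adj 2 → ¬ Crit Qc Zc Adj 2 δ


variable {G V}

/-! ### The bipartite coset geometry of a pair `P₁, P₂` over `T` -/

/-- Hypotheses on the pair `P₁, P₂` with common Sylow 2-subgroup `T`. -/
structure BHyp (P₁ P₂ T : Subgroup G) : Prop where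
  syl₁ : IsSylowTwoIn T P₁
  syl₂ : IsSylowTwoIn T P₂
  h6₁ : (pCoreOf 2 P₁).relIndex P₁ = 6
  h6₂ : (pCoreOf 2 P₂).relIndex P₂ = 6
  hchar₁ : P₁ ⊓ centralizer (pCoreOf 2 P₁ : Set G) ≤ pCoreOf 2 P₁
  hchar₂ : P₂ ⊓ centralizer (pCoreOf 2 P₂ : Set G) ≤ pCoreOf 2 P₂
  hZ₁ : ¬ P₁ ≤ centralizer (omegaCenterOf T : Set G)
  hZ₂ : ¬ P₂ ≤ centralizer (omegaCenterOf T : Set G)
  hcore : ∀ N : Subgroup G, N ≤ T → P₁ ≤ normalizer (N : Set G) → P₂ ≤ normalizer (N : Set G) → N = ⊥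

theorem BHyp.symm {P₁ P₂ T : Subgroup G} (h : BHyp P₁ P₂ T) : BHyp P₂ P₁ T :=
  ⟨h.syl₂, h.syl₁, h.h6₂, h.h6₁, h.hchar₂, h.hchar₁, h.hZ₂, h.hZ₁, fun N h1 h2 h3 => h.hcore N h1 h3 h2⟩

/-- Local facts on one member `P` of the pair (the `x`-free part of `SA.Loc`). -/
structure Loc1 (P T : Subgroup G) : Prop where
  TP : T ≤ P
  QT : QQ P ≤ T
  ind2 : ∀ a b, a ∈ T → b ∈ T → a ∉ QQ P → b ∉ QQ P → a * b ∈ QQ P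
  max : ∀ a ∈ P, a ∉ T → ∀ H : Subgroup G, T ≤ H → a ∈ H → P ≤ H
  selfn : ∀ a ∈ P, cjj a T = T → a ∈ T
  inter : ∀ a ∈ P, a ∉ T → T ⊓ cjj a T ≤ QQ P
  exm : ∃ a ∈ P, a ∉ T
  ZQ : ZP P T ≤ QQ P
  Zn : P ≤ normalizer (ZP P T : Set G)
  QZ : QQ P ≤ centralizer (ZP P T : Set G)
  Zexp : ∀ z ∈ ZP P T, z * z = 1
  CZ : P ⊓ centralizer (ZP P T : Set G) ≤ QQ P
  Zne : ZP P T ≠ ⊥

/-- vertices of the bipartite coset geometry: `(g, false)` stands for `g P₁`, `(g, true)` for `g P₂`. -/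
structure BV (G : Type*) where
  g : G
  i : Bool

instance : MulAction G (BV G) where
  smul a v := ⟨a * v.g, v.i⟩
  one_smul v := by cases v; simp [HSMul.hSMul]
  mul_smul a b v := by cases v; simp [HSMul.hSMul, mul_assoc]

theorem BV.smul_g (a : G) (v : BV G) : (a • v).g = a * v.g := rfl

theorem BV.smul_i (a : G) (v : BV G) : (a • v).i = v.i := rfl

/-- `P₁` or `P₂`. -/
def sel (P₁ P₂ : Subgroup G) (i : Bool) : Subgroup G := bif i then P₂ else P₁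

/-- adjacency: the cosets `v.g P_{v.i}` and `w.g P_{w.i}` are of different type and meet. -/
def BAdj (P₁ P₂ : Subgroup G) (v w : BV G) : Prop :=
  v.i ≠ w.i ∧ ∃ p ∈ sel P₁ P₂ v.i, ∃ p' ∈ sel P₁ P₂ w.i, w.g = v.g * p * p'

variable (G)

/-- RUNG LOC1. -/
def Loc1St : Prop := ∀ P T : Subgroup G, IsSylowTwoIn T P → (pCoreOf 2 P).relIndex P = 6 →
  P ⊓ centralizer (pCoreOf 2 P : Set G) ≤ pCoreOf 2 P → ¬ P ≤ centralizer (omegaCenterOf T : Set G) →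
  Loc1 P T

/-- RUNG BGEO: the bipartite coset geometry is a `Geo` as soon as "case I" is excluded. -/
def BGeoSt : Prop := ∀ P₁ P₂ T : Subgroup G, BHyp P₁ P₂ T →
  ¬ P₁ ≤ normalizer ((ZP P₁ T ⊔ ZP P₂ T : Subgroup G) : Set G) →
  ¬ P₂ ≤ normalizer ((ZP P₂ T ⊔ ZP P₁ T : Subgroup G) : Set G) →
  Geo (fun v : BV G => cjj v.g (sel P₁ P₂ v.i)) (fun v => cjj v.g (QQ (sel P₁ P₂ v.i)))
    (fun v => cjj v.g (ZP (sel P₁ P₂ v.i) T)) (BAdj P₁ P₂)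

/-- RUNG BEND: the case `b = 1`. -/
def BEndSt : Prop := ∀ P₁ P₂ T : Subgroup G, BHyp P₁ P₂ T →
  ¬ (ZP P₁ T ≤ QQ P₂ ∧ ZP P₂ T ≤ QQ P₁) →
  (∀ g ∈ pCoreOf 2 P₁, g * g = 1) ∧ (∀ g ∈ pCoreOf 2 P₂, g * g = 1)

/-- RUNG BSTR: identification of `P₁`, `P₂`. -/
def BStrSt : Prop := ∀ P₁ P₂ T : Subgroup G, BHyp P₁ P₂ T →
  (∀ g ∈ pCoreOf 2 P₁, g * g = 1) → (∀ g ∈ pCoreOf 2 P₂, g * g = 1) →
  (Nat.card ↥(pCoreOf 2 P₁) = 4 ∧ Nat.card ↥(pCoreOf 2 P₂) = 4 ∧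
    Nonempty (↥P₁ ≃* Equiv.Perm (Fin 4)) ∧ Nonempty (↥P₂ ≃* Equiv.Perm (Fin 4))) ∨
  (Nat.card ↥(pCoreOf 2 P₁) = 8 ∧ Nat.card ↥(pCoreOf 2 P₂) = 8 ∧
    Nonempty (↥P₁ ≃* Equiv.Perm (Fin 4) × Multiplicative (ZMod 2)) ∧
      Nonempty (↥P₂ ≃* Equiv.Perm (Fin 4) × Multiplicative (ZMod 2)))

end Cfsg.Agent.Lib.Helper53.SA2
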