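import Cfsg.Agent.Lib.Helper53.JC2Asm
import Cfsg.Agent.Lib.Helper53.SA2Defs

set_option autoImplicit false

/-! Ladder JC3, rung BH. -/

namespace Cfsg.Agent.Lib.Helper53.JC3

open Cfsg Subgroup
open Cfsg.Agent.Lib.Helper53.JC Cfsg.Agent.Lib.Helper53.JC2
open Cfsg.Agent.Lib.Helper53.SA (ZP)
open Cfsg.Agent.Lib.Helper53.SA2 (BHyp)

variable {G : Type*} [Group G] [Finite G]

theorem bhyp {T K₁ L₁ K₂ L₂ : Subgroup G} (p₁ : PPr T K₁ L₁) (p₂ : PPr T K₂ L₂) (hne : L₁ ≠ L₂) :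
    BHyp (K₁ ⊔ T) (K₂ ⊔ T) T where
  syl₁ := p₁.syl
  syl₂ := p₂.syl
  h6₁ := p₁.h6
  h6₂ := p₂.h6
  hchar₁ := inf_le_right.trans p₁.cen
  hchar₂ := inf_le_right.trans p₂.cen
  hZ₁ := by
    intro h
    apply p₁.hZ
    rw [commutator_eq_bot_iff_le_centralizer]
    exact le_centralizer_iff.1 h
  hZ₂ := by
    intro h
    apply p₂.hZ
    rw [commutator_eq_bot_iff_le_centralizer]
    exact le_centralizer_iff.1 h
  hcore := by
    intro N hNT h1 h2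
    by_contra hN1
    have h2l : IsTwoLocal (normalizer (N : Set G)) := ⟨N, p₁.syl.2.1.to_le hNT, hN1, rfl⟩
    obtain ⟨L', hL', hle⟩ := Helper64.JC.exists_maximalTwoLocal h2l
    exact hne ((p₁.uniq L' hL' (h1.trans hle)).symm.trans (p₂.uniq L' hL' (h2.trans hle)))

end Cfsg.Agent.Lib.Helper53.JC3
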