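import Cfsg.Agent.Lib.Helper53.JCDefs
import Cfsg.Agent.Lib.Helper53.Basic
import Cfsg.Agent.Lib.Helper55.TF

set_option autoImplicit false

/-! Basic API for the J(T)-component ladder: equivariance and Sylow bookkeeping. -/

namespace Cfsg.Agent.Lib.Helper53.JC

open Cfsg Subgroup
open Cfsg.Agent.Lib.Helper15.ZJ (AE PE)

variable {G : Type*} [Group G]

instance fact_two_prime : Fact (Nat.Prime 2) := ⟨Nat.prime_two⟩

theorem isSylowTwoIn_iff [Finite G] {T L : Subgroup G} : IsSylowTwoIn T L ↔ IsSyl 2 T L := by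
  rw [isSyl_iff_relIndex]
  unfold IsSylowTwoIn
  rw [← Nat.not_even_iff_odd, even_iff_two_dvd]

theorem isJComponent_congr {T T' K : Subgroup G} (h : JJ T = JJ T') :
    IsJComponent T K ↔ IsJComponent T' K := by
  unfold IsJComponent
  have h' : thompsonSubgroupOf 2 T = thompsonSubgroupOf 2 T' := h
  rw [h']

theorem omegaCenterOf_cj (g : G) (X : Subgroup G) :
    cjj g (omegaCenterOf X) = omegaCenterOf (cjj g X) :=
  Helper55.cj_omZ 2 g X

theorem JJ_cj (g : G) (T : Subgroup G) : cjj g (JJ T) = JJ (cjj g T) :=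
  Helper55.cj_thompsonSubgroupOf 2 g T

theorem wOf_cj (g : G) (K : Subgroup G) : cjj g (wOf K) = wOf (cjj g K) := by
  unfold wOf
  show (⁅_, _⁆ : Subgroup G).map _ = _
  rw [Subgroup.map_commutator]
  have h1 : (omegaCenterOf (pCoreOf 2 K)).map (MulAut.conj g).toMonoidHom =
      omegaCenterOf (pCoreOf 2 (cjj g K)) := by
    show _ = omegaCenterOf (pCoreOf 2 (K.map (MulAut.conj g).toMonoidHom))
    rw [pCoreOf_cj]; exact omegaCenterOf_cj g _
  rw [h1]

theorem relIndex_cj (g : G) (A B : Subgroup G) : (cjj g A).relIndex (cjj g B) = A.relIndex B :=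
  Subgroup.relIndex_map_map_of_injective A B (MulAut.conj g).injective

theorem isSylowTwoIn_cj {T L : Subgroup G} (g : G) (h : IsSylowTwoIn T L) :
    IsSylowTwoIn (cjj g T) (cjj g L) :=
  ⟨cj_mono g h.1, isPGroup_cj h.2.1 g, by rw [relIndex_cj]; exact h.2.2⟩

theorem cjj_inv_cjj (g : G) (K : Subgroup G) : cjj g⁻¹ (cjj g K) = K := by
  show (K.map _).map _ = K
  rw [cj_cj, inv_mul_cancel, cj_one]

theorem cjj_cjj_inv (g : G) (K : Subgroup G) : cjj g (cjj g⁻¹ K) = K := by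
  show (K.map _).map _ = K
  rw [cj_cj, mul_inv_cancel, cj_one]

theorem oddClosure_cj (g : G) (K : Subgroup G) :
    cjj g (Subgroup.closure {x : G | x ∈ K ∧ Odd (orderOf x)}) =
      Subgroup.closure {x : G | x ∈ cjj g K ∧ Odd (orderOf x)} := by
  show (Subgroup.closure _).map _ = _
  rw [MonoidHom.map_closure]
  congr 1
  ext x
  constructor
  · rintro ⟨y, ⟨hy, hy2⟩, rfl⟩
    refine ⟨cj_mem g hy, ?_⟩
    have : orderOf ((MulAut.conj g).toMonoidHom y) = orderOf y :=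
      orderOf_injective _ (MulAut.conj g).injective y
    rw [this]; exact hy2
  · rintro ⟨⟨y, hy, rfl⟩, hx2⟩
    refine ⟨y, ⟨hy, ?_⟩, rfl⟩
    have : orderOf ((MulAut.conj g).toMonoidHom y) = orderOf y :=
      orderOf_injective _ (MulAut.conj g).injective y
    rwa [this] at hx2

theorem isJComponent_cj {T K : Subgroup G} (g : G) (h : IsJComponent T K) :
    IsJComponent (cjj g T) (cjj g K) := by
  obtain ⟨h1, h2, h3, h4, h5, h6⟩ := h
  have hJ : thompsonSubgroupOf 2 (cjj g T) = cjj g (thompsonSubgroupOf 2 T) := (JJ_cj g T).symm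
  refine ⟨?_, ?_, ?_, ?_, ?_, ?_⟩
  · rw [← oddClosure_cj, h1]
  · rw [hJ]
    show ⁅K.map _, (thompsonSubgroupOf 2 T).map _⁆ = K.map _
    rw [← Subgroup.map_commutator, h2]
  · show (pCoreOf 2 (K.map (MulAut.conj g).toMonoidHom)).relIndex _ = 3
    rw [pCoreOf_cj]
    exact (relIndex_cj g _ _).trans h3
  · intro S hS hJS
    rw [hJ] at hS hJS ⊢
    have hS' := isSylowTwoIn_cj g⁻¹ hS
    have e1 : cjj g⁻¹ (cjj g K ⊔ cjj g (thompsonSubgroupOf 2 T)) = K ⊔ thompsonSubgroupOf 2 T := by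
      show (_ ⊔ _ : Subgroup G).map _ = _
      rw [cj_sup]
      exact congrArg₂ _ (cjj_inv_cjj g K) (cjj_inv_cjj g _)
    rw [e1] at hS'
    have h7 := h4 _ hS' (by
      have := cj_mono g⁻¹ hJS
      rwa [show (cjj g (thompsonSubgroupOf 2 T)).map (MulAut.conj g⁻¹).toMonoidHom = _ from
        cjj_inv_cjj g _] at this)
    have h8 : cjj g (thompsonSubgroupOf 2 (cjj g⁻¹ S)) = cjj g (thompsonSubgroupOf 2 T) := by rw [h7]
    rw [← h8]
    have := JJ_cj g (cjj g⁻¹ S)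
    rw [cjj_cjj_inv] at this
    exact this.symm
  · rw [← wOf_cj]
    exact (card_cj _ g).trans h5
  · rw [← wOf_cj]
    rintro w ⟨y, hy, rfl⟩
    rw [← map_mul, h6 y hy, map_one]

theorem isJComponent_cj_iff {T K : Subgroup G} (g : G) :
    IsJComponent (cjj g T) (cjj g K) ↔ IsJComponent T K := by
  refine ⟨fun h => ?_, isJComponent_cj g⟩
  have := isJComponent_cj g⁻¹ h
  rwa [cjj_inv_cjj, cjj_inv_cjj] at this

theorem jOvergroups_cj {T L : Subgroup G} (g : G) (h : L ∈ jOvergroups T) :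
    cjj g L ∈ jOvergroups (cjj g T) := by
  obtain ⟨h1, h2, h3⟩ := h
  refine ⟨isSylowTwoIn_cj g h1, ?_, ?_⟩
  · show ¬ _ ≤ pCoreOf 2 (L.map (MulAut.conj g).toMonoidHom)
    rw [pCoreOf_cj]
    intro h
    apply h2
    have h4 : cjj g (JJ T) ≤ cjj g (pCoreOf 2 L) := by rw [JJ_cj]; exact h
    have h5 := cj_mono g⁻¹ h4
    rwa [show (cjj g (JJ T)).map (MulAut.conj g⁻¹).toMonoidHom = _ from cjj_inv_cjj g _,
      show (cjj g (pCoreOf 2 L)).map (MulAut.conj g⁻¹).toMonoidHom = _ from cjj_inv_cjj g _] at h5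
  · show centralizer ((pCoreOf 2 (L.map (MulAut.conj g).toMonoidHom) : Subgroup G) : Set G) ≤
      pCoreOf 2 (L.map (MulAut.conj g).toMonoidHom)
    rw [pCoreOf_cj, centralizer_cj]
    exact cj_mono g h3

/-- conjugating a J(T)-component by an element normalizing `J(T)`. -/
theorem isJComponent_cj_of_mem_normalizer {T K : Subgroup G} {g : G}
    (hg : g ∈ normalizer (JJ T : Set G)) (h : IsJComponent T K) : IsJComponent T (cjj g K) := by
  have h1 := isJComponent_cj g h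
  refine (isJComponent_congr ?_).1 h1
  rw [← JJ_cj]
  exact cj_eq_self_iff.2 hg

theorem AE_card_eq {e : ℕ} {T A B : Subgroup G} (hA : A ∈ AE e T) (hB : B ∈ AE e T) :
    Nat.card A = Nat.card B :=
  le_antisymm (hB.2.2 A hA.1 hA.2.1) (hA.2.2 B hB.1 hB.2.1)

theorem AE_cj {e : ℕ} {T A : Subgroup G} (g : G) (hA : A ∈ AE e T) : cjj g A ∈ AE e (cjj g T) := by
  rw [Helper15.ZJ.AE_map (e := e) (T := T) (MulAut.conj g).toMonoidHom (MulAut.conj g).injective.injOn]
  exact ⟨A, hA, rfl⟩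

/-- the members of `AE 2 T` are members of `AE 2 L` for a Sylow 2-subgroup `T` of `L`. -/
theorem AE_syl [Finite G] {T L A : Subgroup G} (hT : IsSyl 2 T L) (hA : A ∈ AE 2 T) : A ∈ AE 2 L := by
  refine ⟨hA.1.trans hT.le, hA.2.1, fun B hB hB2 => ?_⟩
  have hBp : IsPGroup 2 B := fun b => ⟨1, by
    have := hB2.2 b b.2
    rw [pow_one]; exact Subtype.ext this⟩
  obtain ⟨P, hP, hBP⟩ := exists_isSyl_ge hB hBp
  obtain ⟨k, hk, hkP⟩ := hP.exists_conj hT
  have h1 : cjj k B ≤ T := by rw [hkP]; exact cj_mono k hBP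
  have h2 : PE 2 (cjj k B) :=
    (Helper15.ZJ.PE_map_iff (T := ⊤) (MulAut.conj k).toMonoidHom (MulAut.conj k).injective.injOn
      le_top).2 hB2
  have := hA.2.2 _ h1 h2
  rwa [show Nat.card (cjj k B) = Nat.card B from card_cj B k] at this

/-- a member of `AE 2 L` inside a subgroup `T` is in `AE 2 T`. -/
theorem AE_of_le {e : ℕ} {T L A : Subgroup G} (hTL : T ≤ L) (hA : A ∈ AE e L) (hAT : A ≤ T) :
    A ∈ AE e T :=
  ⟨hAT, hA.2.1, fun B hB hB2 => hA.2.2 B (hB.trans hTL) hB2⟩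

theorem le_JJ {T A : Subgroup G} (hA : A ∈ AE 2 T) : A ≤ JJ T := by
  show A ≤ thompsonSubgroupOf 2 T
  rw [Helper15.ZJ.thompsonSubgroupOf_eq]; exact le_sSup hA

theorem JJ_le (T : Subgroup G) : JJ T ≤ T := Helper55.thompsonSubgroupOf_le 2 T

theorem JJ_le_iff {T X : Subgroup G} : JJ T ≤ X ↔ ∀ A ∈ AE 2 T, A ≤ X := by
  show thompsonSubgroupOf 2 T ≤ X ↔ _
  rw [Helper15.ZJ.thompsonSubgroupOf_eq, sSup_le_iff]

/-- `J(T) ≤ J(L)` for a Sylow 2-subgroup `T` of `L`. -/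
theorem JJ_le_HHL [Finite G] {T L : Subgroup G} (hT : IsSyl 2 T L) : JJ T ≤ HHL L :=
  JJ_le_iff.2 fun _ hA => le_JJ (AE_syl hT hA)

/-- two Sylow 2-subgroups of `L`, one containing the `J` of the other, have the same `J`. -/
theorem JJ_eq_of_isSyl [Finite G] {T T' L : Subgroup G} (hT : IsSyl 2 T L) (hT' : IsSyl 2 T' L)
    (h : JJ T ≤ T') : JJ T' = JJ T := by
  have h1 : JJ T ≤ JJ T' := JJ_le_iff.2 fun A hA =>
    le_JJ (AE_of_le hT'.le (AE_syl hT hA) ((le_JJ hA).trans h))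
  obtain ⟨k, hk, hkP⟩ := hT.exists_conj hT'
  have h2 : Nat.card (JJ T') = Nat.card (JJ T) := by
    rw [hkP]
    have : JJ (cjj k T) = cjj k (JJ T) := (JJ_cj k T).symm
    show Nat.card (JJ (cjj k T)) = _
    rw [this]; exact card_cj _ k
  exact (Subgroup.eq_of_le_of_card_ge h1 h2.le).symm

theorem normalizer_le_normalizer_JJ (T : Subgroup G) :
    normalizer (T : Set G) ≤ normalizer (JJ T : Set G) :=
  Helper55.normalizer_le_normalizer_thompsonSubgroupOf 2 T

theorem le_normalizer_HHL (L : Subgroup G) : L ≤ normalizer (HHL L : Set G) :=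
  le_normalizer.trans (normalizer_le_normalizer_JJ L)

theorem normalizer_le_normalizer_omegaCenterOf (X : Subgroup G) :
    normalizer (X : Set G) ≤ normalizer (omegaCenterOf X : Set G) := by
  intro g hg
  rw [← cj_eq_self_iff]
  show cjj g (omegaCenterOf X) = _
  rw [omegaCenterOf_cj]
  congr 1
  exact cj_eq_self_iff.2 hg

theorem normalizer_le_normalizer_wOf (K : Subgroup G) :
    normalizer (K : Set G) ≤ normalizer (wOf K : Set G) := by
  intro g hg
  rw [← cj_eq_self_iff]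
  show cjj g (wOf K) = _
  rw [wOf_cj]
  congr 1
  exact cj_eq_self_iff.2 hg

theorem omegaCenterOf_le (X : Subgroup G) : omegaCenterOf X ≤ X := Helper55.omZ_le 2 X

theorem omegaCenterOf_le_centralizer (X : Subgroup G) :
    omegaCenterOf X ≤ centralizer (X : Set G) := Helper55.omZ_le_centralizer 2 X

theorem mem_omegaCenterOf {X : Subgroup G} {x : G} (h1 : x ∈ X) (h2 : x ∈ centralizer (X : Set G))
    (h3 : x ^ 2 = 1) : x ∈ omegaCenterOf X :=
  subset_closure ⟨⟨h1, h2⟩, h3⟩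

/-- `Ω₁(Z(X))` is elementary abelian. -/
theorem omegaCenterOf_PE (X : Subgroup G) : PE 2 (omegaCenterOf X) := by
  apply Helper15.WS.PE_closure
  · rintro x ⟨⟨hx1, hx2⟩, _⟩ y ⟨⟨hy1, hy2⟩, _⟩
    exact (mem_centralizer_iff.1 hx2 y hy1).symm
  · rintro x ⟨_, hx⟩
    exact hx

theorem mem_omegaCenterOf_iff {X : Subgroup G} {x : G} :
    x ∈ omegaCenterOf X ↔ x ∈ X ∧ x ∈ centralizer (X : Set G) ∧ x ^ 2 = 1 :=
  ⟨fun h => ⟨omegaCenterOf_le X h, omegaCenterOf_le_centralizer X h, (omegaCenterOf_PE X).2 x h⟩,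
    fun h => mem_omegaCenterOf h.1 h.2.1 h.2.2⟩

end Cfsg.Agent.Lib.Helper53.JC
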