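import Cfsg.Agent.Lib.Helper53.SAMain
import Cfsg.Agent.Lib.Helper71.SAB3
import Cfsg.Agent.Lib.Helper71.SAB2
import Cfsg.Agent.Lib.Helper9.SALoc
import Cfsg.Agent.Lib.Helper9.SAEnd
import Cfsg.Agent.Lib.Helper9.SAGeo

set_option autoImplicit false

/-! The symmetric amalgam theorem, unconditional. -/

namespace Cfsg.Agent.Lib.Helper53.SA

variable {G : Type*} [Group G]

theorem b3St : B3St G :=
  Helper71.SA.b3 Helper71.SA.crit (Helper71.SA.shift Helper71.SA.crit)
    (Helper71.SA.claimA Helper71.SA.crit (Helper71.SA.shift Helper71.SA.crit))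

theorem b2St : B2St G :=
  Helper71.SA.b2 Helper71.SA.crit (Helper71.SA.shift Helper71.SA.crit)
    (Helper71.SA.claimA Helper71.SA.crit (Helper71.SA.shift Helper71.SA.crit))

/-- abstract part, unconditional: a `Geo` has a critical edge. -/
theorem geo_crit_edge {Pc Qc Zc : G → Subgroup G} {Adj : G → G → Prop}
    (h : Geo Pc Qc Zc Adj) : ∃ g k, Adj g k ∧ ¬ Zc g ≤ Qc k :=
  exists_crit_edge b3St b2St h

/-- The symmetric amalgam theorem. -/
theorem mainSt [Finite G] : MainSt G :=
  main_of (Helper9.SA.geo Helper9.SA.loc) (Helper9.SA.end1 Helper9.SA.loc) b3St b2St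

end Cfsg.Agent.Lib.Helper53.SA
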