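import Cfsg.Prelude.Def_JComponents
import Cfsg.Agent.Lib.Helper15.ZJ

set_option autoImplicit false

/-! Kurzweil-Stellmacher ch. 12 (J(T)-components in ZN-groups): shared statements of the ladder.
`St1 .. St6` are the structure facts on a member `L` of `jOvergroups T`; the statements
S2942-S2950 are consequences of them. -/

namespace Cfsg.Agent.Lib.Helper53.JC

open Cfsg Subgroup

variable (G : Type*) [Group G]

/-- The standing hypotheses of the cluster. -/
structure ZN : Prop where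
  hL : IsCharacteristicTwoType G
  hN : ∀ N : Subgroup G, IsTwoLocal N → Group.IsSolvable ↥N
  hZ : ∀ S : Sylow 2 G, centralizer (omegaCenterOf (S : Subgroup G) : Set G) ≤
    normalizer ((S : Subgroup G) : Set G)

variable {G}

/-- `J(T)`. -/
abbrev JJ (T : Subgroup G) : Subgroup G := thompsonSubgroupOf 2 T

/-- conjugate subgroup `g K g⁻¹`. -/
abbrev cjj (g : G) (K : Subgroup G) : Subgroup G := K.map (MulAut.conj g).toMonoidHom

/-- `O₂(L)`. -/
abbrev QQ (L : Subgroup G) : Subgroup G := pCoreOf 2 L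

/-- `V = Ω₁(Z(O₂(L)))`. -/
abbrev VVL (L : Subgroup G) : Subgroup G := omegaCenterOf (pCoreOf 2 L)

/-- `C = C_L(V)`. -/
abbrev CCL (L : Subgroup G) : Subgroup G := L ⊓ centralizer (VVL L : Set G)

/-- `H = J(L)`, generated by all elementary abelian 2-subgroups of `L` of largest order. -/
abbrev HHL (L : Subgroup G) : Subgroup G := thompsonSubgroupOf 2 L

/-- `a` is *pure* for `L`: `[J(L), a] C / C` has order 1 or 3. -/
def Pure (L : Subgroup G) (a : G) : Prop :=
  (CCL L).relIndex (⁅HHL L, zpowers a⁆ ⊔ CCL L) = 1 ∨ (CCL L).relIndex (⁅HHL L, zpowers a⁆ ⊔ CCL L) = 3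

variable (G)

/-- J(T)-components of `L ∈ 𝓛(T)` are subnormal in `L` (= S2942). -/
def St1 : Prop := ∀ T L K : Subgroup G, IsPGroup 2 ↥T → L ∈ jOvergroups T → IsJComponent T K → K ≤ L →
  (K.subgroupOf L).IsSubnormal

/-- `J(L)` normalizes every J(T)-component of `L`. -/
def St2 : Prop := ∀ T L K : Subgroup G, IsPGroup 2 ↥T → L ∈ jOvergroups T → IsJComponent T K → K ≤ L →
  HHL L ≤ normalizer (K : Set G)

/-- distinct J(T)-components of `L` have independent `W`. -/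
def St3 : Prop := ∀ T L K₁ K₂ : Subgroup G, IsPGroup 2 ↥T → L ∈ jOvergroups T →
  IsJComponent T K₁ → K₁ ≤ L → IsJComponent T K₂ → K₂ ≤ L → K₁ ≠ K₂ → wOf K₁ ⊓ wOf K₂ = ⊥

/-- the set of J(T)-components of `L` is `L`-invariant. -/
def St4 : Prop := ∀ T L K : Subgroup G, IsPGroup 2 ↥T → L ∈ jOvergroups T → IsJComponent T K → K ≤ L →
  ∀ l ∈ L, IsJComponent T (cjj l K)

/-- generation: `L = ⟨J(T)-components of L⟩ N_L(J(T)) C_L(Ω₁Z(T))`. -/
def St5 : Prop := ∀ T L M : Subgroup G, IsPGroup 2 ↥T → L ∈ jOvergroups T →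
  (∀ K : Subgroup G, IsJComponent T K → K ≤ L → K ≤ M) →
  L ⊓ normalizer (JJ T : Set G) ≤ M → L ⊓ centralizer (omegaCenterOf T : Set G) ≤ M → L ≤ M

/-- existence. -/
def St6 : Prop := ∀ T L : Subgroup G, IsPGroup 2 ↥T → L ∈ jOvergroups T →
  ∃ K : Subgroup G, IsJComponent T K ∧ K ≤ L

/-- Core-1: consequences of (Z) for `L ∈ 𝓛(T)`. -/
def Core1 : Prop := ∀ T L : Subgroup G, IsPGroup 2 ↥T → L ∈ jOvergroups T →
  Group.IsSolvable ↥L ∧ omegaCenterOf T ≤ VVL L ∧
  L ⊓ centralizer (omegaCenterOf T : Set G) ≤ normalizer (T : Set G) ∧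
  T ⊓ CCL L = QQ L ∧ ⁅CCL L, T⁆ ≤ QQ L ∧
  ∀ D : Subgroup G, D ≤ L → L ≤ normalizer (D : Set G) → CCL L ≤ D →
    (∃ k : ℕ, (CCL L).relIndex D = 2 ^ k) → D = CCL L

/-- the only input from the theory of failure of factorization. -/
def FFa : Prop := ∀ T L A : Subgroup G, IsPGroup 2 ↥T → L ∈ jOvergroups T →
  A ∈ Helper15.ZJ.AE 2 T → A ≤ closure {a : G | a ∈ A ∧ Pure L a}

end Cfsg.Agent.Lib.Helper53.JC
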