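import Cfsg.Agent.Lib.Helper53.PRed

set_option autoImplicit false

namespace Cfsg.Agent.Lib.Helper53

open Cfsg
open scoped commutatorElement

variable {G : Type*} [Group G]

theorem IsPRed.of_sup_eq {p : ℕ} {V L M : Subgroup G} (h : IsPRed p V M) (hVL : V ≤ L)
    (he : L ⊔ Subgroup.centralizer (V : Set G) = M ⊔ Subgroup.centralizer (V : Set G)) :
    IsPRed p V L := by
  set C := Subgroup.centralizer (V : Set G) with hC
  have hMCN : M ⊔ C ≤ Subgroup.normalizer (V : Set G) :=
    sup_le h.le_normalizer (Subgroup.centralizer_le_normalizer _)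
  have hLN : L ≤ Subgroup.normalizer (V : Set G) := (le_sup_left.trans he.le).trans hMCN
  have hNC : Subgroup.normalizer (V : Set G) ≤ Subgroup.normalizer (C : Set G) :=
    normalizer_le_normalizer_centralizer V
  refine ⟨hVL, hLN, h.elemAb, ?_⟩
  intro D hD hn hpow
  have hDC : D ≤ Subgroup.normalizer (C : Set G) := (hD.trans hLN).trans hNC
  have h1 : M ≤ Subgroup.normalizer ((D ⊔ C : Subgroup G) : Set G) := by
    refine (le_sup_left.trans he.ge).trans (sup_le ?_ ?_)
    · exact le_normalizer_sup hn (hLN.trans hNC)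
    · exact le_sup_right.trans Subgroup.le_normalizer
  have h2 : (D ⊔ C) ⊓ M ≤ C := by
    apply h.le_centralizer inf_le_right (le_normalizer_inf h1 Subgroup.le_normalizer)
    rintro x ⟨hx, -⟩
    obtain ⟨d, hd, c, hc, rfl⟩ := (mem_sup_of_le_normalizer hDC).1 hx
    obtain ⟨n, hn⟩ := hpow d hd
    obtain ⟨c', hc', e⟩ := exists_pow_mul_eq (hDC hd) hc (p ^ n)
    exact ⟨n, by rw [e]; exact mul_mem hn hc'⟩
  intro d hd
  have h3 : d ∈ M ⊔ C := he.le (Subgroup.mem_sup_left (hD hd))
  obtain ⟨m, hm, c, hc, rfl⟩ := (mem_sup_of_le_normalizer (h.le_normalizer.trans hNC)).1 h3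
  have h4 : m ∈ (D ⊔ C) ⊓ M := by
    refine ⟨?_, hm⟩
    have : m = (m * c) * c⁻¹ := by group
    rw [this]
    exact mul_mem (Subgroup.mem_sup_left hd) (Subgroup.mem_sup_right (inv_mem hc))
  exact mul_mem (h2 h4) hc

/-- a normal subgroup acting as a `p`-group whose Sylow subgroup acts trivially acts trivially -/
theorem le_centralizer_of_isSyl [Finite G] {p : ℕ} [Fact p.Prime] {D P W : Subgroup G}
    (hP : IsSyl p P D) (hDW : D ≤ Subgroup.normalizer (W : Set G))
    (hpow : ∀ x ∈ D, ∃ n : ℕ, x ^ (p ^ n) ∈ Subgroup.centralizer (W : Set G)) {X : Subgroup G}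
    (hXW : Subgroup.centralizer (W : Set G) ≤ Subgroup.centralizer (X : Set G))
    (hPX : P ≤ Subgroup.centralizer (X : Set G)) : D ≤ Subgroup.centralizer (X : Set G) := by
  have h1 : (D ⊓ Subgroup.centralizer (W : Set G)) ⊔ P = D := by
    apply sup_isSyl_eq inf_le_left _ _ hP
    · exact le_normalizer_inf Subgroup.le_normalizer
        (hDW.trans (normalizer_le_normalizer_centralizer W))
    · intro x hx
      obtain ⟨n, hn⟩ := hpow x hx
      exact ⟨n, D.pow_mem hx _, hn⟩
  rw [← h1]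
  exact sup_le (inf_le_right.trans hXW) hPX

theorem le_normalizer_iSup_cj [Finite G] (X L : Subgroup G) :
    L ≤ Subgroup.normalizer
      ((⨆ l : L, X.map (MulAut.conj (l : G)).toMonoidHom : Subgroup G) : Set G) := by
  intro l hl
  rw [← cj_eq_self_iff]
  apply cj_eq_of_le
  rw [Subgroup.map_iSup]
  apply iSup_le
  intro l'
  rw [cj_cj]
  exact le_iSup (fun l : L => X.map (MulAut.conj (l : G)).toMonoidHom)
    (⟨l * l', L.mul_mem hl l'.2⟩ : L)

theorem le_iSup_cj (X L : Subgroup G) :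
    X ≤ ⨆ l : L, X.map (MulAut.conj (l : G)).toMonoidHom := by
  have := le_iSup (fun l : L => X.map (MulAut.conj (l : G)).toMonoidHom) 1
  have e : X.map (MulAut.conj ((1 : L) : G)).toMonoidHom = X := cj_one X
  simp only [e] at this
  exact this

/-- (b): the normal closure in a group of characteristic `p` of a `p`-reduced normal subgroup
of a parabolic subgroup is `p`-reduced -/
theorem isPRed_closure [Finite G] {p : ℕ} [Fact p.Prime] {T R L X : Subgroup G}
    (hT : IsSyl p T L) (hTR : T ≤ R) (hRL : R ≤ L)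
    (hL : L ⊓ Subgroup.centralizer (pCoreOf p L : Set G) ≤ pCoreOf p L) (hX : IsPRed p X R) :
    IsPRed p (⨆ l : L, X.map (MulAut.conj (l : G)).toMonoidHom) L := by
  set W : Subgroup G := ⨆ l : L, X.map (MulAut.conj (l : G)).toMonoidHom with hW
  set Z := pCoreOf p L ⊓ Subgroup.centralizer (pCoreOf p L : Set G) with hZ
  have h1 : pCoreOf p L ≤ pCoreOf p R :=
    (le_inf le_rfl ((pCoreOf_le_isSyl hT).trans hTR)).trans (pCoreOf_inf_le p hRL)
  have h2 : X ≤ Subgroup.centralizer (pCoreOf p L : Set G) := by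
    rw [Subgroup.le_centralizer_iff]
    exact h1.trans hX.pCoreOf_le_centralizer
  have h3 : X ≤ Z := le_inf ((le_inf (hX.le.trans hRL) h2).trans hL) h2
  have hLZ : L ≤ Subgroup.normalizer (Z : Set G) :=
    (le_normalizer_pCoreOf p L).trans (normalizer_le_normalizer_center _)
  have h4 : ∀ l : L, X.map (MulAut.conj (l : G)).toMonoidHom ≤ Z := by
    intro l
    rw [← cj_eq_self_iff.2 (hLZ l.2)]
    exact cj_mono _ h3
  have hZZ : Z ≤ Subgroup.centralizer (Z : Set G) :=
    inf_le_right.trans (Subgroup.centralizer_le inf_le_left)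
  have hXW : X ≤ W := le_iSup_cj X L
  have hLW : L ≤ Subgroup.normalizer (W : Set G) := le_normalizer_iSup_cj X L
  refine ⟨iSup_le fun l => (h4 l).trans (inf_le_left.trans (pCoreOf_le p L)), hLW, ?_, ?_⟩
  · apply elemAb_iSup
    · intro l
      exact elemAb_map _ hX.elemAb
    · intro i j
      exact ((h4 i).trans hZZ).trans (Subgroup.centralizer_le (h4 j))
  · intro D hD hn hpow
    have hTD : IsSyl p (T ⊓ D) D := hT.inf_normal hD hn
    have h5 : D ⊓ R ≤ Subgroup.centralizer (X : Set G) := by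
      apply hX.le_centralizer inf_le_right
      · exact le_normalizer_inf (hRL.trans hn) Subgroup.le_normalizer
      · rintro x ⟨hx, -⟩
        obtain ⟨n, hn⟩ := hpow x hx
        exact ⟨n, Subgroup.centralizer_le hXW hn⟩
    have h6 : D ≤ Subgroup.centralizer (X : Set G) :=
      le_centralizer_of_isSyl hTD (hD.trans hLW) hpow (Subgroup.centralizer_le hXW)
        ((le_inf inf_le_right (inf_le_left.trans hTR)).trans h5)
    rw [Subgroup.le_centralizer_iff]
    apply iSup_le
    intro l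
    rw [Subgroup.le_centralizer_iff, centralizer_cj, ← cj_eq_self_iff.2 (hn l.2)]
    exact cj_mono _ h6

/-! ### `Ω₁` of an abelian group -/

theorem omegaOne_le (p : ℕ) (A : Subgroup G) : omegaOne p A ≤ A := by
  unfold omegaOne
  rw [Subgroup.closure_le]
  exact fun x hx => hx.1

theorem le_omegaOne {p : ℕ} {A B : Subgroup G} (hBA : B ≤ A) (h : ∀ b ∈ B, b ^ p = 1) :
    B ≤ omegaOne p A :=
  fun b hb => Subgroup.subset_closure ⟨hBA hb, h b hb⟩

theorem omegaOne_cj (p : ℕ) (A : Subgroup G) (g : G) :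
    (omegaOne p A).map (MulAut.conj g).toMonoidHom
      = omegaOne p (A.map (MulAut.conj g).toMonoidHom) := by
  unfold omegaOne
  rw [MonoidHom.map_closure]
  congr 1
  ext x
  constructor
  · rintro ⟨y, ⟨h1, h2⟩, rfl⟩
    refine ⟨⟨y, h1, rfl⟩, ?_⟩
    rw [← map_pow, h2, map_one]
  · rintro ⟨⟨y, h1, rfl⟩, h2⟩
    refine ⟨y, ⟨h1, ?_⟩, rfl⟩
    rw [← map_pow] at h2
    exact (MulAut.conj g).injective (by simpa using h2)

theorem normalizer_le_normalizer_omegaOne (p : ℕ) (A : Subgroup G) :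
    Subgroup.normalizer (A : Set G) ≤ Subgroup.normalizer (omegaOne p A : Set G) := by
  intro g hg
  rw [← cj_eq_self_iff] at hg ⊢
  rw [omegaOne_cj, hg]

theorem omegaOne_elemAb {p : ℕ} {A : Subgroup G} (hA : A ≤ Subgroup.centralizer (A : Set G)) :
    IsElementaryAbelian p (omegaOne p A) := by
  have hc : omegaOne p A ≤ Subgroup.centralizer (omegaOne p A : Set G) :=
    ((omegaOne_le p A).trans hA).trans (Subgroup.centralizer_le (omegaOne_le p A))
  rw [elemAb_iff]
  refine ⟨hc, ?_⟩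
  let E : Subgroup G :=
    { carrier := {y | y ∈ A ∧ y ^ p = 1}
      one_mem' := ⟨one_mem _, one_pow _⟩
      mul_mem' := by
        rintro a b ⟨ha, ha2⟩ ⟨hb, hb2⟩
        refine ⟨mul_mem ha hb, ?_⟩
        have hcomm : Commute a b := (Subgroup.mem_centralizer_iff.1 (hA hb) a ha)
        rw [hcomm.mul_pow, ha2, hb2, one_mul]
      inv_mem' := by
        rintro a ⟨ha, ha2⟩
        exact ⟨inv_mem ha, by rw [inv_pow, ha2, inv_one]⟩ }
  have hE : omegaOne p A ≤ E := by
    unfold omegaOne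
    rw [Subgroup.closure_le]
    exact fun x hx => hx
  intro a ha
  exact (hE ha).2

theorem center_le_centralizer_center (A : Subgroup G) :
    A ⊓ Subgroup.centralizer (A : Set G)
      ≤ Subgroup.centralizer ((A ⊓ Subgroup.centralizer (A : Set G) : Subgroup G) : Set G) :=
  inf_le_right.trans (Subgroup.centralizer_le inf_le_left)

/-- (c''): `Ω₁Z(C_T(Y))` is `p`-reduced for `K` when `C_T(Y)` is normal in `K`. -/
theorem isPRed_omega [Finite G] {p : ℕ} [Fact p.Prime] {T K Y T₀ : Subgroup G}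
    (hT : IsSyl p T K) (hY : IsPRed p Y K) (hT₀ : T₀ = T ⊓ Subgroup.centralizer (Y : Set G))
    (hK : K ≤ Subgroup.normalizer (T₀ : Set G)) :
    IsPRed p (omegaOne p (T₀ ⊓ Subgroup.centralizer (T₀ : Set G))) K ∧
      Y ≤ omegaOne p (T₀ ⊓ Subgroup.centralizer (T₀ : Set G)) := by
  set X := omegaOne p (T₀ ⊓ Subgroup.centralizer (T₀ : Set G)) with hX
  have hXT₀ : X ≤ T₀ := (omegaOne_le p _).trans inf_le_left
  have hXc : X ≤ Subgroup.centralizer (T₀ : Set G) := (omegaOne_le p _).trans inf_le_right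
  have hT₀K : T₀ ≤ K := by rw [hT₀]; exact inf_le_left.trans hT.le
  have hYT₀ : Y ≤ T₀ := by
    rw [hT₀]
    exact le_inf (hY.le_pCoreOf.trans (pCoreOf_le_isSyl hT)) (elemAb_iff.1 hY.elemAb).1
  have hYX : Y ≤ X := by
    apply le_omegaOne _ hY.elemAb.2
    apply le_inf hYT₀
    rw [Subgroup.le_centralizer_iff, hT₀]
    exact inf_le_right
  have hKX : K ≤ Subgroup.normalizer (X : Set G) :=
    (hK.trans (normalizer_le_normalizer_center T₀)).trans (normalizer_le_normalizer_omegaOne p _)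
  refine ⟨⟨hXT₀.trans hT₀K, hKX, omegaOne_elemAb (center_le_centralizer_center T₀), ?_⟩, hYX⟩
  intro D hD hn hpow
  have h1 : D ≤ Subgroup.centralizer (Y : Set G) := by
    apply hY.le_centralizer hD hn
    intro x hx
    obtain ⟨n, hn⟩ := hpow x hx
    exact ⟨n, Subgroup.centralizer_le hYX hn⟩
  have hTD : IsSyl p (T ⊓ D) D := hT.inf_normal hD hn
  apply le_centralizer_of_isSyl hTD (hD.trans hKX) hpow le_rfl
  have h2 : T ⊓ D ≤ T₀ := by
    rw [hT₀]
    exact inf_le_inf_left _ h1
  rw [Subgroup.le_centralizer_iff]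
  exact hXc.trans (Subgroup.centralizer_le h2)

end Cfsg.Agent.Lib.Helper53
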