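import Cfsg.Agent.Lib.Helper53.JCSt3
import Cfsg.Agent.Lib.Helper69.JCCore1
import Cfsg.Agent.Lib.Helper55.JCFFa

set_option autoImplicit false

/-! J(T)-component ladder: unconditional `St1 .. St4`. -/

namespace Cfsg.Agent.Lib.Helper53.JC

variable {G : Type*} [Group G] [Finite G]

theorem zn_core1 (h : ZN G) : Core1 G := Helper69.JC.core1 h

theorem zn_ffa (h : ZN G) : FFa G := Helper55.ffa (zn_core1 h)

theorem zn_st1 (h : ZN G) : St1 G := st1 h (zn_core1 h) (zn_ffa h)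

theorem zn_st2 (h : ZN G) : St2 G := st2 h (zn_core1 h) (zn_ffa h)

theorem zn_st3 (h : ZN G) : St3 G := st3 h (zn_core1 h) (zn_ffa h)

theorem zn_st4 (h : ZN G) : St4 G := st4 h (zn_core1 h) (zn_ffa h)

end Cfsg.Agent.Lib.Helper53.JC
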