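import Cfsg.Agent.Lib.Helper53.JCW
import Cfsg.Agent.Lib.Helper55.RelSN
import Cfsg.Agent.S2941

set_option autoImplicit false
set_option linter.unusedSectionVars false
set_option linter.unusedVariables false

/-! J(T)-component ladder, rung R3: `St1 .. St4` from `Core1` and `FFa`. -/

namespace Cfsg.Agent.Lib.Helper53.JC

open Cfsg Subgroup
open scoped commutatorElement
open Cfsg.Agent.Lib.Helper15.ZJ (AE PE)

variable {G : Type*} [Group G]

theorem left_le_normalizer_commutator [Finite G] (H X : Subgroup G) :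
    H ≤ normalizer ((⁅H, X⁆ : Subgroup G) : Set G) := by
  intro g hg
  rw [← cj_eq_self_iff]
  apply cj_eq_of_le
  rw [Subgroup.map_le_iff_le_comap, Subgroup.commutator_le]
  intro h hh x hx
  show g * ⁅h, x⁆ * g⁻¹ ∈ ⁅H, X⁆
  have h1 : g * ⁅h, x⁆ * g⁻¹ = ⁅g * h, x⁆ * (⁅g, x⁆)⁻¹ := by
    simp only [commutatorElement_def]; group
  rw [h1]
  exact mul_mem (Subgroup.commutator_mem_commutator (mul_mem hg hh) hx)
    (inv_mem (Subgroup.commutator_mem_commutator hg hx))

theorem commutator_le_right_of_le_normalizer {A N : Subgroup G} (h : A ≤ normalizer (N : Set G)) :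
    ⁅A, N⁆ ≤ N := by
  rw [Subgroup.commutator_le]
  intro a ha n hn
  rw [commutatorElement_def]
  exact mul_mem ((mem_normalizer_iff.1 (h ha) _).1 hn) (inv_mem hn)

theorem commutator_self_le_of_prime {N K : Subgroup G} {p : ℕ} (hp : p.Prime) (hN : N ≤ K)
    (hn : K ≤ normalizer (N : Set G)) (h : N.relIndex K = p) : ⁅K, K⁆ ≤ N := by
  obtain ⟨k, hk, hkN⟩ : ∃ k ∈ K, k ∉ N := by
    by_contra hcon
    push Not at hcon
    rw [Subgroup.relIndex_eq_one.2 hcon] at h
    exact hp.one_lt.ne h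
  have hK : zpowers k ⊔ N = K := by
    rcases eq_or_eq_of_relIndex_prime hp (le_sup_right : N ≤ zpowers k ⊔ N)
      (sup_le (zpowers_le.2 hk) hN) h with h1 | h1
    · exact absurd (h1.le (mem_sup_left (mem_zpowers k))) hkN
    · exact h1
  have hz : zpowers k ≤ normalizer (N : Set G) := (zpowers_le.2 hk).trans hn
  have h1 : ⁅K, N⁆ ≤ N := commutator_le_right_of_le_normalizer hn
  have h2 : ⁅zpowers k, zpowers k⁆ ≤ N := by
    rw [Subgroup.commutator_le]
    rintro _ ⟨i, rfl⟩ _ ⟨j, rfl⟩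
    have : ⁅k ^ i, k ^ j⁆ = 1 := commutatorElement_eq_one_iff_commute.2 (Commute.zpow_zpow_self k i j)
    simp only [this, one_mem]
  have h3 : ⁅zpowers k, K⁆ ≤ N := by
    have := commutator_sup_le hz le_normalizer h2
      ((Subgroup.commutator_mono (zpowers_le.2 hk) le_rfl).trans h1)
    rwa [hK] at this
  have h4 := sup_commutator_le (X := K) hz le_normalizer h3 (by rw [Subgroup.commutator_comm]; exact h1)
  rwa [hK] at h4

section Loc

variable [Finite G] {T L : Subgroup G}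

theorem L_le_normalizer_CCL (L : Subgroup G) : L ≤ normalizer (CCL L : Set G) :=
  le_normalizer_inf le_normalizer (((le_normalizer_pCoreOf 2 L).trans
    (normalizer_le_normalizer_omegaCenterOf _)).trans (normalizer_le_normalizer_cent _))

theorem QQ_le_CCL (L : Subgroup G) : QQ L ≤ CCL L :=
  le_inf (pCoreOf_le 2 L) (le_centralizer_iff.1 (omegaCenterOf_le_centralizer _))

theorem jOver_isSyl (hL : L ∈ jOvergroups T) : IsSyl 2 T L := isSylowTwoIn_iff.1 hL.1

theorem jOver_ne_bot (hL : L ∈ jOvergroups T) : T ≠ ⊥ := by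
  rintro rfl
  exact hL.2.1 ((JJ_le ⊥).trans bot_le)

/-- 2-subgroups of `C` lie in `Q`. -/
theorem le_QQ_of_le_CCL (hL : L ∈ jOvergroups T) (hcT : T ⊓ CCL L = QQ L) {D : Subgroup G}
    (hD : D ≤ CCL L) (hD2 : IsPGroup 2 D) : D ≤ QQ L := by
  have h1 := (jOver_isSyl hL).inf_normal inf_le_left (L_le_normalizer_CCL L)
  rw [hcT] at h1
  exact h1.le_of_le_normalizer hD hD2 ((hD.trans inf_le_left).trans (le_normalizer_pCoreOf 2 L))

/-- 2-subgroups of `L` centralize `C` modulo `Q`. -/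
theorem comm_CCL_le (hL : L ∈ jOvergroups T) (hCT : ⁅CCL L, T⁆ ≤ QQ L) {D : Subgroup G}
    (hD : D ≤ L) (hD2 : IsPGroup 2 D) : ⁅CCL L, D⁆ ≤ QQ L := by
  obtain ⟨P, hP, hDP⟩ := exists_isSyl_ge hD hD2
  obtain ⟨k, hk, rfl⟩ := (jOver_isSyl hL).exists_conj hP
  refine (Subgroup.commutator_mono le_rfl hDP).trans ?_
  have h1 := cj_mono k hCT
  rw [Subgroup.map_commutator, cj_eq_self_iff.2 (L_le_normalizer_CCL L hk),
    cj_eq_self_iff.2 (le_normalizer_pCoreOf 2 L hk)] at h1
  exact h1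

theorem isPGroup_of_PE {A : Subgroup G} (hA : PE 2 A) : IsPGroup 2 A := fun b => ⟨1, by
  have := hA.2 b b.2
  rw [pow_one]; exact Subtype.ext this⟩

theorem HHL_le (L : Subgroup G) : HHL L ≤ L := JJ_le L

theorem comm_CCL_HHL (hL : L ∈ jOvergroups T) (hCT : ⁅CCL L, T⁆ ≤ QQ L) :
    ⁅CCL L, HHL L⁆ ≤ QQ L := by
  show ⁅CCL L, thompsonSubgroupOf 2 L⁆ ≤ _
  rw [Helper15.ZJ.thompsonSubgroupOf_eq]
  apply commutator_sSup_le
  · intro A hA
    exact hA.1.trans (le_normalizer_pCoreOf 2 L)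
  · intro A hA
    exact comm_CCL_le hL hCT hA.1 (isPGroup_of_PE hA.2.1)

variable {K : Subgroup G}

theorem jc_le_HHL (hL : L ∈ jOvergroups T) (hK : IsJComponent T K) (hKL : K ≤ L) : K ≤ HHL L := by
  have h1 : ⁅K, JJ T⁆ = K := hK.2.1
  rw [← h1]
  exact (Subgroup.commutator_mono hKL (JJ_le_HHL (jOver_isSyl hL))).trans
    (commutator_le_right_of_le_normalizer (le_normalizer_HHL L))

theorem jc_not_le_CCL (hL : L ∈ jOvergroups T) (hCT : ⁅CCL L, T⁆ ≤ QQ L) (hK : IsJComponent T K) :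
    ¬ K ≤ CCL L := by
  intro h
  apply jc_not_isPGroup hK
  have h1 : ⁅K, JJ T⁆ = K := hK.2.1
  have h2 : K ≤ QQ L := by
    conv_lhs => rw [← h1]
    exact (Subgroup.commutator_mono h (JJ_le T)).trans hCT
  exact (pCoreOf_isPGroup 2 L).to_le h2

/-- `a` is a pure involution of `J(T)` acting nontrivially on `K/O₂(K)`. -/
structure Act (T L K : Subgroup G) (a : G) : Prop where
  mem : a ∈ JJ T
  sq : a ^ 2 = 1
  pure : Pure L a
  act : ¬ ⁅K, zpowers a⁆ ≤ pCoreOf 2 K

theorem exists_act (hT : IsPGroup 2 T) (hL : L ∈ jOvergroups T) (hf : FFa G) (hK : IsJComponent T K) :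
    ∃ a, Act T L K a := by
  by_contra hcon
  push Not at hcon
  apply jc_not_le_pCoreOf hK
  have h1 : ⁅K, JJ T⁆ = K := hK.2.1
  conv_lhs => rw [← h1]
  have h2 : JJ T ≤ Subgroup.closure {a : G | a ∈ JJ T ∧ a ^ 2 = 1 ∧ Pure L a} := by
    rw [JJ_le_iff]
    intro A hA
    refine (hf T L A hT hL hA).trans (Subgroup.closure_mono ?_)
    rintro a ⟨ha, hp⟩
    exact ⟨le_JJ hA ha, hA.2.1.2 a ha, hp⟩
  refine (Subgroup.commutator_mono le_rfl h2).trans ?_
  apply commutator_closure_le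
  · rintro a ⟨ha, -, -⟩
    exact normalizer_le_normalizer_pCoreOf 2 K (jc_JJ_le_normalizer hK ha)
  · rintro a ⟨ha, ha2, hp⟩ x hx
    by_contra hx2
    exact hcon a ⟨ha, ha2, hp, fun h => hx2 (h (Subgroup.commutator_mem_commutator hx (mem_zpowers a)))⟩

/-- `N_a = [J(L), a] C`. -/
abbrev NN (L : Subgroup G) (a : G) : Subgroup G := ⁅HHL L, zpowers a⁆ ⊔ CCL L

theorem HHL_le_normalizer_NN (L : Subgroup G) (a : G) : HHL L ≤ normalizer (NN L a : Set G) :=
  le_normalizer_sup (left_le_normalizer_commutator _ _) ((HHL_le L).trans (L_le_normalizer_CCL L))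

section Key

variable {a : G} (hL : L ∈ jOvergroups T) (hcT : T ⊓ CCL L = QQ L) (hCT : ⁅CCL L, T⁆ ≤ QQ L)
  (hK : IsJComponent T K) (hKL : K ≤ L) (ha : Act T L K a)

include hK ha in
theorem act_comm_le : ⁅K, zpowers a⁆ ≤ K := by
  rw [Subgroup.commutator_comm]
  exact commutator_le_right_of_le_normalizer (zpowers_le.2 (jc_JJ_le_normalizer hK ha.mem))

include hL hK hKL ha in
theorem act_le_NN : K ≤ NN L a := by
  have hKH := jc_le_HHL hL hK hKL
  have h0 : ⁅K, zpowers a⁆ ≤ K ⊓ NN L a :=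
    le_inf (act_comm_le hK ha) ((Subgroup.commutator_mono hKH le_rfl).trans le_sup_left)
  rcases jc_eq_or_eq hK (le_sup_left : pCoreOf 2 K ≤ pCoreOf 2 K ⊔ (K ⊓ NN L a))
    (sup_le (pCoreOf_le 2 K) inf_le_left) with h | h
  · exact absurd (h0.trans (le_sup_right.trans h.le)) ha.act
  · have := jc_le_of_le_sup hK (pCoreOf_isPGroup 2 K)
      ((pCoreOf_le 2 K).trans (le_normalizer_inf le_normalizer (hKH.trans (HHL_le_normalizer_NN L a))))
      h.ge
    exact this.trans inf_le_right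

include hL hCT hK hKL ha in
theorem act_relIndex : (CCL L).relIndex (NN L a) = 3 := by
  rcases ha.pure with h | h
  · exact absurd ((act_le_NN hL hK hKL ha).trans (Subgroup.relIndex_eq_one.1 h)) (jc_not_le_CCL hL hCT hK)
  · exact h

include hL hCT hK hKL ha in
theorem act_NN_eq : NN L a = K ⊔ CCL L := by
  rcases eq_or_eq_of_relIndex_prime Nat.prime_three (le_sup_right : CCL L ≤ K ⊔ CCL L)
    (sup_le (act_le_NN hL hK hKL ha) le_sup_right) (act_relIndex hL hCT hK hKL ha) with h | h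
  · exact absurd (le_sup_left.trans h.le) (jc_not_le_CCL hL hCT hK)
  · exact h.symm

include hL hcT hCT hK hKL ha in
theorem act_pCoreOf_le : pCoreOf 2 K ≤ QQ L := by
  have hOL : pCoreOf 2 K ≤ L := (pCoreOf_le 2 K).trans hKL
  rcases eq_or_eq_of_relIndex_prime Nat.prime_three (le_sup_right : CCL L ≤ pCoreOf 2 K ⊔ CCL L)
    (sup_le ((pCoreOf_le 2 K).trans (act_le_NN hL hK hKL ha)) le_sup_right)
    (act_relIndex hL hCT hK hKL ha) with h | h
  · exact le_QQ_of_le_CCL hL hcT (le_sup_left.trans h.le) (pCoreOf_isPGroup 2 K)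
  · exfalso
    apply jc_not_le_CCL hL hCT hK
    exact jc_le_of_le_sup hK (pCoreOf_isPGroup 2 K) (hOL.trans (L_le_normalizer_CCL L))
      ((act_le_NN hL hK hKL ha).trans h.ge)

include hK ha in
theorem act_eq_sup : ⁅K, zpowers a⁆ ⊔ pCoreOf 2 K = K := by
  rcases jc_eq_or_eq hK (le_sup_right : pCoreOf 2 K ≤ ⁅K, zpowers a⁆ ⊔ pCoreOf 2 K)
    (sup_le (act_comm_le hK ha) (pCoreOf_le 2 K)) with h | h
  · exact absurd (le_sup_left.trans h.le) ha.act
  · exact h

include hL hCT hK hKL in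
theorem comm_CCL_K : ⁅CCL L, K⁆ ≤ QQ L :=
  (Subgroup.commutator_mono le_rfl (jc_le_HHL hL hK hKL)).trans (comm_CCL_HHL hL hCT)

include hL hCT hK hKL in
theorem CCL_le_normalizer_sup : CCL L ≤ normalizer ((K ⊔ QQ L : Subgroup G) : Set G) :=
  le_normalizer_sup_of_commutator_le (inf_le_left.trans (le_normalizer_pCoreOf 2 L))
    (by rw [Subgroup.commutator_comm]; exact comm_CCL_K hL hCT hK hKL)

include hL hCT hK hKL ha in
theorem NN_le_normalizer_sup : NN L a ≤ normalizer ((K ⊔ QQ L : Subgroup G) : Set G) := by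
  rw [act_NN_eq hL hCT hK hKL ha]
  exact sup_le (le_sup_left.trans le_normalizer) (CCL_le_normalizer_sup hL hCT hK hKL)

include hL hCT hK hKL ha in
theorem act_comm_NN_le : ⁅NN L a, zpowers a⁆ ≤ K ⊔ QQ L := by
  have haH : zpowers a ≤ HHL L := zpowers_le.2 (JJ_le_HHL (jOver_isSyl hL) ha.mem)
  rw [act_NN_eq hL hCT hK hKL ha]
  exact sup_commutator_le (le_sup_left.trans le_normalizer) (CCL_le_normalizer_sup hL hCT hK hKL)
    ((act_comm_le hK ha).trans le_sup_left)
    (((Subgroup.commutator_mono le_rfl haH).trans (comm_CCL_HHL hL hCT)).trans le_sup_right)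

include hL hcT hCT hK hKL ha in
theorem act_comm_NN_K : ⁅NN L a, K⁆ ≤ QQ L := by
  rw [act_NN_eq hL hCT hK hKL ha]
  exact sup_commutator_le (hKL.trans (le_normalizer_pCoreOf 2 L))
    (inf_le_left.trans (le_normalizer_pCoreOf 2 L))
    ((commutator_self_le_of_prime Nat.prime_three (pCoreOf_le 2 K) (le_normalizer_pCoreOf 2 K)
      hK.2.2.1).trans (act_pCoreOf_le hL hcT hCT hK hKL ha))
    (comm_CCL_K hL hCT hK hKL)

include hL hcT hCT hK hKL ha in
theorem act_comm_Y_NN : ⁅NN L a ⊓ HHL L, NN L a⁆ ≤ QQ L := by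
  have h1 : ⁅NN L a ⊓ HHL L, K ⊔ CCL L⁆ ≤ QQ L := by
    apply commutator_sup_le (hKL.trans (le_normalizer_pCoreOf 2 L))
      (inf_le_left.trans (le_normalizer_pCoreOf 2 L))
    · exact (Subgroup.commutator_mono inf_le_left le_rfl).trans
        (act_comm_NN_K hL hcT hCT hK hKL ha)
    · rw [Subgroup.commutator_comm]
      exact (Subgroup.commutator_mono le_rfl inf_le_right).trans (comm_CCL_HHL hL hCT)
  rwa [← act_NN_eq hL hCT hK hKL ha] at h1

end Key

/-- `Q` normalizes every J(T)-component of `L`. -/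
theorem QQ_le_normalizer (h : ZN G) (hT : IsPGroup 2 T) (hL : L ∈ jOvergroups T)
    (hK : IsJComponent T K) (hKL : K ≤ L) : QQ L ≤ normalizer (K : Set G) := by
  have hs := jOver_isSyl hL
  exact Cfsg.Agent.S2941.result h.hL h.hN h.hZ T hT (jOver_ne_bot hL) K hK (QQ L)
    ((sup_le hKL ((JJ_le T).trans hs.le)).trans (le_normalizer_pCoreOf 2 L))
    (((pCoreOf_le_isSyl hs).trans le_normalizer).trans (normalizer_le_normalizer_JJ T))

theorem st2 (h : ZN G) (hc : Core1 G) (hf : FFa G) : St2 G := by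
  intro T L K hT hL hK hKL
  obtain ⟨-, -, -, hcT, hCT, -⟩ := hc T L hT hL
  obtain ⟨a, ha⟩ := exists_act hT hL hf hK
  have hs := jOver_isSyl hL
  have hKH := jc_le_HHL hL hK hKL
  have haL : zpowers a ≤ L := zpowers_le.2 (hs.le (JJ_le T ha.mem))
  intro g hg
  rw [← cj_eq_self_iff]
  apply cj_eq_of_le
  have hgL : g ∈ L := HHL_le L hg
  have hmain : cjj g K ≤ QQ L ⊔ K := by
    rw [sup_comm]
    have e1 : cjj g K = ⁅cjj g K, cjj g (zpowers a)⁆ ⊔ cjj g (pCoreOf 2 K) := by
      conv_lhs => rw [← act_eq_sup hK ha]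
      show (_ ⊔ _ : Subgroup G).map _ = _
      rw [cj_sup, Subgroup.map_commutator]
    rw [e1]
    apply sup_le
    · have hY : cjj g K ≤ NN L a ⊓ HHL L := by
        apply le_inf
        · have := cj_mono g (act_le_NN hL hK hKL ha)
          rwa [cj_eq_self_iff.2 (HHL_le_normalizer_NN L a hg)] at this
        · exact cj_le_of_le_of_mem hKH hg
      have hZ : cjj g (zpowers a) ≤ zpowers a ⊔ ⁅HHL L, zpowers a⁆ := by
        rintro _ ⟨x, hx, rfl⟩
        have : (MulAut.conj g).toMonoidHom x = ⁅g, x⁆ * x := by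
          show g * x * g⁻¹ = _
          simp only [commutatorElement_def]; group
        rw [this]
        exact mul_mem (mem_sup_right (Subgroup.commutator_mem_commutator hg hx)) (mem_sup_left hx)
      refine (Subgroup.commutator_mono hY hZ).trans ?_
      apply commutator_sup_le
      · exact le_normalizer_sup (zpowers_le.2 (jc_JJ_le_normalizer hK ha.mem))
          (haL.trans (le_normalizer_pCoreOf 2 L))
      · exact le_sup_left.trans (NN_le_normalizer_sup hL hCT hK hKL ha)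
      · exact (Subgroup.commutator_mono inf_le_left le_rfl).trans (act_comm_NN_le hL hCT hK hKL ha)
      · exact ((Subgroup.commutator_mono le_rfl (le_sup_left : _ ≤ NN L a)).trans
          (act_comm_Y_NN hL hcT hCT hK hKL ha)).trans le_sup_right
    · have := cj_mono g (act_pCoreOf_le hL hcT hCT hK hKL ha)
      rw [cj_eq_self_iff.2 (le_normalizer_pCoreOf 2 L hgL)] at this
      exact this.trans le_sup_right
  exact jc_le_of_le_sup (isJComponent_cj g hK) (pCoreOf_isPGroup 2 L)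
    (QQ_le_normalizer h hT hL hK hKL) hmain

theorem st1 (h : ZN G) (hc : Core1 G) (hf : FFa G) : St1 G := by
  intro T L K hT hL hK hKL
  exact ((Helper55.SN.of_normal (jc_le_HHL hL hK hKL) (st2 h hc hf T L K hT hL hK hKL)).trans
    (Helper55.SN.of_normal (HHL_le L) (le_normalizer_HHL L))).isSubnormal

theorem st4 (h : ZN G) (hc : Core1 G) (hf : FFa G) : St4 G := by
  intro T L K hT hL hK hKL l hl
  have hs := jOver_isSyl hL
  have h1 : IsSyl 2 (T ⊓ HHL L) (HHL L) := hs.inf_normal (HHL_le L) (le_normalizer_HHL L)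
  obtain ⟨n, hn, m, hm, rfl⟩ := frattini_arg h1 (HHL_le L) (le_normalizer_HHL L) hl
  have hJ : JJ (T ⊓ HHL L) = JJ T :=
    Helper55.thompsonSubgroupOf_eq_of_le (le_inf (JJ_le T) (JJ_le_HHL hs)) inf_le_left
  have hmJ : m ∈ normalizer (JJ T : Set G) := by
    rw [← hJ]; exact normalizer_le_normalizer_JJ _ hm.2
  have hK' : IsJComponent T (cjj m K) := isJComponent_cj_of_mem_normalizer hmJ hK
  have hK'L : cjj m K ≤ L := cj_le_of_le_of_mem hKL hm.1
  have h2 := st2 h hc hf T L _ hT hL hK' hK'L hn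
  have h3 : cjj (n * m) K = cjj m K := by
    show K.map _ = _
    rw [← cj_cj]
    exact cj_eq_self_iff.2 h2
  rw [h3]; exact hK'

end Loc

end Cfsg.Agent.Lib.Helper53.JC
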