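import Cfsg.Agent.Lib.Helper53.YMin

set_option autoImplicit false

namespace Cfsg.Agent.Lib.Helper53

open Cfsg
open scoped commutatorElement

variable {G : Type*} [Group G]

theorem isCoatom_map_mk {N M : Subgroup G} [N.Normal] (hM : IsCoatom M) (hNM : N ≤ M) :
    IsCoatom (M.map (QuotientGroup.mk' N)) := by
  have hsurj := QuotientGroup.mk'_surjective N
  have hcm : (M.map (QuotientGroup.mk' N)).comap (QuotientGroup.mk' N) = M := by
    rw [Subgroup.comap_map_eq, QuotientGroup.ker_mk', sup_eq_left.2 hNM]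
  refine ⟨?_, ?_⟩
  · intro h1
    rw [h1, Subgroup.comap_top] at hcm
    exact hM.1 hcm.symm
  · intro X hX
    have h1 : M ≤ X.comap (QuotientGroup.mk' N) := by
      rw [← hcm]; exact Subgroup.comap_mono hX.le
    have h2 : M ≠ X.comap (QuotientGroup.mk' N) := by
      intro h3
      have := congrArg (Subgroup.map (QuotientGroup.mk' N)) h3
      rw [Subgroup.map_comap_eq_self_of_surjective hsurj] at this
      exact hX.ne this
    have h3 := hM.2 _ (lt_of_le_of_ne h1 h2)
    have := congrArg (Subgroup.map (QuotientGroup.mk' N)) h3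
    rwa [Subgroup.map_comap_eq_self_of_surjective hsurj,
      Subgroup.map_top_of_surjective _ hsurj] at this

theorem isCoatom_comap_mk {N : Subgroup G} [N.Normal] {X : Subgroup (G ⧸ N)} (hX : IsCoatom X) :
    IsCoatom (X.comap (QuotientGroup.mk' N)) := by
  have hsurj := QuotientGroup.mk'_surjective N
  refine ⟨?_, ?_⟩
  · intro h3
    have := congrArg (Subgroup.map (QuotientGroup.mk' N)) h3
    rw [Subgroup.map_comap_eq_self_of_surjective hsurj,
      Subgroup.map_top_of_surjective _ hsurj] at this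
    exact hX.1 this
  · intro M hM
    have hNM : N ≤ M := by
      refine le_trans ?_ hM.le
      conv_lhs => rw [← QuotientGroup.ker_mk' N]
      exact Subgroup.ker_le_comap _ _
    have hcm : (M.map (QuotientGroup.mk' N)).comap (QuotientGroup.mk' N) = M := by
      rw [Subgroup.comap_map_eq, QuotientGroup.ker_mk', sup_eq_left.2 hNM]
    have h1 : X ≤ M.map (QuotientGroup.mk' N) := by
      have := Subgroup.map_mono (f := QuotientGroup.mk' N) hM.le
      rwa [Subgroup.map_comap_eq_self_of_surjective hsurj] at this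
    have h2 : X ≠ M.map (QuotientGroup.mk' N) := by
      intro h3
      rw [h3, hcm] at hM
      exact lt_irrefl _ hM
    have h3 := hX.2 _ (lt_of_le_of_ne h1 h2)
    rw [h3, Subgroup.comap_top] at hcm
    exact hcm.symm

theorem index_eq_relIndex_of_sup_eq_top [Finite G] {D M : Subgroup G} [D.Normal]
    (h : D ⊔ M = ⊤) : M.index = (D ⊓ M).relIndex D := by
  have h1 : D.index = (D ⊓ M).relIndex M := by
    rw [Subgroup.inf_relIndex_right, ← Subgroup.relIndex_sup_right M D, sup_comm, h,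
      Subgroup.relIndex_top_right]
  have h2 := Subgroup.relIndex_mul_index (inf_le_right : D ⊓ M ≤ M)
  have h3 := Subgroup.relIndex_mul_index (inf_le_left : D ⊓ M ≤ D)
  rw [← h1] at h2
  rw [← h3, mul_comm] at h2
  exact Nat.eq_of_mul_eq_mul_right (Nat.pos_of_ne_zero Subgroup.index_ne_zero_of_finite) h2

theorem exists_cj_le_of_not_dvd_index [Finite G] {p : ℕ} [hp : Fact p.Prime] {T M : Subgroup G}
    (hT : IsSyl p T ⊤) (hM : ¬ p ∣ M.index) : ∃ h : G, T.map (MulAut.conj h).toMonoidHom ≤ M := by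
  obtain ⟨P, hP⟩ := exists_isSyl p M
  have h1 : IsSyl p P ⊤ := by
    rw [isSyl_iff_relIndex]
    refine ⟨le_top, hP.isPGroup, ?_⟩
    rw [Subgroup.relIndex_top_right, ← Subgroup.relIndex_mul_index hP.le]
    exact hp.out.not_dvd_mul (isSyl_iff_relIndex.1 hP).2.2 hM
  obtain ⟨h, -, hh⟩ := hT.exists_conj h1
  exact ⟨h, hh ▸ hP.le⟩

theorem card_quotient_pCore_coprime [Finite G] {p : ℕ} [hp : Fact p.Prime]
    (h : IsPClosed p G) : (Nat.card (G ⧸ pCore p G)).Coprime p := by
  obtain ⟨S⟩ : Nonempty (Sylow p G) := inferInstance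
  have h1 : (S : Subgroup G) = pCore p G :=
    le_antisymm (le_pCore (h S) S.isPGroup') (pCore_le_sylow S)
  rw [← Subgroup.index_eq_card, ← h1]
  exact ((Nat.Prime.coprime_iff_not_dvd hp.out).2 S.not_dvd_index).symm

section
variable [Finite G] {p : ℕ} [Fact p.Prime] {L₀ Y T : Subgroup G}

theorem ymin_inf_normal (hL₀ : IsCoatom L₀) (hmin : IsMinimalOver Y) (hYT : Y ≤ T)
    (hT : IsSyl p T L₀) {N : Subgroup G} (hN : N.Normal) (hNL : N ≤ L₀) :
    IsSyl p (T ⊓ N) N ∧ (T ⊓ N).Normal := by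
  have hTop := ymin_isSyl_top hL₀ hmin hYT hT
  have hS : IsSyl p (T ⊓ N) N := hTop.inf_normal le_top Subgroup.le_normalizer_of_normal
  refine ⟨hS, ?_⟩
  rw [← Subgroup.normalizer_eq_top_iff]
  by_contra hne
  have hfr := frattini_sup hS le_top Subgroup.le_normalizer_of_normal
  have h2 : T ≤ Subgroup.normalizer ((T ⊓ N : Subgroup G) : Set G) :=
    le_normalizer_inf Subgroup.le_normalizer Subgroup.le_normalizer_of_normal
  have h3 := IsMinimalOver.le_of_ne_top hmin hL₀ (hYT.trans hT.le) (hYT.trans h2) hne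
  have : ⊤ ≤ L₀ := hfr ▸ sup_le hNL (inf_le_right.trans h3)
  exact hL₀.1 (top_le_iff.1 this)

theorem ymin_isPClosed (hL₀ : IsCoatom L₀) (hmin : IsMinimalOver Y) (hYT : Y ≤ T)
    (hT : IsSyl p T L₀) {N : Subgroup G} (hN : N.Normal) (hNL : N ≤ L₀) : IsPClosed p N := by
  obtain ⟨h1, h2⟩ := ymin_inf_normal hL₀ hmin hYT hT hN hNL
  exact isPClosed_of_isSyl h1 Subgroup.le_normalizer_of_normal

theorem ymin_core_le_coatom (hL₀ : IsCoatom L₀) (hmin : IsMinimalOver Y) (hYT : Y ≤ T)
    (hT : IsSyl p T L₀) {M : Subgroup G} (hM : IsCoatom M) (hpM : pCore p G ≤ M) :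
    L₀.normalCore ≤ M := by
  by_contra hcon
  have hD : L₀.normalCore ≤ L₀ := Subgroup.normalCore_le L₀
  have hsup : L₀.normalCore ⊔ M = ⊤ := by
    apply hM.2
    exact lt_of_le_of_ne le_sup_right (fun h => hcon (h ▸ le_sup_left))
  obtain ⟨h1, h2⟩ := ymin_inf_normal hL₀ hmin hYT hT (inferInstance : L₀.normalCore.Normal) hD
  have h3 : T ⊓ L₀.normalCore ≤ L₀.normalCore ⊓ M :=
    le_inf inf_le_right ((le_pCore h2 h1.isPGroup).trans hpM)
  have h4 : ¬ p ∣ M.index := by
    rw [index_eq_relIndex_of_sup_eq_top hsup]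
    intro hdvd
    exact (isSyl_iff_relIndex.1 h1).2.2
      (hdvd.trans (Subgroup.relIndex_dvd_of_le_left L₀.normalCore h3))
  obtain ⟨h, hh⟩ := exists_cj_le_of_not_dvd_index (ymin_isSyl_top hL₀ hmin hYT hT) h4
  have h5 : Y ≤ M.map (MulAut.conj h⁻¹).toMonoidHom := hYT.trans ((cj_le_iff h).1 hh)
  have h6 := IsMinimalOver.le_of_ne_top hmin hL₀ (hYT.trans hT.le) h5 (cj_ne_top hM.1 _)
  rw [cj_le_iff, inv_inv] at h6
  have h7 : M = L₀.map (MulAut.conj h).toMonoidHom := by
    by_contra hne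
    exact cj_ne_top hL₀.1 h (hM.2 _ (lt_of_le_of_ne h6 hne))
  apply hcon
  rw [h7]
  have h8 : L₀.normalCore.map (MulAut.conj h).toMonoidHom = L₀.normalCore :=
    cj_eq_self_iff.2 (Subgroup.le_normalizer_of_normal (K := ⊤) (Subgroup.mem_top h))
  rw [← h8]
  exact cj_mono h hD

theorem ymin_core_map_eq_frattini (hL₀ : IsCoatom L₀) (hmin : IsMinimalOver Y) (hYT : Y ≤ T)
    (hT : IsSyl p T L₀) [(pCore p G).Normal] :
    L₀.normalCore.map (QuotientGroup.mk' (pCore p G)) = frattini (G ⧸ pCore p G) := by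
  have hsurj := QuotientGroup.mk'_surjective (pCore p G)
  have hpL : pCore p G ≤ L₀ :=
    (pCore_le_sylow (ymin_isSyl_top hL₀ hmin hYT hT).toSylowTop).trans hT.le
  apply le_antisymm
  · unfold frattini Order.radical
    apply le_iInf₂
    intro X hX
    rw [Subgroup.map_le_iff_le_comap]
    apply ymin_core_le_coatom hL₀ hmin hYT hT (isCoatom_comap_mk hX)
    conv_lhs => rw [← QuotientGroup.ker_mk' (pCore p G)]
    exact Subgroup.ker_le_comap _ _
  · have h1 : frattini (G ⧸ pCore p G) ≤ L₀.map (QuotientGroup.mk' (pCore p G)) :=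
      frattini_le_coatom (isCoatom_map_mk hL₀ hpL)
    have h2 : (frattini (G ⧸ pCore p G)).comap (QuotientGroup.mk' (pCore p G)) ≤ L₀ := by
      have := Subgroup.comap_mono (f := QuotientGroup.mk' (pCore p G)) h1
      rwa [Subgroup.comap_map_eq, QuotientGroup.ker_mk', sup_eq_left.2 hpL] at this
    have h3 : (frattini (G ⧸ pCore p G)).comap (QuotientGroup.mk' (pCore p G)) ≤ L₀.normalCore :=
      (Subgroup.normal_le_normalCore).2 h2
    have := Subgroup.map_mono (f := QuotientGroup.mk' (pCore p G)) h3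
    rwa [Subgroup.map_comap_eq_self_of_surjective hsurj] at this

end

end Cfsg.Agent.Lib.Helper53
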