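import Cfsg.Agent.Lib.Helper53.FrakM
import Cfsg.Agent.Lib.Helper53.YMin2
import Cfsg.Agent.S2824

set_option autoImplicit false

namespace Cfsg.Agent.Lib.Helper53

open Cfsg
open scoped commutatorElement

variable {G : Type*} [Group G]

theorem omegaOne_ne_bot [Finite G] {p : ℕ} [hp : Fact p.Prime] {Z : Subgroup G}
    (hZ : IsPGroup p Z) (h1 : Z ≠ ⊥) : omegaOne p Z ≠ ⊥ := by
  obtain ⟨n, hn⟩ := IsPGroup.iff_card.1 hZ
  have hn0 : n ≠ 0 := by
    rintro rfl
    rw [pow_zero, Subgroup.card_eq_one] at hn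
    exact h1 hn
  have hdvd : p ∣ Nat.card Z := by
    rw [hn]; exact dvd_pow_self p hn0
  obtain ⟨x, hx⟩ := exists_prime_orderOf_dvd_card' p hdvd
  intro hb
  have hmem : (x : G) ∈ omegaOne p Z := by
    apply Subgroup.subset_closure
    refine ⟨x.2, ?_⟩
    have := pow_orderOf_eq_one x
    rw [hx] at this
    exact_mod_cast congrArg Subtype.val this
  rw [hb, Subgroup.mem_bot] at hmem
  have : x = 1 := Subtype.ext hmem
  rw [this, orderOf_one] at hx
  exact hp.out.one_lt.ne hx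

theorem centralizer_bot' : Subgroup.centralizer ((⊥ : Subgroup G) : Set G) = ⊤ := by
  rw [eq_top_iff]
  intro x _
  rw [Subgroup.mem_centralizer_iff]
  intro y hy
  rw [SetLike.mem_coe, Subgroup.mem_bot] at hy
  simp [hy]

theorem isPRed_bot (p : ℕ) (T : Subgroup G) : IsPRed p (⊥ : Subgroup G) T := by
  refine ⟨bot_le, ?_, ?_, ?_⟩
  · intro x _
    rw [← cj_eq_self_iff, cj_eq_bot_iff]
  · rw [elemAb_iff]
    refine ⟨bot_le, ?_⟩
    intro x hx
    rw [Subgroup.mem_bot] at hx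
    simp [hx]
  · intro D _ _ _
    rw [centralizer_bot']
    exact le_top

/-- `Y_K ≠ 1` for `K` of characteristic `p` with `O_p(K) ≠ 1` -/
theorem largest_ne_bot [Finite G] {p : ℕ} [Fact p.Prime] {T K : Subgroup G} (hT : IsSyl p T K)
    (hK : K ⊓ Subgroup.centralizer (pCoreOf p K : Set G) ≤ pCoreOf p K)
    (hK1 : pCoreOf p K ≠ ⊥) : largestPReducedOf p K ≠ ⊥ := by
  have hT1 : T ≠ ⊥ := by
    rintro rfl
    exact hK1 (le_bot_iff.1 (pCoreOf_le_isSyl hT))
  have hTT : IsSyl p T T := hT.of_le le_rfl hT.le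
  have e : T = T ⊓ Subgroup.centralizer (((⊥ : Subgroup G) : Subgroup G) : Set G) := by
    rw [centralizer_bot', inf_top_eq]
  obtain ⟨h1, -⟩ := isPRed_omega hTT (isPRed_bot p T) e Subgroup.le_normalizer
  have h2 := (isPRed_closure hT le_rfl hT.le hK h1).le_largest
  have h3 : omegaOne p (T ⊓ Subgroup.centralizer (T : Set G)) ≠ ⊥ :=
    omegaOne_ne_bot hT.isPGroup.to_inf_left
      (inf_centralizer_ne_bot hT.isPGroup hT.isPGroup hT1 Subgroup.le_normalizer)
  intro hb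
  apply h3
  rw [eq_bot_iff, ← hb]
  exact (le_iSup_cj _ K).trans h2

theorem largest_mono [Finite G] {p : ℕ} [Fact p.Prime] {T L₁ L₂ : Subgroup G} (hT : IsSyl p T L₂)
    (h1 : T ≤ L₁) (h2 : L₁ ≤ L₂)
    (hK : L₂ ⊓ Subgroup.centralizer (pCoreOf p L₂ : Set G) ≤ pCoreOf p L₂) :
    largestPReducedOf p L₁ ≤ largestPReducedOf p L₂ :=
  (le_iSup_cj _ L₂).trans (isPRed_closure hT h1 h2 hK (isPRed_largest p L₁)).le_largest

/-- Frattini criterion by minimality -/
theorem map_le_frattini_of_minimal [Finite G] {p : ℕ} [hp : Fact p.Prime] {T N : Subgroup G}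
    [N.Normal] (hT : IsSyl p T ⊤) (hTN : T ⊓ N ≤ pCore p G)
    (hmin : ∀ U : Subgroup G, T ≤ U → U ⊔ N = ⊤ → U = ⊤) :
    N.map (QuotientGroup.mk' (pCore p G)) ≤ frattini (G ⧸ pCore p G) := by
  unfold frattini Order.radical
  apply le_iInf₂
  intro X hX
  have hU := isCoatom_comap_mk hX
  set U := X.comap (QuotientGroup.mk' (pCore p G)) with hUdef
  rw [Subgroup.map_le_iff_le_comap]
  change N ≤ U
  by_contra hcon
  have hpU : pCore p G ≤ U := by
    intro x hx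
    rw [hUdef, Subgroup.mem_comap]
    have : (QuotientGroup.mk' (pCore p G)) x = 1 := (QuotientGroup.eq_one_iff x).2 hx
    rw [this]
    exact X.one_mem
  have hsup : N ⊔ U = ⊤ :=
    hU.2 _ (lt_of_le_of_ne le_sup_right (fun h => hcon (h ▸ le_sup_left)))
  have hidx := index_eq_relIndex_of_sup_eq_top hsup
  have hS : IsSyl p (T ⊓ N) N := hT.inf_normal le_top Subgroup.le_normalizer_of_normal
  have h3 : T ⊓ N ≤ N ⊓ U := le_inf inf_le_right (hTN.trans hpU)
  have h4 : ¬ p ∣ U.index := by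
    rw [hidx]
    intro hd
    apply (isSyl_iff_relIndex.1 hS).2.2
    rw [← Subgroup.relIndex_mul_relIndex _ _ _ h3 inf_le_left]
    exact Dvd.dvd.mul_left hd _
  obtain ⟨h, hh⟩ := exists_cj_le_of_not_dvd_index hT h4
  have h5 : T ≤ U.map (MulAut.conj h⁻¹).toMonoidHom := (cj_le_iff h).1 hh
  have h6 : U.map (MulAut.conj h⁻¹).toMonoidHom ⊔ N = ⊤ := by
    have e : N.map (MulAut.conj h⁻¹).toMonoidHom = N :=
      cj_eq_self_iff.2 (Subgroup.le_normalizer_of_normal (K := ⊤) (Subgroup.mem_top _))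
    rw [← e, ← cj_sup, sup_comm, hsup]
    rw [eq_top_iff]
    intro x _
    rw [mem_cj]
    exact Subgroup.mem_top _
  have h7 := hmin _ h5 h6
  apply hU.1
  have h8 : Nat.card U = Nat.card (⊤ : Subgroup G) := by
    rw [← h7, card_cj]
  exact Subgroup.eq_of_le_of_card_ge le_top h8.ge

theorem exists_min_frak [Finite G] {p : ℕ} [Fact p.Prime] {T Mt : Subgroup G} (hT : IsSyl p T ⊤)
    (hTM : T ≤ Mt) (hMc : Mt ⊓ Subgroup.centralizer (pCoreOf p Mt : Set G) ≤ pCoreOf p Mt)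
    (hC : Subgroup.centralizer (largestPReducedOf p Mt : Set G) ≤ Mt) :
    ∃ M : Subgroup G, T ≤ M ∧ M ≤ Mt ∧
      M ⊔ Subgroup.centralizer (largestPReducedOf p Mt : Set G) = Mt ∧
      largestPReducedOf p M = largestPReducedOf p Mt ∧
      IsPClosed p ↥(M ⊓ Subgroup.centralizer (largestPReducedOf p Mt : Set G)) ∧
      ((M ⊓ Subgroup.centralizer (largestPReducedOf p Mt : Set G)).subgroupOf M).map
        (QuotientGroup.mk' (pCore p ↥M)) ≤ frattini (↥M ⧸ pCore p ↥M) := by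
  have hY := isPRed_largest p Mt
  set Y := largestPReducedOf p Mt with hYdef
  set C := Subgroup.centralizer (Y : Set G) with hCdef
  let ℬ : Set (Subgroup G) := {M | T ≤ M ∧ M ≤ Mt ∧ M ⊔ C = Mt}
  have hmem : Mt ∈ ℬ := ⟨hTM, le_rfl, sup_eq_left.2 hC⟩
  obtain ⟨M, -, hM⟩ := (Set.toFinite ℬ).exists_le_minimal hmem
  obtain ⟨hTM', hMMt, hMC⟩ := hM.prop
  have hTMt : IsSyl p T Mt := hT.of_le hTM le_top
  have hTMs : IsSyl p T M := hT.of_le hTM' le_top
  have hYT : Y ≤ T := hY.le_pCoreOf.trans (pCoreOf_le_isSyl hTMt)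
  have hYM : IsPRed p Y M := hY.of_sup_eq (hYT.trans hTM') (by rw [hMC, sup_eq_left.2 hC])
  have hYeq : largestPReducedOf p M = Y :=
    le_antisymm (largest_mono hTMt hTM' hMMt hMc) hYM.le_largest
  obtain ⟨a1, a2, -, -⟩ := Cfsg.Agent.S2824.aux hT hTM' hYM rfl
  have hMN : M ≤ Subgroup.normalizer ((T ⊓ C : Subgroup G) : Set G) := by
    have h1 : M ⊓ Subgroup.normalizer ((T ⊓ C : Subgroup G) : Set G) ∈ ℬ :=
      ⟨a1, inf_le_left.trans hMMt, a2.trans hMC⟩
    exact (hM.le_of_le h1 inf_le_left).trans inf_le_right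
  have hMMC : M ≤ Subgroup.normalizer ((M ⊓ C : Subgroup G) : Set G) :=
    le_normalizer_inf Subgroup.le_normalizer
      (hYM.le_normalizer.trans (normalizer_le_normalizer_centralizer Y))
  have hS : IsSyl p (T ⊓ C) (M ⊓ C) := by
    have := hTMs.inf_normal inf_le_left hMMC
    rwa [← inf_assoc, inf_eq_left.2 hTM'] at this
  refine ⟨M, hTM', hMMt, hMC, hYeq, isPClosed_of_isSyl hS (inf_le_left.trans hMN), ?_⟩
  have : ((M ⊓ C).subgroupOf M).Normal :=
    (Subgroup.normal_subgroupOf_iff_le_normalizer inf_le_left).2 hMMC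
  apply map_le_frattini_of_minimal (T := T.subgroupOf M) (isSyl_top_of_sylow hTMs.toSylow)
  · rw [pCore_eq_subgroupOf]
    rintro x ⟨hx1, hx2⟩
    have h1 : T ⊓ C ≤ pCoreOf p M :=
      le_pCoreOf (inf_le_left.trans hTM') hMN hT.isPGroup.to_inf_left
    exact h1 ⟨hx1, hx2.2⟩
  · intro U hTU hUN
    have h1 : U.map M.subtype ∈ ℬ := by
      refine ⟨?_, (Subgroup.map_subtype_le U).trans hMMt, ?_⟩
      · have := Subgroup.map_mono (f := M.subtype) hTU
        rwa [subgroupOf_map_subtype_of_le hTM'] at this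
      · apply le_antisymm (sup_le ((Subgroup.map_subtype_le U).trans hMMt) hC)
        have h2 := congrArg (Subgroup.map M.subtype) hUN
        rw [Subgroup.map_sup, subgroupOf_map_subtype_of_le inf_le_left, ← MonoidHom.range_eq_map,
          Subgroup.range_subtype] at h2
        rw [← hMC]
        apply sup_le _ le_sup_right
        exact h2.ge.trans (sup_le le_sup_left (inf_le_right.trans le_sup_right))
    have h3 := hM.le_of_le h1 (Subgroup.map_subtype_le U)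
    rw [eq_top_iff]
    intro x _
    obtain ⟨u, hu, hux⟩ := h3 x.2
    have : u = x := Subtype.ext hux
    exact this ▸ hu

theorem exists_frakM [Finite G] {p : ℕ} [Fact p.Prime] {T L : Subgroup G} (hT : IsSyl p T ⊤)
    (hPC : ∀ K : Subgroup G, T ≤ K → pCoreOf p K ≠ ⊥ →
      Subgroup.centralizer (pCoreOf p K : Set G) ≤ pCoreOf p K)
    (hTL : T ≤ L) (hL : pCoreOf p L ≠ ⊥) :
    ∃ M Ls : Subgroup G, T ≤ M ∧ IsInFrakM p M ∧ T ≤ Ls ∧ Ls ≤ M ∧ Ls ∈ charPSubgroups p G ∧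
      largestPReducedOf p L = largestPReducedOf p Ls ∧
      largestPReducedOf p L ≤ largestPReducedOf p M ∧
      L ⊔ Subgroup.centralizer (largestPReducedOf p L : Set G)
        = Ls ⊔ Subgroup.centralizer (largestPReducedOf p L : Set G) := by
  have hcp : ∀ K : Subgroup G, T ≤ K → pCoreOf p K ≠ ⊥ →
      K ⊓ Subgroup.centralizer (pCoreOf p K : Set G) ≤ pCoreOf p K :=
    fun K h1 h2 => inf_le_right.trans (hPC K h1 h2)
  have hmemL : ∀ K : Subgroup G, T ≤ K → pCoreOf p K ≠ ⊥ → K ∈ charPSubgroups p G :=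
    fun K h1 h2 => ⟨pCore_ne_bot_iff.2 h2, hPC K h1 h2⟩
  have hYL := isPRed_largest p L
  have hYL1 : largestPReducedOf p L ≠ ⊥ :=
    largest_ne_bot (hT.of_le hTL le_top) (hcp L hTL hL) hL
  have hLdN := dagger_le_normalizer p L
  set YL := largestPReducedOf p L with hYLdef
  set CL := Subgroup.centralizer (YL : Set G) with hCLdef
  set Ld := L ⊔ CL with hLddef
  have hLdC : Ld ≤ Subgroup.normalizer (CL : Set G) :=
    hLdN.trans (normalizer_le_normalizer_centralizer _)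
  let 𝒜 : Set (Subgroup G) := {X | T ≤ X ∧ pCoreOf p X ≠ ⊥ ∧ YL ≤ largestPReducedOf p X ∧
    L ≤ (X ⊓ Ld) ⊔ CL}
  have hLA : L ∈ 𝒜 := ⟨hTL, hL, le_rfl, (le_inf le_rfl le_sup_left).trans le_sup_left⟩
  have hup : ∀ X ∈ 𝒜, ∀ X' : Subgroup G, X ≤ X' → pCoreOf p X' ≠ ⊥ →
      X' ∈ 𝒜 ∧ largestPReducedOf p X ≤ largestPReducedOf p X' := by
    intro X hX X' hXX' hX'
    have h1 := largest_mono (hT.of_le (hX.1.trans hXX') le_top) hX.1 hXX'
      (hcp X' (hX.1.trans hXX') hX')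
    exact ⟨⟨hX.1.trans hXX', hX', hX.2.2.1.trans h1,
      hX.2.2.2.trans (sup_le_sup_right (inf_le_inf_right _ hXX') _)⟩, h1⟩
  obtain ⟨K, hKA, hKmax⟩ := Set.exists_max_image 𝒜
    (fun X => Nat.card (largestPReducedOf p X)) (Set.toFinite _) ⟨L, hLA⟩
  have heq : ∀ X ∈ 𝒜, largestPReducedOf p K ≤ largestPReducedOf p X →
      largestPReducedOf p X = largestPReducedOf p K :=
    fun X hX hle => (Subgroup.eq_of_le_of_card_ge hle (hKmax X hX)).symm
  have hYK := isPRed_largest p K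
  have hYLY : YL ≤ largestPReducedOf p K := hKA.2.2.1
  set Y := largestPReducedOf p K with hYdef
  have hY1 : Y ≠ ⊥ := ne_bot_of_le_ne_bot hYL1 hYLY
  set Mt := Subgroup.normalizer (Y : Set G) with hMtdef
  have hKMt : K ≤ Mt := hYK.le_normalizer
  have hMt1 : pCoreOf p Mt ≠ ⊥ := by
    intro hb
    apply hY1
    rw [eq_bot_iff, ← hb]
    exact le_pCoreOf Subgroup.le_normalizer le_rfl hYK.isPGroup
  obtain ⟨hMtA, hle⟩ := hup K hKA Mt hKMt hMt1
  have hYMt : largestPReducedOf p Mt = Y := heq Mt hMtA hle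
  have hle_Mt : ∀ X ∈ 𝒜, Y ≤ largestPReducedOf p X → X ≤ Mt := by
    intro X hX hYX
    have h1 := (isPRed_largest p X).le_normalizer
    rwa [heq X hX hYX] at h1
  have hMtmax : Mt ∈ maxCharPSubgroups p G := by
    refine ⟨hmemL Mt hMtA.1 hMt1, ?_⟩
    intro X hX hMtX
    obtain ⟨hXA, hle2⟩ := hup Mt hMtA X hMtX (pCore_ne_bot_iff.1 hX.1)
    rw [hYMt] at hle2
    exact le_antisymm (hle_Mt X hXA hle2) hMtX
  obtain ⟨M, hTM, hMMt, hMC, hYM, hpc, hfr⟩ := exists_min_frak hT hMtA.1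
    (hcp Mt hMtA.1 hMt1) (by rw [hYMt]; exact Subgroup.centralizer_le_normalizer _)
  rw [hYMt] at hMC hYM hpc hfr
  have hM1 : pCoreOf p M ≠ ⊥ := by
    intro hb
    apply hY1
    rw [eq_bot_iff, ← hb, ← hYM]
    exact (isPRed_largest p M).le_pCoreOf
  have hMCn : M ≤ Subgroup.normalizer ((Subgroup.centralizer (Y : Set G) : Subgroup G) : Set G) :=
    hMMt.trans (normalizer_le_normalizer_centralizer Y)
  have hcover : L ≤ (M ⊓ Ld) ⊔ CL := by
    intro l hl
    obtain ⟨x, hx, c, hc, rfl⟩ :=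
      (mem_sup_of_le_normalizer (inf_le_right.trans hLdC)).1 (hMtA.2.2.2 hl)
    have hx1 : x ∈ M ⊔ Subgroup.centralizer (Y : Set G) := by rw [hMC]; exact hx.1
    obtain ⟨m, hm, c', hc', rfl⟩ := (mem_sup_of_le_normalizer hMCn).1 hx1
    have hc'' : c' ∈ CL := Subgroup.centralizer_le hYLY hc'
    have hmLd : m ∈ Ld := by
      have e : m = (m * c') * c'⁻¹ := by group
      rw [e]
      exact mul_mem hx.2 (inv_mem (Subgroup.mem_sup_right hc''))
    rw [mul_assoc]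
    exact Subgroup.mul_mem_sup ⟨hm, hmLd⟩ (mul_mem hc'' hc)
  have hMA : M ∈ 𝒜 := ⟨hTM, hM1, by rw [hYM]; exact hYLY, hcover⟩
  have hfrakM : IsInFrakM p M := by
    refine ⟨hmemL M hTM hM1, ?_, ?_, ?_, ?_, ?_⟩
    · rw [hYM, hMC]; exact hMtmax
    · intro X hX hMX
      rw [hYM, hMC]
      obtain ⟨hXA, hle3⟩ := hup M hMA X hMX (pCore_ne_bot_iff.1 hX.1.1)
      rw [hYM] at hle3
      exact (hX.2 Mt hMtmax.1 (hle_Mt X hXA hle3)).symm
    · rw [hYM, hMC, hYMt]
    · rw [hYM]; exact hpc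
    · rw [hYM]; exact hfr
  have hYLT : YL ≤ T := hYL.le_pCoreOf.trans (pCoreOf_le_isSyl (hT.of_le hTL le_top))
  have hTL₁ : T ≤ M ⊓ Ld := le_inf hTM (hTL.trans le_sup_left)
  have hfac : (M ⊓ Ld) ⊔ CL = L ⊔ CL :=
    le_antisymm (sup_le inf_le_right le_sup_right) (sup_le hcover le_sup_right)
  have hL₁1 : pCoreOf p (M ⊓ Ld) ≠ ⊥ := by
    intro hb
    apply hYL1
    rw [eq_bot_iff, ← hb]
    exact le_pCoreOf (hYLT.trans hTL₁) (inf_le_right.trans hLdN) hYL.isPGroup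
  obtain ⟨r1, r2⟩ := Cfsg.Agent.S2824.result hT.toSylowTop L (M ⊓ Ld) hTL hTL₁
    (Cfsg.Agent.Lib.Helper53.charP_iff.2 (hcp L hTL hL))
    (Cfsg.Agent.Lib.Helper53.charP_iff.2 (hcp _ hTL₁ hL₁1)) (T ⊓ CL) rfl hfac
    ((M ⊓ Ld) ⊓ Subgroup.normalizer ((T ⊓ CL : Subgroup G) : Set G)) rfl
  have hTLs : T ≤ (M ⊓ Ld) ⊓ Subgroup.normalizer ((T ⊓ CL : Subgroup G) : Set G) :=
    le_inf hTL₁ (le_normalizer_inf Subgroup.le_normalizer
      ((hTL.trans le_sup_left).trans hLdC))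
  refine ⟨M, _, hTM, hfrakM, hTLs, inf_le_left.trans inf_le_left, ?_, r1.symm, ?_, r2⟩
  · apply hmemL _ hTLs
    intro hb
    apply hYL1
    rw [eq_bot_iff, ← hb, hYLdef, ← r1]
    exact (isPRed_largest p _).le_pCoreOf
  · rw [hYM]; exact hYLY

theorem parC_of_parabolic {p : ℕ} {T : Subgroup G} (hH : IsOfParabolicCharacteristic p G)
    (hT : IsSyl p T ⊤) (K : Subgroup G) (hTK : T ≤ K) (hK : pCoreOf p K ≠ ⊥) :
    Subgroup.centralizer (pCoreOf p K : Set G) ≤ pCoreOf p K := by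
  have hKN := le_normalizer_pCoreOf p K
  have h1 := hH (pCoreOf p K) (pCoreOf_isPGroup p K) hK ⟨hT.toSylowTop, hTK.trans hKN⟩
  rw [Cfsg.Agent.Lib.Helper53.charP_iff] at h1
  set N := Subgroup.normalizer (pCoreOf p K : Set G) with hN
  have h2 : pCoreOf p N ≤ pCoreOf p K :=
    le_pCoreOf ((pCoreOf_le_isSyl (hT.of_le (hTK.trans hKN) le_top)).trans hTK)
      (hKN.trans (le_normalizer_pCoreOf p N)) (pCoreOf_isPGroup p N)
  exact ((le_inf (Subgroup.centralizer_le_normalizer _) (Subgroup.centralizer_le h2)).trans h1).trans h2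

end Cfsg.Agent.Lib.Helper53
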