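import Cfsg.Agent.Lib.Helper53.JC2Defs
import Cfsg.Agent.Lib.Helper53.JCBasic
import Cfsg.Agent.Lib.Helper53.SAAll
import Cfsg.Agent.S2949
import Cfsg.Agent.S2950
import Cfsg.Agent.Lib.Helper56.JC2AF
import Cfsg.Agent.Lib.Helper56.JC2B1
import Cfsg.Agent.Lib.Helper64.JC2MAXS
import Cfsg.Agent.Lib.Helper64.JC2G2
import Cfsg.Agent.Lib.Helper68.JC2PP
import Cfsg.Agent.Lib.Helper98.JC2EXCL
import Cfsg.Agent.Lib.Helper69.JC2K1
import Cfsg.Agent.Lib.Helper69.JC2K2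
import Cfsg.Agent.Lib.Helper69.JC2K3

set_option autoImplicit false

/-! Assembly of the second part of the K-S ch. 12 ladder: `NoBad`, `T51` and the cores of S2952, S2953. -/

namespace Cfsg.Agent.Lib.Helper53.JC2

open Cfsg Subgroup
open Cfsg.Agent.Lib.Helper53.JC
open Cfsg.Agent.Lib.Helper56.JC2 (af b1)
open Cfsg.Agent.Lib.Helper64.JC2 (exists_maxStraddling maxStraddling_cj jComponentsOutside_cj
  sylow_mem_maxStraddling exists_cj_le exists_sylow_ge)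
open Cfsg.Agent.Lib.Helper68.JC2 (pp)
open Cfsg.Agent.Lib.Helper98.JC2 (excl)
open Cfsg.Agent.Lib.Helper69.JC2 (k1 k2 k2x k3 hyp)

variable {G : Type*} [Group G] [Finite G]

theorem noBad (hSA : SA.MainSt G) : NoBad G := by
  intro zn hO S L hb
  obtain ⟨T₀, hT₀⟩ := exists_maxStraddling (b1 zn hO hb)
  have hSL : (S : Subgroup G) ≤ L := hb.2.1.1.1
  obtain ⟨l, hl, hlS⟩ := exists_cj_le hSL hT₀.1.1 hT₀.1.2.2.1
  have hT := maxStraddling_cj hT₀ hl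
  generalize cjj l T₀ = T at hT hlS
  have hJne : JJ (S : Subgroup G) ≠ ⊥ := by
    intro h
    apply hb.2.1.2.1
    have h' : thompsonSubgroupOf 2 (S : Subgroup G) = ⊥ := h
    rw [h']; exact bot_le
  have hMJ : normalizer (JJ (S : Subgroup G) : Set G) ≤ L :=
    hb.2.2 _ ⟨JJ (S : Subgroup G), S.isPGroup'.to_le (JJ_le _), hJne, rfl⟩
      (le_normalizer.trans (normalizer_le_normalizer_JJ _))
  obtain ⟨K, hK⟩ := Cfsg.Agent.S2949.result zn.hL zn.hN zn.hZ hO S L hb.1 hMJ T hT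
  obtain ⟨L₁, hL₁, hKL₁, -, -, -⟩ := Cfsg.Agent.S2950.result zn.hL zn.hN zn.hZ hO S L hb.1 hMJ T hT K hK
  have c : C51 S L T K L₁ := ⟨zn, hO, hb.1, hMJ, hT, hlS, hK, hL₁, hKL₁⟩
  have f := af c
  have hne : T ≠ (S : Subgroup G) := by
    intro h
    obtain ⟨N, hN, hTN, hNL⟩ := hT.1.2.2.2
    exact hNL (hb.2.2 N hN (h ▸ hTN))
  obtain ⟨x, hxS, hxN, hx2, hxL⟩ := k2x hlS f hne
  have hg : Good T L₁ := ⟨_, k2 hL₁ hKL₁ f (normalizer_le_normalizer_JJ T hxN) hxL⟩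
  have h51 := k1 hlS f hg
  have p := pp c f h51
  exact excl zn hb hlS f h51 p hxS hxN hx2 hxL (hSA _ _ _ (hyp f p hxN hx2 hxL))

theorem t51 (hnb : NoBad G) : T51 G := by
  intro S M T K L c
  have f := af c
  by_cases hg : Good T L
  · exact k1 c.hTS f hg
  · by_cases hne : T = (S : Subgroup G)
    · subst hne
      exact absurd (k3 c f hg) (hnb c.zn c.hO S L)
    · obtain ⟨x, hxS, hxN, hx2, hxL⟩ := k2x c.hTS f hne
      exact absurd ⟨_, k2 c.hLmax c.hKL f (normalizer_le_normalizer_JJ T hxN) hxL⟩ hg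

/-- the second component. -/
theorem second (hnb : NoBad G) {S : Sylow 2 G} {M T K L : Subgroup G} (c : C51 S M T K L) :
    ∃ K₂ L₂ : Subgroup G, IsJComponent T K₂ ∧ ¬ K₂ ≤ L ∧ PPr T K₂ L₂ := by
  have f := af c
  have h51 := t51 hnb
  have hSM : (S : Subgroup G) ≤ M := (le_normalizer.trans (normalizer_le_normalizer_JJ _)).trans c.hMJ
  by_cases hm : ∃ m ∈ M, m ∈ normalizer (T : Set G) ∧ m ∉ L
  · obtain ⟨m, hmM, hmT, hmL⟩ := hm
    have h1 := k2 c.hLmax c.hKL f (normalizer_le_normalizer_JJ T hmT) hmL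
    have h2 := jComponentsOutside_cj c.hK hmM
    have h3 : cjj m T = T := cj_eq_self_iff.mpr hmT
    rw [h3] at h2
    obtain ⟨L₂, hL₂, hKL₂, -, -, -⟩ :=
      Cfsg.Agent.S2950.result c.zn.hL c.zn.hN c.zn.hZ c.hO S M c.hM c.hMJ T c.hT _ h2
    have c2 : C51 S M T (cjj m K) L₂ := ⟨c.zn, c.hO, c.hM, c.hMJ, c.hT, c.hTS, h2, hL₂, hKL₂⟩
    exact ⟨_, L₂, h1.1, h1.2, pp c2 (af c2) (h51 _ _ _ _ _ c2)⟩
  · push Not at hm
    have hTS : T = (S : Subgroup G) := by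
      by_contra hne
      obtain ⟨x, hxS, hxN, hx2, hxL⟩ := k2x c.hTS f hne
      exact hxL (hm x (hSM hxS) hxN)
    subst hTS
    have hNS : normalizer ((S : Subgroup G) : Set G) ≤ L := fun n hn =>
      hm n (c.hMJ (normalizer_le_normalizer_JJ _ hn)) hn
    exact Helper64.JC2.g2_of (fun _ _ _ _ _ c => af c) (fun _ _ _ _ _ c f h => pp c f h) hnb h51 c f hNS

theorem core53 (hnb : NoBad G) {S : Sylow 2 G} {M T K L : Subgroup G} (c : C51 S M T K L) :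
    ∃ K₁ K₂ : Subgroup G, K₁ ≠ K₂ ∧ IsJComponent T K₁ ∧ IsJComponent T K₂ ∧
      pCoreOf 2 ((K₁ ⊔ T) ⊔ (K₂ ⊔ T)) = ⊥ ∧
      ∀ P ∈ [K₁ ⊔ T, K₂ ⊔ T],
        centralizer (pCoreOf 2 P : Set G) ≤ pCoreOf 2 P ∧ IsSylowTwoIn T P ∧
        (pCoreOf 2 P).relIndex P = 6 ∧ ¬ ⁅P, P⁆ ≤ pCoreOf 2 P ∧ ⁅omegaCenterOf T, P⁆ ≠ ⊥ ∧
        ∃ L : Subgroup G, IsMaximalTwoLocal L ∧ P ≤ L ∧ IsSylowTwoIn T L ∧
          ∀ L' : Subgroup G, IsMaximalTwoLocal L' → P ≤ L' → L' = L := by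
  have f := af c
  have p1 := pp c f (t51 hnb _ _ _ _ _ c)
  obtain ⟨K₂, L₂, hK₂, hK₂L, p2⟩ := second hnb c
  have hKL : K ≤ L := le_sup_left.trans c.hKL
  refine ⟨K, K₂, ?_, f.jc, hK₂, ?_, ?_⟩
  · rintro rfl
    exact hK₂L hKL
  · by_contra hR
    have h2l : IsTwoLocal (normalizer (pCoreOf 2 ((K ⊔ T) ⊔ (K₂ ⊔ T)) : Set G)) :=
      ⟨_, pCoreOf_isPGroup 2 _, hR, rfl⟩
    have hle : (K ⊔ T) ⊔ (K₂ ⊔ T) ≤ normalizer (pCoreOf 2 ((K ⊔ T) ⊔ (K₂ ⊔ T)) : Set G) :=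
      le_normalizer_pCoreOf 2 _
    have h1 : K ⊔ JJ T ≤ normalizer (pCoreOf 2 ((K ⊔ T) ⊔ (K₂ ⊔ T)) : Set G) :=
      (sup_le_sup_left (JJ_le T) K).trans (le_sup_left.trans hle)
    exact hK₂L ((le_sup_left.trans (le_sup_right.trans hle)).trans (f.a1 _ h2l h1))
  · intro P hP
    simp only [List.mem_cons, List.mem_nil_iff, or_false] at hP
    rcases hP with rfl | rfl
    · exact ⟨p1.cen, p1.syl, p1.h6, p1.nab, p1.hZ, L, p1.hL, p1.le, p1.sylL, p1.uniq⟩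
    · exact ⟨p2.cen, p2.syl, p2.h6, p2.nab, p2.hZ, L₂, p2.hL, p2.le, p2.sylL, p2.uniq⟩


theorem noBad' : NoBad G := noBad SA.mainSt

theorem t51' : T51 G := t51 noBad'

end Cfsg.Agent.Lib.Helper53.JC2
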