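import Cfsg.Agent.Lib.Helper53.JC3CKa
import Cfsg.Agent.Lib.Helper53.JC2Asm
import Cfsg.Agent.S2943
import Cfsg.Agent.S2946

set_option autoImplicit false

/-! Ladder JC3, rung CK. -/

namespace Cfsg.Agent.Lib.Helper53.JC3

open Cfsg Subgroup
open Cfsg.Agent.Lib.Helper53.JC Cfsg.Agent.Lib.Helper53.JC2
open scoped commutatorElement

variable {G : Type*} [Group G] [Finite G]

theorem ck (zn : ZN G) (S : Sylow 2 G)
    (hNJ : normalizer (JJ (S : Subgroup G) : Set G) ≤ normalizer ((S : Subgroup G) : Set G))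
    (hZ0 : omegaCenterOf (JJ (S : Subgroup G)) = omegaCenterOf (S : Subgroup G))
    {Ls X Q : Subgroup G} (hLs : IsTwoLocal Ls) (hS : (S : Subgroup G) ≤ Ls) (hX : X ≤ Ls)
    (hQS : Q ≤ (S : Subgroup G)) (hQX : Q ≤ X) (hDQ : pCoreOf 2 X ≤ Q)
    (hgen : X ≤ ⨆ g : X, cjj (g : G) Q) {x : G} (hx : x ∈ (S : Subgroup G))
    (hQD : Q ≤ pCoreOf 2 X ⊔ cjj x (pCoreOf 2 X)) : Q ≤ pCoreOf 2 X := by
  have hchar := Cfsg.Agent.Lib.Helper56.JC.twoLocal_char zn.hL hLs
  have hsyl' : IsSyl 2 (S : Subgroup G) Ls := (isSyl_top_of_sylow S).of_le hS le_top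
  have hsyl : IsSylowTwoIn (S : Subgroup G) Ls := isSylowTwoIn_iff.2 hsyl'
  by_cases hJ : JJ (S : Subgroup G) ≤ pCoreOf 2 Ls
  · have h1 : JJ (pCoreOf 2 Ls) = JJ (S : Subgroup G) :=
      Cfsg.Agent.Lib.Helper55.thompsonSubgroupOf_eq_of_le hJ (pCoreOf_le_isSyl hsyl')
    have h2 : Ls ≤ normalizer (JJ (S : Subgroup G) : Set G) := by
      rw [← h1]
      exact (le_normalizer_pCoreOf 2 Ls).trans (normalizer_le_normalizer_JJ _)
    have h3 : X ≤ normalizer ((S : Subgroup G) : Set G) := hX.trans (h2.trans hNJ)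
    exact (le_inf hQS hQX).trans
      (le_pCoreOf inf_le_right (le_normalizer_inf h3 le_normalizer) (S.2.to_le inf_le_left))
  · have hLj : Ls ∈ jOvergroups (S : Subgroup G) := ⟨hsyl, hJ, hchar⟩
    have hS1 : (S : Subgroup G) ≠ ⊥ := by
      intro h
      apply hJ
      have : JJ (S : Subgroup G) ≤ ⊥ := h ▸ JJ_le (S : Subgroup G)
      exact this.trans bot_le
    set 𝒦 : Set (Subgroup G) := {K | IsJComponent (S : Subgroup G) K ∧ K ≤ Ls} with h𝒦
    have hSK : ∀ K ∈ 𝒦, (S : Subgroup G) ≤ normalizer (K : Set G) := by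
      intro K hK
      apply Cfsg.Agent.S2943.result zn.hL zn.hN zn.hZ (S : Subgroup G) S.2 hS1 Ls hLj K hK.1 hK.2
      have h1 := (Cfsg.Agent.S2946.result zn.hL zn.hN zn.hZ (S : Subgroup G) S.2 hS1 K hK.1 _ rfl).1
      intro hb
      have h2 : omegaCenterOf (JJ (S : Subgroup G)) ⊓ wOf K ≤ ⊥ := by
        rw [← hb, hZ0]
        exact inf_le_inf_right _ (le_inf (omegaCenterOf_le _) (omegaCenterOf_le_centralizer _))
      rw [le_bot_iff] at h2
      rw [h2] at h1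
      simp at h1
    have hKK : ∀ K ∈ 𝒦, ∀ K' ∈ 𝒦, K' ≤ normalizer (K : Set G) := by
      intro K hK K' hK'
      refine le_trans ?_ (zn_st2 zn (S : Subgroup G) Ls K S.2 hLj hK.1 hK.2)
      conv_lhs => rw [← hK'.1.2.1]
      rw [commutator_le]
      intro k hk j hj
      have hj' : j ∈ HHL Ls := JJ_le_HHL hsyl' hj
      have e : ⁅k, j⁆ = (k * j * k⁻¹) * j⁻¹ := by simp only [commutatorElement_def]
      rw [e]
      exact mul_mem ((mem_normalizer_iff.1 (le_normalizer_HHL Ls (hK'.2 hk)) j).1 hj') (inv_mem hj')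
    have h3 : ∀ K ∈ 𝒦, (pCoreOf 2 K).relIndex K = 3 := fun K hK => hK.1.2.2.1
    have hcomm := comm_le_core 𝒦 (S : Subgroup G) S.2 h3 hSK hKK
    -- `E` is normal in `Ls`
    have hE : Ls ≤ normalizer ((sSup 𝒦 : Subgroup G) : Set G) := by
      intro l hl
      rw [← cj_eq_self_iff]
      apply cj_eq_of_le
      rw [Subgroup.map_le_iff_le_comap]
      apply sSup_le
      intro K hK
      rw [← Subgroup.map_le_iff_le_comap]
      exact le_sSup ⟨zn_st4 zn (S : Subgroup G) Ls K S.2 hLj hK.1 hK.2 l hl, cj_le_of_le_of_mem hK.2 hl⟩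
    have hN1 : Ls ≤ normalizer ((sSup 𝒦 ⊔ (S : Subgroup G) : Subgroup G) : Set G) := by
      apply Cfsg.Agent.Lib.Helper69.JC.st5 (zn_core1 zn) (zn_ffa zn) (S : Subgroup G) Ls _ S.2 hLj
      · intro K hK hKL
        exact ((le_sSup ⟨hK, hKL⟩ : K ≤ sSup 𝒦).trans le_sup_left).trans le_normalizer
      · exact (le_inf (inf_le_left.trans hE) (inf_le_right.trans hNJ)).trans
          (normalizer_inf_normalizer_le_normalizer_sup _ _)
      · exact (le_inf (inf_le_left.trans hE) (inf_le_right.trans (zn.hZ S))).trans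
          (normalizer_inf_normalizer_le_normalizer_sup _ _)
    have hXN : X ≤ sSup 𝒦 ⊔ (S : Subgroup G) := by
      refine hgen.trans (iSup_le fun g => ?_)
      have h1 : cjj (g : G) (sSup 𝒦 ⊔ (S : Subgroup G)) = sSup 𝒦 ⊔ (S : Subgroup G) :=
        cj_eq_self_iff.2 (hN1 (hX g.2))
      rw [← h1]
      exact cj_mono _ (hQS.trans le_sup_right)
    exact ck_fin hXN hcomm hQS hQX hDQ hx hQD

end Cfsg.Agent.Lib.Helper53.JC3
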