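import Cfsg.Agent.Lib.Helper53.SA2Defs
import Cfsg.Agent.Lib.Helper71.SAShift

/-!
The abstract rungs CRIT, SHIFT, CLAIMA, B3, B2 of the SA ladder (proved by helper71 for the vertex
set `G`), transported verbatim to an arbitrary vertex `G`-set `V`.
-/

set_option autoImplicit false
set_option linter.unusedSectionVars false

namespace Cfsg.Agent.Lib.Helper53.SA2

open Cfsg Subgroup
open Cfsg.Agent.Lib.Helper53.JC (cjj QQ)
open Cfsg.Agent.Lib.Helper71.SA (comm_mul_left comm_mul_right comm_eq_one_of_commute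
  commute_of_comm_eq_one inv_eq_self_of_sq crit_core mem_normalizer_of_invol)

variable {G : Type*} [Group G] {V : Type*} [MulAction G V]


/-! ### walks -/

theorem rev_zero (b : ℕ) (δ : ℕ → V) : rev b δ 0 = δ b := rfl

theorem rev_self (b : ℕ) (δ : ℕ → V) : rev b δ b = δ 0 := by
  show δ (b - b) = δ 0
  rw [Nat.sub_self]

theorem rev_apply (b i : ℕ) (δ : ℕ → V) : rev b δ i = δ (b - i) := rfl

theorem rev_pred (b : ℕ) (hb : 1 ≤ b) (δ : ℕ → V) : rev b δ (b - 1) = δ 1 := by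
  show δ (b - (b - 1)) = δ 1
  congr 1
  omega

theorem cons_zero (l : V) (δ : ℕ → V) : cons l δ 0 = l := rfl

theorem cons_succ (l : V) (δ : ℕ → V) (i : ℕ) : cons l δ (i + 1) = δ i := rfl

theorem isWalk_mono {Adj : V → V → Prop} {n m : ℕ} {δ : ℕ → V} (h : IsWalk Adj n δ) (hm : m ≤ n) :
    IsWalk Adj m δ := fun i hi => h i (lt_of_lt_of_le hi hm)

theorem isWalk_rev {Adj : V → V → Prop} (hs : ∀ g h, Adj g h → Adj h g) {b : ℕ} {δ : ℕ → V}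
    (h : IsWalk Adj b δ) : IsWalk Adj b (rev b δ) := by
  intro i hi
  show Adj (δ (b - i)) (δ (b - (i + 1)))
  have h1 := h (b - (i + 1)) (by omega)
  have h2 : b - (i + 1) + 1 = b - i := by omega
  rw [h2] at h1
  exact hs _ _ h1

theorem isWalk_cons {Adj : V → V → Prop} {n : ℕ} {δ : ℕ → V} {l : V} (hl : Adj l (δ 0))
    (h : IsWalk Adj n δ) : IsWalk Adj (n + 1) (cons l δ) := by
  intro i hi
  cases i with
  | zero => exact hl
  | succ i => exact h i (by omega)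

/-! ### consequences of `Geo` -/

section geo

variable {Pc Qc Zc : V → Subgroup G} {Adj : V → V → Prop}

theorem geo_conjZ (hg : Geo Pc Qc Zc Adj) {g : V} {a z : G} (ha : a ∈ Pc g) (hz : z ∈ Zc g) :
    a * z * a⁻¹ ∈ Zc g := (mem_normalizer_iff.mp (hg.Zn g ha) z).mp hz

theorem geo_conjQ (hg : Geo Pc Qc Zc Adj) {g : V} {a z : G} (ha : a ∈ Pc g) (hz : z ∈ Qc g) :
    a * z * a⁻¹ ∈ Qc g := (mem_normalizer_iff.mp (hg.Qn g ha) z).mp hz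

theorem geo_commQZ (hg : Geo Pc Qc Zc Adj) {g : V} {c z : G} (hc : c ∈ Qc g) (hz : z ∈ Zc g) :
    c * z = z * c := (mem_centralizer_iff.mp (hg.QZ g hc) z hz).symm

theorem geo_memQ (hg : Geo Pc Qc Zc Adj) {g : V} {t : G} (ht : t ∈ Pc g)
    (h : ∀ z ∈ Zc g, t * z = z * t) : t ∈ Qc g :=
  hg.CZ g ⟨ht, mem_centralizer_iff.mpr (fun z hz => (h z hz).symm)⟩

/-- first half of CRIT -/
theorem crit_half (hg : Geo Pc Qc Zc Adj) {b : ℕ} {δ : ℕ → V} (hb : 1 ≤ b)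
    (hmin : Min Qc Zc Adj b) (hc : Crit Qc Zc Adj b δ) :
    Zc (δ 0) ≤ Pc (δ (b - 1)) ⊓ Pc (δ b) ∧ Crit Qc Zc Adj b (rev b δ) := by
  have h1 : Zc (δ 0) ≤ Qc (δ (b - 1)) := hmin (b - 1) (by omega) δ (isWalk_mono hc.1 (by omega))
  have hadj : Adj (δ (b - 1)) (δ b) := by
    have := hc.1 (b - 1) (by omega)
    rwa [Nat.sub_add_cancel hb] at this
  have h2 : Zc (δ 0) ≤ Pc (δ (b - 1)) ⊓ Pc (δ b) :=
    le_inf (h1.trans (hg.QP _)) (h1.trans (hg.QT _ _ hadj))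
  refine ⟨h2, isWalk_rev hg.symm hc.1, ?_⟩
  rw [rev_zero, rev_self]
  intro h3
  apply hc.2
  intro z hz
  apply geo_memQ hg (h2 hz).2
  intro w hw
  exact (geo_commQZ hg (h3 hw) hz).symm

theorem crit : CritSt G V := by
  intro Pc Qc Zc Adj hg b δ hb hmin hc
  obtain ⟨h1, hrev⟩ := crit_half hg hb hmin hc
  obtain ⟨h2, -⟩ := crit_half hg hb hmin hrev
  rw [rev_zero, rev_self, rev_pred b hb] at h2
  have h2' : Zc (δ b) ≤ Pc (δ 0) ⊓ Pc (δ 1) := fun z hz => ⟨(h2 hz).2, (h2 hz).1⟩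
  refine ⟨hrev, h1, h2', ?_⟩
  obtain ⟨s, hs, hsQ⟩ := SetLike.not_le_iff_exists.mp hc.2
  have hrev2 := hrev.2
  rw [rev_zero, rev_self] at hrev2
  obtain ⟨t, ht, htQ⟩ := SetLike.not_le_iff_exists.mp hrev2
  have hadj0 : Adj (δ 0) (δ 1) := hc.1 0 (by omega)
  have hadjb : Adj (δ (b - 1)) (δ b) := by
    have := hc.1 (b - 1) (by omega)
    rwa [Nat.sub_add_cancel hb] at this
  obtain ⟨hne, hmA, hmB, hst, hc0, hcb⟩ := crit_core (Zc (δ 0)) (Zc (δ b)) (Qc (δ 0)) (Qc (δ b))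
    (Pc (δ 0) ⊓ Pc (δ 1)) (Pc (δ (b - 1)) ⊓ Pc (δ b)) h1 h2'
    (fun a ha z hz => geo_conjZ hg ha.1 hz) (fun a ha z hz => geo_conjZ hg ha.2 hz)
    (fun c hc z hz => geo_commQZ hg hc hz) (fun c hc z hz => geo_commQZ hg hc hz)
    (fun a b ha hb => hg.ind2 _ _ hadj0 a b ha hb)
    (fun a b ha hb => hg.ind2 _ _ (hg.symm _ _ hadjb) a b ⟨ha.2, ha.1⟩ ⟨hb.2, hb.1⟩)
    (hg.Zexp _) (hg.Zexp _) (fun t ht h => geo_memQ hg ht.1 h) s t hs hsQ ht htQ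
  have hcent : ∀ a : G, (a * (s * t * s⁻¹ * t⁻¹) * a⁻¹ * (s * t * s⁻¹ * t⁻¹)⁻¹ = 1 ∨
      a * (s * t * s⁻¹ * t⁻¹) * a⁻¹ * (s * t * s⁻¹ * t⁻¹)⁻¹ = s * t * s⁻¹ * t⁻¹) →
      a ∈ centralizer {s * t * s⁻¹ * t⁻¹} := by
    intro a h
    rw [mem_centralizer_singleton_iff]
    rcases h with h | h
    · exact commute_of_comm_eq_one h
    · exfalso
      apply hne
      have h3 : a * (s * t * s⁻¹ * t⁻¹) * a⁻¹ = 1 := by
        calc a * (s * t * s⁻¹ * t⁻¹) * a⁻¹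
            = (a * (s * t * s⁻¹ * t⁻¹) * a⁻¹ * (s * t * s⁻¹ * t⁻¹)⁻¹) * (s * t * s⁻¹ * t⁻¹) := by
              group
          _ = (s * t * s⁻¹ * t⁻¹) * (s * t * s⁻¹ * t⁻¹) := by rw [h]
          _ = 1 := hg.Zexp _ _ hmA
      calc s * t * s⁻¹ * t⁻¹ = a⁻¹ * (a * (s * t * s⁻¹ * t⁻¹) * a⁻¹) * a := by group
        _ = 1 := by rw [h3]; group
  exact ⟨s * t * s⁻¹ * t⁻¹, hne, hmA, hmB, hst, hc0, hcb,
    fun a ha => hcent a (hc0 _ hmA a ha), fun a ha => hcent a (hcb _ hmB a ha)⟩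

/-- `IsR` is symmetric under reversal -/
theorem isR_rev (hg : Geo Pc Qc Zc Adj) {b : ℕ} {δ : ℕ → V} (hb : 1 ≤ b) {r : G}
    (h : IsR Pc Qc Zc b δ r) : IsR Pc Qc Zc b (rev b δ) r := by
  have hrinv : r⁻¹ = r := inv_eq_self_of_sq (hg.Zexp _ _ h.mem0)
  have e1 : rev b δ 1 = δ (b - 1) := rfl
  refine ⟨h.ne, ?_, ?_, ?_, ?_, ?_, ?_, ?_⟩
  · rw [rev_zero]; exact h.memb
  · rw [rev_self]; exact h.mem0
  · rw [rev_zero, rev_self]
    intro s hs hsQ t ht htQ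
    have := h.st t ht htQ s hs hsQ
    calc s * t * s⁻¹ * t⁻¹ = (t * s * t⁻¹ * s⁻¹)⁻¹ := by group
      _ = r := by rw [this, hrinv]
  · rw [rev_zero, e1]
    intro z hz a ha
    exact h.cb z hz a ⟨ha.2, ha.1⟩
  · rw [rev_self, rev_pred b hb]
    intro z hz a ha
    exact h.c0 z hz a ⟨ha.2, ha.1⟩
  · rw [rev_zero, e1]
    intro a ha
    exact h.zb ⟨ha.2, ha.1⟩
  · rw [rev_self, rev_pred b hb]
    intro a ha
    exact h.z0 ⟨ha.2, ha.1⟩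

end geo



theorem shift (hc : CritSt G V) : ShiftSt G V := by
  intro Pc Qc Zc Adj hg b δ hb hmin hcr l hl hne
  obtain ⟨hrev, h1, h2, r, hr⟩ := hc Pc Qc Zc Adj hg b δ (by omega) hmin hcr
  obtain ⟨k, rfl⟩ : ∃ k, b = k + 1 := ⟨b - 1, by omega⟩
  have hw : IsWalk Adj (k + 1) (cons l δ) :=
    isWalk_cons (hg.symm _ _ hl) (isWalk_mono hcr.1 (by omega))
  refine ⟨hw, ?_⟩
  rw [cons_zero, cons_succ]
  intro hZl
  have hrev2 := hrev.2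
  rw [rev_zero, rev_self] at hrev2
  obtain ⟨t, ht, htQ⟩ := SetLike.not_le_iff_exists.mp hrev2
  have htT := h2 ht
  have htt : t * t = 1 := hg.Zexp _ _ ht
  have hadjb : Adj (δ k) (δ (k + 1)) := hcr.1 k (by omega)
  have hadj0 : Adj (δ 0) (δ 1) := hcr.1 0 (by omega)
  -- `t` normalizes `Z_al ⊔ Z_l`
  have htN : t ∈ normalizer ((Zc (δ 0) ⊔ Zc l : Subgroup G) : Set G) := by
    apply mem_normalizer_of_invol htt
    have hle : Zc (δ 0) ⊔ Zc l ≤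
        (Zc (δ 0) ⊔ Zc l).comap (MulAut.conj t).toMonoidHom := by
      apply sup_le
      · intro z hz
        rw [mem_comap]
        exact (le_sup_left : Zc (δ 0) ≤ Zc (δ 0) ⊔ Zc l) (geo_conjZ hg htT.1 hz)
      · intro a ha
        rw [mem_comap]
        show t * a * t⁻¹ ∈ _
        have ha' : a⁻¹ ∈ Pc (δ (k + 1 - 1)) ⊓ Pc (δ (k + 1)) :=
          ⟨hg.QP _ (hZl ((Zc l).inv_mem ha)), hg.QT _ _ hadjb (hZl ((Zc l).inv_mem ha))⟩
        have h3 := hr.cb t ht a⁻¹ ha'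
        have h4 : t * a * t⁻¹ = a * (a⁻¹ * t * a⁻¹⁻¹ * t⁻¹) := by group
        rw [h4]
        apply Subgroup.mul_mem _ ((le_sup_right : Zc l ≤ Zc (δ 0) ⊔ Zc l) ha)
        rcases h3 with h3 | h3
        · rw [h3]; exact Subgroup.one_mem _
        · rw [h3]; exact (le_sup_left : Zc (δ 0) ≤ Zc (δ 0) ⊔ Zc l) hr.mem0
    intro w hw
    exact hle hw
  have htl : t ∉ Pc l := by
    intro htl
    exact htQ (hg.inter _ _ _ hadj0 hl (Ne.symm hne) ⟨htT, htl⟩)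
  have hTle : Pc (δ 0) ⊓ Pc l ≤ normalizer ((Zc (δ 0) ⊔ Zc l : Subgroup G) : Set G) := by
    refine le_trans ?_ (normalizer_inf_normalizer_le_normalizer_sup (Zc (δ 0)) (Zc l))
    exact inf_le_inf (hg.Zn _) (hg.Zn _)
  exact hg.noN _ _ hl (hg.max _ _ hl t htT.1 htl _ hTle htN)



/-- a second neighbour of `g`, different from `h` -/
theorem exists_other_nbr {Pc Qc Zc : V → Subgroup G} {Adj : V → V → Prop}
    (hg : Geo Pc Qc Zc Adj) {g h : V} (hadj : Adj g h) :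
    ∃ l, Adj g l ∧ Pc g ⊓ Pc l ≠ Pc g ⊓ Pc h := by
  obtain ⟨a, ha, hna⟩ := hg.exm g h hadj
  exact ⟨a • h, hg.act g h hadj a ha, hg.move g h hadj a ha hna⟩

theorem claimA_half (hs : ShiftSt G V) {Pc Qc Zc : V → Subgroup G} {Adj : V → V → Prop}
    (hg : Geo Pc Qc Zc Adj) {b : ℕ} {δ : ℕ → V} (hb : 2 ≤ b) (hmin : Min Qc Zc Adj b)
    (hcr : Crit Qc Zc Adj b δ) {r : G} (hr : IsR Pc Qc Zc b δ r) :
    Pc (δ (b - 1)) ≤ centralizer {r} := by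
  obtain ⟨k, rfl⟩ : ∃ k, b = k + 2 := ⟨b - 2, by omega⟩
  have hadj0 : Adj (δ 0) (δ 1) := hcr.1 0 (by omega)
  have hadjk : Adj (δ k) (δ (k + 1)) := hcr.1 k (by omega)
  have hadjb : Adj (δ (k + 1)) (δ (k + 2)) := hcr.1 (k + 1) (by omega)
  obtain ⟨l, hl, hne⟩ := exists_other_nbr hg hadj0
  have hsh := hs Pc Qc Zc Adj hg (k + 2) δ hb hmin hcr l hl hne
  have hsh2 : ¬ Zc l ≤ Qc (δ (k + 1)) := hsh.2
  obtain ⟨q, hq, hqQ⟩ := SetLike.not_le_iff_exists.mp hsh2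
  have hqk : q ∈ Qc (δ k) :=
    hmin (k + 1) (by omega) (cons l δ) (isWalk_mono hsh.1 (by omega)) hq
  have hq0 : q ∈ Qc (δ 0) :=
    hmin 1 (by omega) (cons l δ) (isWalk_mono hsh.1 (by omega)) hq
  have hqr : q ∈ centralizer {r} := by
    rw [mem_centralizer_singleton_iff]
    exact geo_commQZ hg hq0 hr.mem0
  have hne' : Pc (δ (k + 1)) ⊓ Pc (δ k) ≠ Pc (δ (k + 1)) ⊓ Pc (δ (k + 2)) := by
    intro h
    have h1 := hg.same _ _ _ (hg.symm _ _ hadjk) hadjb h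
    apply hcr.2
    rw [← h1]
    exact hmin k (by omega) δ (isWalk_mono hcr.1 (by omega))
  have hqP : q ∈ Pc (δ (k + 1)) := hg.QT _ _ hadjk hqk
  have hqb : q ∉ Pc (δ (k + 2)) := by
    intro h
    exact hqQ (hg.inter _ _ _ (hg.symm _ _ hadjk) hadjb hne' ⟨⟨hqP, hg.QP _ hqk⟩, h⟩)
  exact hg.max _ _ hadjb q hqP hqb _ hr.zb hqr

theorem claimA (hc : CritSt G V) (hs : ShiftSt G V) : ClaimASt G V := by
  intro Pc Qc Zc Adj hg b δ hb hmin hcr r hr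
  refine ⟨?_, claimA_half hs hg hb hmin hcr hr⟩
  obtain ⟨hrev, -⟩ := hc Pc Qc Zc Adj hg b δ (by omega) hmin hcr
  have := claimA_half hs hg hb hmin hrev (isR_rev hg (by omega) hr)
  rwa [rev_pred b (by omega)] at this



theorem b3 (hc : CritSt G V) (hs : ShiftSt G V) (ha : ClaimASt G V) : B3St G V := by
  intro Pc Qc Zc Adj hg b δ hmin hcr
  by_contra hb
  obtain ⟨k, rfl⟩ : ∃ k, b = k + 3 := ⟨b - 3, by omega⟩
  have hadj0 : Adj (δ 0) (δ 1) := hcr.1 0 (by omega)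
  obtain ⟨hrev, -, h2, -⟩ := hc Pc Qc Zc Adj hg (k + 3) δ (by omega) hmin hcr
  obtain ⟨l, hl, hne⟩ := exists_other_nbr hg hadj0
  have hw1 := hs Pc Qc Zc Adj hg (k + 3) δ (by omega) hmin hcr l hl hne
  obtain ⟨m, hm, hnem⟩ := exists_other_nbr hg (hg.symm _ _ hl)
  have hw2 := hs Pc Qc Zc Adj hg (k + 3) (cons l δ) (by omega) hmin hw1 m hm hnem
  obtain ⟨-, -, -, r2, hr2⟩ := hc Pc Qc Zc Adj hg (k + 3) (cons m (cons l δ)) (by omega) hmin hw2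
  obtain ⟨hPl, hPk⟩ := ha Pc Qc Zc Adj hg (k + 3) (cons m (cons l δ)) (by omega) hmin hw2 r2 hr2
  have hPl' : Pc l ≤ centralizer {r2} := hPl
  have hPk' : Pc (δ k) ≤ centralizer {r2} := hPk
  have hrev2 := hrev.2
  rw [rev_zero, rev_self] at hrev2
  obtain ⟨t, ht, htQ⟩ := SetLike.not_le_iff_exists.mp hrev2
  have htT := h2 ht
  have htl : t ∉ Pc l := by
    intro htl
    exact htQ (hg.inter _ _ _ hadj0 hl (Ne.symm hne) ⟨htT, htl⟩)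
  have htk : t ∈ Pc (δ k) := by
    rcases Nat.eq_zero_or_pos k with rfl | hk
    · exact htT.1
    · have h3 := hmin 3 (by omega) (rev (k + 3) δ) (isWalk_mono hrev.1 (by omega))
      rw [rev_zero, rev_apply, Nat.add_sub_cancel] at h3
      exact hg.QP _ (h3 ht)
  have hPal : Pc (δ 0) ≤ centralizer {r2} :=
    hg.max _ _ hl t htT.1 htl _ (inf_le_right.trans hPl') (hPk' htk)
  have hr2l : r2 ∈ Qc l :=
    hmin 1 (by omega) (cons m (cons l δ)) (isWalk_mono hw2.1 (by omega)) hr2.mem0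
  exact hr2.ne (hg.noZ _ _ hl r2 (hg.QT _ _ (hg.symm _ _ hl) hr2l) (hg.QP _ hr2l) hPal hPl')



theorem b2 (hc : CritSt G V) (hs : ShiftSt G V) (ha : ClaimASt G V) : B2St G V := by
  intro Pc Qc Zc Adj hg δ hmin hcr
  have hadj0 : Adj (δ 0) (δ 1) := hcr.1 0 (by omega)
  have hadj1 : Adj (δ 1) (δ 2) := hcr.1 1 (by omega)
  obtain ⟨hrev, -, h2, r, hr⟩ := hc Pc Qc Zc Adj hg 2 δ (by omega) hmin hcr
  obtain ⟨hPbe, -⟩ := ha Pc Qc Zc Adj hg 2 δ le_rfl hmin hcr r hr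
  have hrev2 := hrev.2
  rw [rev_zero, rev_self] at hrev2
  obtain ⟨t, ht, htQ⟩ := SetLike.not_le_iff_exists.mp hrev2
  have htT := h2 ht
  have htt : t * t = 1 := hg.Zexp _ _ ht
  have tinv : t⁻¹ = t := inv_eq_self_of_sq htt
  obtain ⟨l, hl, hne⟩ := exists_other_nbr hg hadj0
  have htl : t ∉ Pc l := by
    intro htl
    exact htQ (hg.inter _ _ _ hadj0 hl (Ne.symm hne) ⟨htT, htl⟩)
  have hw1 := hs Pc Qc Zc Adj hg 2 δ le_rfl hmin hcr l hl hne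
  obtain ⟨m, hm, hnem⟩ := exists_other_nbr hg (hg.symm _ _ hl)
  have hw2 := hs Pc Qc Zc Adj hg 2 (cons l δ) le_rfl hmin hw1 m hm hnem
  obtain ⟨hw2r, -⟩ := hc Pc Qc Zc Adj hg 2 (cons m (cons l δ)) (by omega) hmin hw2
  have e0 : rev 2 (cons m (cons l δ)) 0 = δ 0 := rfl
  have e1 : rev 2 (cons m (cons l δ)) 1 = l := rfl
  have hn : Adj (δ 0) (t • l) := hg.act _ _ hl t htT.1
  have hnen : Pc (δ 0) ⊓ Pc (t • l) ≠ Pc (δ 0) ⊓ Pc l := hg.move _ _ hl t htT.1 htl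
  have hw3 := hs Pc Qc Zc Adj hg 2 (rev 2 (cons m (cons l δ))) le_rfl hmin hw2r (t • l) hn hnen
  obtain ⟨hw3r, -, -, r3, hr3⟩ := hc Pc Qc Zc Adj hg 2
    (cons (t • l) (rev 2 (cons m (cons l δ)))) (by omega) hmin hw3
  obtain ⟨hPal, -⟩ := ha Pc Qc Zc Adj hg 2
    (cons (t • l) (rev 2 (cons m (cons l δ)))) le_rfl hmin hw3 r3 hr3
  have hPal' : Pc (δ 0) ≤ centralizer {r3} := hPal
  have hw3r2 : ¬ Zc l ≤ Qc (t • l) := hw3r.2
  obtain ⟨q, hq, hqQ⟩ := SetLike.not_le_iff_exists.mp hw3r2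
  have hqq : q * q = 1 := hg.Zexp _ _ hq
  have qinv : q⁻¹ = q := inv_eq_self_of_sq hqq
  have hq' : t * q * t⁻¹ ∈ Zc (t • l) := by
    rw [hg.Zmul]
    exact ⟨q, hq, rfl⟩
  have hq'Q : t * q * t⁻¹ ∉ Qc l := by
    intro h
    apply hqQ
    rw [hg.Qmul]
    refine ⟨t * q * t⁻¹, h, ?_⟩
    show t * (t * q * t⁻¹) * t⁻¹ = q
    calc t * (t * q * t⁻¹) * t⁻¹ = (t * t) * q * (t * t)⁻¹ := by group
      _ = q := by rw [htt]; group
  have hst : (t * q * t⁻¹) * q * (t * q * t⁻¹)⁻¹ * q⁻¹ = r3 := hr3.st _ hq' hq'Q q hq hqQ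
  have hr3l : r3 ∈ Zc l := hr3.memb
  have hqr3 : q * r3 = r3 * q := geo_commQZ hg (hg.ZQ _ hq) hr3l
  have hkey : (q * t * q⁻¹) * t * (q * t * q⁻¹)⁻¹ * t⁻¹ = r3 := by
    have h3 : (q * t * q⁻¹) * t * (q * t * q⁻¹)⁻¹ * t⁻¹ =
        q * ((t * q * t⁻¹) * q * (t * q * t⁻¹)⁻¹ * q⁻¹) * q⁻¹ := by
      simp only [mul_inv_rev, tinv, qinv, mul_assoc, hqq, mul_one]
    rw [h3, hst, hqr3]
    group
  have htbe : t ∈ Qc (δ 1) :=
    hmin 1 (by omega) (rev 2 δ) (isWalk_mono hrev.1 (by omega)) ht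
  have hq0 : q ∈ Qc (δ 0) :=
    hmin 1 (by omega) (cons l δ) (isWalk_mono hw1.1 (by omega)) hq
  have haQ : q * t * q⁻¹ ∈ Qc (δ 1) := geo_conjQ hg (hg.QT _ _ hadj0 hq0) htbe
  have hcb := hr.cb t ht (q * t * q⁻¹) ⟨hg.QP _ haQ, hg.QT _ _ hadj1 haQ⟩
  rw [hkey] at hcb
  have hr3r : r3 = r := hcb.resolve_left hr3.ne
  rw [hr3r] at hPal'
  have hrQ : r ∈ Qc (δ 0) := hg.ZQ _ hr.mem0
  exact hr.ne (hg.noZ _ _ hadj0 r (hg.QP _ hrQ) (hg.QT _ _ hadj0 hrQ) hPal' hPbe)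


theorem b3St : B3St G V := b3 crit (shift crit) (claimA crit (shift crit))

theorem b2St : B2St G V := b2 crit (shift crit) (claimA crit (shift crit))

/-- abstract part: a `Geo` has a critical edge. -/
theorem geo_crit_edge {Pc Qc Zc : V → Subgroup G} {Adj : V → V → Prop}
    (h : Geo Pc Qc Zc Adj) : ∃ g k, Adj g k ∧ ¬ Zc g ≤ Qc k := by
  classical
  have hex : ∃ n : ℕ, ∃ δ : ℕ → V, Crit Qc Zc Adj n δ := by
    obtain ⟨n, δ, h1, h2⟩ := h.exc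
    exact ⟨n, δ, h1, h2⟩
  obtain ⟨δ, hδ⟩ := Nat.find_spec hex
  have hmin : Min Qc Zc Adj (Nat.find hex) := by
    intro n hn δ' hw
    by_contra hcon
    exact Nat.find_min hex hn ⟨δ', hw, hcon⟩
  generalize Nat.find hex = b at hδ hmin
  have hb3 : b < 3 := b3St Pc Qc Zc Adj h b δ hmin hδ
  have hb0 : b ≠ 0 := by
    rintro rfl
    exact hδ.2 (h.ZQ _)
  have hb2 : b ≠ 2 := by
    rintro rfl
    exact b2St Pc Qc Zc Adj h δ hmin hδ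
  have hb1 : b = 1 := by omega
  subst hb1
  exact ⟨δ 0, δ 1, hδ.1 0 (by norm_num), hδ.2⟩

end Cfsg.Agent.Lib.Helper53.SA2
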