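import Cfsg.Agent.Lib.Helper53.JC2Asm
import Cfsg.Agent.Lib.Helper53.SA2Abs
import Cfsg.Agent.Lib.Helper53.BALoc1
import Cfsg.Agent.Lib.Helper53.JC3BH
import Cfsg.Agent.Lib.Helper53.JC3CK
import Cfsg.Agent.Lib.Helper56.BABgeo
import Cfsg.Agent.Lib.Helper36.BABend
import Cfsg.Agent.Lib.Helper36.BABstr
import Cfsg.Agent.Lib.Helper56.JC3X0
import Cfsg.Agent.Lib.Helper68.JC3CI
import Cfsg.Agent.Lib.Helper68.JC3PL

set_option autoImplicit false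

/-! Assembly of S2954. -/

namespace Cfsg.Agent.Lib.Helper53.JC3

open Cfsg Subgroup
open Cfsg.Agent.Lib.Helper53.JC Cfsg.Agent.Lib.Helper53.JC2
open Cfsg.Agent.Lib.Helper53.SA (ZP)
open Cfsg.Agent.Lib.Helper53.SA2 (BHyp geo_crit_edge)
open Cfsg.Agent.Lib.Helper53.BA (loc1)
open Cfsg.Agent.Lib.Helper56.BA (bgeo)
open Cfsg.Agent.Lib.Helper36.BA (bend bstr)
open Cfsg.Agent.Lib.Helper56.JC3 (x0)
open Cfsg.Agent.Lib.Helper68.JC3 (caseI_of p_eq_l)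

variable {G : Type*} [Group G] [Finite G]

theorem caseI (zn : ZN G) (S : Sylow 2 G)
    (hNJ : normalizer (JJ (S : Subgroup G) : Set G) ≤ normalizer ((S : Subgroup G) : Set G))
    (hZ0 : omegaCenterOf (JJ (S : Subgroup G)) = omegaCenterOf (S : Subgroup G))
    {K₁ L₁ K₂ L₂ : Subgroup G} (jc₁ : IsJComponent (S : Subgroup G) K₁)
    (p₁ : PPr (S : Subgroup G) K₁ L₁) (p₂ : PPr (S : Subgroup G) K₂ L₂) (hne : L₁ ≠ L₂) :
    ¬ (K₁ ⊔ (S : Subgroup G)) ≤ normalizer ((ZP (K₁ ⊔ (S : Subgroup G)) (S : Subgroup G) ⊔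
      ZP (K₂ ⊔ (S : Subgroup G)) (S : Subgroup G) : Subgroup G) : Set G) :=
  caseI_of S (fun h1 h2 h3 h4 h5 h6 h7 _ h8 h9 => ck zn S hNJ hZ0 h1 h2 h3 h4 h5 h6 h7 h8 h9)
    (fun h1 h2 h3 h4 h5 h6 => x0 h1 h2 h3 h4 h5 h6) jc₁ p₁ p₂ hne

/-- bipartite main theorem. -/
theorem bmain {P₁ P₂ T : Subgroup G} (h : BHyp P₁ P₂ T)
    (hn₁ : ¬ P₁ ≤ normalizer ((ZP P₁ T ⊔ ZP P₂ T : Subgroup G) : Set G))
    (hn₂ : ¬ P₂ ≤ normalizer ((ZP P₂ T ⊔ ZP P₁ T : Subgroup G) : Set G)) :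
    (∀ g ∈ pCoreOf 2 P₁, g * g = 1) ∧ (∀ g ∈ pCoreOf 2 P₂, g * g = 1) := by
  apply bend loc1 P₁ P₂ T h
  rintro ⟨h12, h21⟩
  obtain ⟨v, w, hadj, hnot⟩ := geo_crit_edge (bgeo loc1 P₁ P₂ T h hn₁ hn₂)
  obtain ⟨hi, p, hp, p', hp', hw⟩ := hadj
  apply hnot
  have l1 := loc1 P₁ T h.syl₁ h.h6₁ h.hchar₁ h.hZ₁
  have l2 := loc1 P₂ T h.syl₂ h.h6₂ h.hchar₂ h.hZ₂
  -- conjugate to the base edge
  have key : ∀ (A B : Subgroup G), p ∈ normalizer (A : Set G) → p' ∈ normalizer (B : Set G) → A ≤ B →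
      cjj v.g A ≤ cjj w.g B := by
    intro A B hA hB hAB
    have e1 : cjj v.g A = cjj (v.g * p) A := by
      show A.map _ = A.map _
      rw [← cj_cj, cj_eq_self_iff.mpr hA]
    have e2 : cjj w.g B = cjj (v.g * p) B := by
      rw [hw]
      show B.map _ = B.map _
      rw [← cj_cj, cj_eq_self_iff.mpr hB]
    rw [e1, e2]
    exact cj_mono _ hAB
  rcases v with ⟨vg, vi⟩
  rcases w with ⟨wg, wi⟩
  cases vi <;> cases wi <;> simp only [ne_eq, not_true_eq_false, reduceCtorEq, not_false_eq_true] at hi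
  · exact key _ _ (l1.Zn hp) (le_normalizer_pCoreOf 2 _ hp') h12
  · exact key _ _ (l2.Zn hp) (le_normalizer_pCoreOf 2 _ hp') h21


open Cfsg.Agent.Lib.Helper56.JC2 (af)
open Cfsg.Agent.Lib.Helper64.JC2 (jComponentsOutside_cj)
open Cfsg.Agent.Lib.Helper68.JC2 (pp)
open Cfsg.Agent.Lib.Helper69.JC2 (k2 k2x hyp)

theorem core54 {S : Sylow 2 G} {M T K L : Subgroup G} (c : C51 S M T K L) :
    ∃ P₁ P₂ : Subgroup G, P₁ ≠ P₂ ∧ IsMaximalTwoLocal P₁ ∧ IsMaximalTwoLocal P₂ ∧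
      IsSylowTwoIn T P₁ ∧ IsSylowTwoIn T P₂ ∧
      ((Nonempty (↥P₁ ≃* Equiv.Perm (Fin 4)) ∧ Nonempty (↥P₂ ≃* Equiv.Perm (Fin 4))) ∨
        (Nonempty (↥P₁ ≃* Equiv.Perm (Fin 4) × Multiplicative (ZMod 2)) ∧
          Nonempty (↥P₂ ≃* Equiv.Perm (Fin 4) × Multiplicative (ZMod 2)))) := by
  have f := af c
  have h51 := t51' _ _ _ _ _ c
  have p₁ := pp c f h51
  have hSM : (S : Subgroup G) ≤ M := (le_normalizer.trans (normalizer_le_normalizer_JJ _)).trans c.hMJ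
  have key : ∃ K₂ L₂ : Subgroup G, IsJComponent T K₂ ∧ PPr T K₂ L₂ ∧ L ≠ L₂ ∧
      (∀ g ∈ pCoreOf 2 (K ⊔ T), g * g = 1) ∧ (∀ g ∈ pCoreOf 2 (K₂ ⊔ T), g * g = 1) := by
    by_cases hne : T = (S : Subgroup G)
    · subst hne
      obtain ⟨K₂, L₂, jc₂, hK₂L, p₂⟩ := second noBad' c
      have hLL : L ≠ L₂ := by
        rintro rfl
        exact hK₂L (le_sup_left.trans p₂.le)
      have hZ0 : omegaCenterOf (JJ (S : Subgroup G)) = omegaCenterOf (S : Subgroup G) := by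
        rcases h51.2 with h | h | h
        · exact h.1.symm
        · exact h.1.symm
        · exact h.1.symm
      have hNJ : normalizer (JJ (S : Subgroup G) : Set G) ≤ normalizer ((S : Subgroup G) : Set G) := by
        refine le_trans ?_ f.a8
        rw [← hZ0]
        exact normalizer_le_normalizer_omegaCenterOf _
      have h := bmain (bhyp p₁ p₂ hLL) (caseI c.zn S hNJ hZ0 f.jc p₁ p₂ hLL)
        (caseI c.zn S hNJ hZ0 jc₂ p₂ p₁ hLL.symm)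
      exact ⟨K₂, L₂, jc₂, p₂, hLL, h.1, h.2⟩
    · obtain ⟨x, hxS, hxN, hx2, hxL⟩ := k2x c.hTS f hne
      have h1 := k2 c.hLmax c.hKL f (normalizer_le_normalizer_JJ T hxN) hxL
      have h2 := jComponentsOutside_cj c.hK (hSM hxS)
      have h3 : cjj x T = T := cj_eq_self_iff.mpr hxN
      rw [h3] at h2
      obtain ⟨L₂, hL₂, hKL₂, -, -, -⟩ :=
        Cfsg.Agent.S2950.result c.zn.hL c.zn.hN c.zn.hZ c.hO S M c.hM c.hMJ T c.hT _ h2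
      have c2 : C51 S M T (cjj x K) L₂ := ⟨c.zn, c.hO, c.hM, c.hMJ, c.hT, c.hTS, h2, hL₂, hKL₂⟩
      have p₂ := pp c2 (af c2) (t51' _ _ _ _ _ c2)
      have hLL : L ≠ L₂ := by
        rintro rfl
        exact h1.2 (le_sup_left.trans p₂.le)
      have e₁ : ∀ g ∈ pCoreOf 2 (K ⊔ T), g * g = 1 := SA.mainSt _ _ _ (hyp f p₁ hxN hx2 hxL)
      refine ⟨_, L₂, h1.1, p₂, hLL, e₁, ?_⟩
      have e : cjj x K ⊔ T = cjj x (K ⊔ T) := by
        have h4 : cjj x (K ⊔ T) = cjj x K ⊔ cjj x T := cj_sup K T x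
        rw [h4, h3]
      rw [e]
      intro g hg
      rw [pCoreOf_cj] at hg
      obtain ⟨g', hg', rfl⟩ := hg
      show x * g' * x⁻¹ * (x * g' * x⁻¹) = 1
      have := e₁ g' hg'
      calc x * g' * x⁻¹ * (x * g' * x⁻¹) = x * (g' * g') * x⁻¹ := by group
        _ = 1 := by rw [this]; group
  obtain ⟨K₂, L₂, jc₂, p₂, hLL, e₁, e₂⟩ := key
  have hb := bhyp p₁ p₂ hLL
  have hs := bstr loc1 _ _ _ hb e₁ e₂
  have hc : Nat.card ↥(pCoreOf 2 (K ⊔ T)) ≤ 8 ∧ Nat.card ↥(pCoreOf 2 (K₂ ⊔ T)) ≤ 8 := by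
    rcases hs with h | h
    · exact ⟨by rw [h.1]; norm_num, by rw [h.2.1]; norm_num⟩
    · exact ⟨by rw [h.1], by rw [h.2.1]⟩
  have q₁ : K ⊔ T = L := p_eq_l c.zn f.jc p₁ e₁ hc.1
  have q₂ : K₂ ⊔ T = L₂ := p_eq_l c.zn jc₂ p₂ e₂ hc.2
  rw [q₁, q₂] at hs
  refine ⟨L, L₂, hLL, p₁.hL, p₂.hL, p₁.sylL, p₂.sylL, ?_⟩
  rcases hs with h | h
  · exact Or.inl h.2.2
  · exact Or.inr h.2.2

end Cfsg.Agent.Lib.Helper53.JC3
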