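import Cfsg.Agent.Lib.Helper53.CharP

set_option autoImplicit false

namespace Cfsg.Agent.Lib.Helper53

open Cfsg
open scoped commutatorElement

variable {G : Type*} [Group G]

/-! ### elementary abelian subgroups -/

theorem elemAb_iff {p : ℕ} {A : Subgroup G} :
    IsElementaryAbelian p A ↔ A ≤ Subgroup.centralizer (A : Set G) ∧ ∀ a ∈ A, a ^ p = 1 := by
  unfold IsElementaryAbelian
  rw [Subgroup.le_centralizer_iff_isMulCommutative]

theorem elemAb_isPGroup {p : ℕ} {A : Subgroup G} (h : IsElementaryAbelian p A) : IsPGroup p A := by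
  intro a
  refine ⟨1, ?_⟩
  apply Subtype.ext
  simpa using h.2 a a.2

theorem elemAb_mono {p : ℕ} {A B : Subgroup G} (h : IsElementaryAbelian p B) (hAB : A ≤ B) :
    IsElementaryAbelian p A := by
  rw [elemAb_iff] at h ⊢
  exact ⟨(hAB.trans h.1).trans (Subgroup.centralizer_le hAB), fun a ha => h.2 a (hAB ha)⟩

theorem elemAb_map {p : ℕ} {G' : Type*} [Group G'] {A : Subgroup G} (f : G →* G')
    (h : IsElementaryAbelian p A) : IsElementaryAbelian p (A.map f) := by
  rw [elemAb_iff] at h ⊢
  constructor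
  · rintro _ ⟨a, ha, rfl⟩
    rw [Subgroup.mem_centralizer_iff]
    rintro _ ⟨b, hb, rfl⟩
    rw [← map_mul, ← map_mul, Subgroup.mem_centralizer_iff.1 (h.1 ha) b hb]
  · rintro _ ⟨a, ha, rfl⟩
    rw [← map_pow, h.2 a ha, map_one]

theorem elemAb_comap_of_injective {p : ℕ} {G' : Type*} [Group G'] {A : Subgroup G'} (f : G →* G')
    (hf : Function.Injective f) (h : IsElementaryAbelian p A) :
    IsElementaryAbelian p (A.comap f) := by
  rw [elemAb_iff] at h ⊢
  constructor
  · intro a ha
    rw [Subgroup.mem_centralizer_iff]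
    intro b hb
    apply hf
    rw [map_mul, map_mul]
    exact Subgroup.mem_centralizer_iff.1 (h.1 ha) _ hb
  · intro a ha
    apply hf
    rw [map_pow, map_one]
    exact h.2 _ ha

/-- the join of pairwise commuting elementary abelian subgroups is elementary abelian -/
theorem elemAb_sSup {p : ℕ} {S : Set (Subgroup G)} (h1 : ∀ V ∈ S, IsElementaryAbelian p V)
    (h2 : ∀ V ∈ S, ∀ W ∈ S, V ≤ Subgroup.centralizer (W : Set G)) :
    IsElementaryAbelian p (sSup S) := by
  have hc : sSup S ≤ Subgroup.centralizer ((sSup S : Subgroup G) : Set G) := by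
    apply sSup_le
    intro V hV
    rw [Subgroup.le_centralizer_iff]
    apply sSup_le
    intro W hW
    exact h2 W hW V hV
  rw [elemAb_iff]
  refine ⟨hc, ?_⟩
  let E : Subgroup G :=
    { carrier := {y | y ∈ sSup S ∧ y ^ p = 1}
      one_mem' := ⟨one_mem _, one_pow _⟩
      mul_mem' := by
        rintro a b ⟨ha, ha2⟩ ⟨hb, hb2⟩
        refine ⟨mul_mem ha hb, ?_⟩
        have hcomm : Commute a b := (Subgroup.mem_centralizer_iff.1 (hc hb) a ha)
        rw [hcomm.mul_pow, ha2, hb2, one_mul]
      inv_mem' := by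
        rintro a ⟨ha, ha2⟩
        exact ⟨inv_mem ha, by rw [inv_pow, ha2, inv_one]⟩ }
  have hE : sSup S ≤ E := by
    apply sSup_le
    intro V hV a ha
    exact ⟨le_sSup hV ha, (h1 V hV).2 a ha⟩
  intro a ha
  exact (hE ha).2

theorem elemAb_iSup {p : ℕ} {ι : Sort*} {A : ι → Subgroup G}
    (h1 : ∀ i, IsElementaryAbelian p (A i))
    (h2 : ∀ i j, A i ≤ Subgroup.centralizer (A j : Set G)) :
    IsElementaryAbelian p (⨆ i, A i) := by
  apply elemAb_sSup
  · rintro _ ⟨i, rfl⟩; exact h1 i
  · rintro _ ⟨i, rfl⟩ _ ⟨j, rfl⟩; exact h2 i j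

/-! ### p-reduced normal subgroups -/

theorem isPReducedNormal_iff {p : ℕ} {V : Subgroup G} :
    IsPReducedNormal p V ↔ V.Normal ∧ IsElementaryAbelian p V ∧
      ∀ D : Subgroup G, D.Normal → (∀ x ∈ D, ∃ n : ℕ, x ^ (p ^ n) ∈ Subgroup.centralizer (V : Set G)) →
        D ≤ Subgroup.centralizer (V : Set G) := by
  constructor
  · rintro ⟨hV, hel, hn, hcore⟩
    refine ⟨hV, hel, fun D hD hpow => ?_⟩
    have hsurj := QuotientGroup.mk'_surjective (Subgroup.centralizer (V : Set G))
    have h1 : D.map (QuotientGroup.mk' (Subgroup.centralizer (V : Set G)))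
        ≤ pCore p (G ⧸ Subgroup.centralizer (V : Set G)) := by
      apply le_pCore (hD.map _ hsurj)
      rintro ⟨_, x, hx, rfl⟩
      obtain ⟨n, hn⟩ := hpow x hx
      refine ⟨n, ?_⟩
      apply Subtype.ext
      change (QuotientGroup.mk' (Subgroup.centralizer (V : Set G)) x) ^ (p ^ n) = 1
      rw [← map_pow]
      exact (QuotientGroup.eq_one_iff _).2 hn
    rw [hcore, Subgroup.map_le_iff_le_comap, MonoidHom.comap_bot, QuotientGroup.ker_mk'] at h1
    exact h1
  · rintro ⟨hV, hel, h⟩
    have hn : (Subgroup.centralizer (V : Set G)).Normal := inferInstance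
    refine ⟨hV, hel, hn, ?_⟩
    have hsurj := QuotientGroup.mk'_surjective (Subgroup.centralizer (V : Set G))
    have h1 := h ((pCore p (G ⧸ Subgroup.centralizer (V : Set G))).comap
      (QuotientGroup.mk' (Subgroup.centralizer (V : Set G)))) inferInstance ?_
    · have h2 := Subgroup.map_mono (f := QuotientGroup.mk' (Subgroup.centralizer (V : Set G))) h1
      rw [Subgroup.map_comap_eq_self_of_surjective hsurj, QuotientGroup.map_mk'_self] at h2
      exact eq_bot_iff.2 h2
    · intro x hx
      obtain ⟨n, hn⟩ := pCore_isPGroup p (G ⧸ Subgroup.centralizer (V : Set G))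
        ⟨QuotientGroup.mk' _ x, hx⟩
      refine ⟨n, ?_⟩
      have h3 : (QuotientGroup.mk' (Subgroup.centralizer (V : Set G)) x) ^ (p ^ n) = 1 := by
        simpa using congrArg Subtype.val hn
      rw [← map_pow] at h3
      exact (QuotientGroup.eq_one_iff _).1 h3

/-- ambient form: `V` is a `p`-reduced normal subgroup of `L` -/
def IsPRed (p : ℕ) (V L : Subgroup G) : Prop :=
  V ≤ L ∧ L ≤ Subgroup.normalizer (V : Set G) ∧ IsElementaryAbelian p V ∧
    ∀ D : Subgroup G, D ≤ L → L ≤ Subgroup.normalizer (D : Set G) →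
      (∀ x ∈ D, ∃ n : ℕ, x ^ (p ^ n) ∈ Subgroup.centralizer (V : Set G)) →
        D ≤ Subgroup.centralizer (V : Set G)

theorem centralizer_map_subtype {L : Subgroup G} (V : Subgroup L) :
    Subgroup.centralizer (V : Set L)
      = (Subgroup.centralizer ((V.map L.subtype : Subgroup G) : Set G)).subgroupOf L := by
  ext x
  rw [Subgroup.mem_subgroupOf, Subgroup.mem_centralizer_iff, Subgroup.mem_centralizer_iff]
  constructor
  · rintro h _ ⟨y, hy, rfl⟩
    exact congrArg Subtype.val (h y hy)
  · intro h y hy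
    apply Subtype.ext
    exact h y ⟨y, hy, rfl⟩

theorem normal_iff_le_normalizer_map {L : Subgroup G} (V : Subgroup L) :
    V.Normal ↔ L ≤ Subgroup.normalizer ((V.map L.subtype : Subgroup G) : Set G) := by
  rw [← Subgroup.normal_subgroupOf_iff_le_normalizer (Subgroup.map_subtype_le V),
    Subgroup.subgroupOf, Subgroup.comap_map_eq_self_of_injective L.subtype_injective]

theorem isPReducedNormal_sub_iff {p : ℕ} {L : Subgroup G} {V : Subgroup L} :
    IsPReducedNormal p V ↔ IsPRed p (V.map L.subtype) L := by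
  rw [isPReducedNormal_iff]
  constructor
  · rintro ⟨hV, hel, h⟩
    refine ⟨Subgroup.map_subtype_le V, (normal_iff_le_normalizer_map V).1 hV, elemAb_map _ hel, ?_⟩
    intro D hD hn hpow
    have h1 := h (D.subgroupOf L) ((Subgroup.normal_subgroupOf_iff_le_normalizer hD).2 hn) ?_
    · rw [centralizer_map_subtype] at h1
      intro x hx
      exact h1 (show (⟨x, hD hx⟩ : L) ∈ D.subgroupOf L from hx)
    · intro x hx
      obtain ⟨n, hn⟩ := hpow x hx
      refine ⟨n, ?_⟩
      rw [centralizer_map_subtype]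
      exact hn
  · rintro ⟨-, hn, hel, h⟩
    refine ⟨(normal_iff_le_normalizer_map V).2 hn, ?_, ?_⟩
    · have := elemAb_comap_of_injective L.subtype L.subtype_injective hel
      rwa [Subgroup.comap_map_eq_self_of_injective L.subtype_injective] at this
    · intro D hD hpow
      have h1 := h (D.map L.subtype) (Subgroup.map_subtype_le D)
        ((normal_iff_le_normalizer_map D).1 hD) ?_
      · rw [centralizer_map_subtype]
        intro x hx
        exact h1 ⟨x, hx, rfl⟩
      · rintro _ ⟨x, hx, rfl⟩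
        obtain ⟨n, hn⟩ := hpow x hx
        rw [centralizer_map_subtype] at hn
        exact ⟨n, hn⟩

theorem isPRed_iff_subgroupOf {p : ℕ} {V L : Subgroup G} (hVL : V ≤ L) :
    IsPRed p V L ↔ IsPReducedNormal p (V.subgroupOf L) := by
  rw [isPReducedNormal_sub_iff, subgroupOf_map_subtype_of_le hVL]

theorem isPRed_top_iff {p : ℕ} {V : Subgroup G} : IsPRed p V ⊤ ↔ IsPReducedNormal p V := by
  rw [isPReducedNormal_iff]
  constructor
  · rintro ⟨-, hn, hel, h⟩
    refine ⟨Subgroup.normalizer_eq_top_iff.1 (top_le_iff.1 hn), hel, fun D hD hpow => ?_⟩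
    exact h D le_top Subgroup.le_normalizer_of_normal hpow
  · rintro ⟨hV, hel, h⟩
    refine ⟨le_top, Subgroup.le_normalizer_of_normal, hel, fun D _ hD hpow => ?_⟩
    exact h D (Subgroup.normalizer_eq_top_iff.1 (top_le_iff.1 hD)) hpow

theorem IsPRed.le {p : ℕ} {V L : Subgroup G} (h : IsPRed p V L) : V ≤ L := h.1
theorem IsPRed.le_normalizer {p : ℕ} {V L : Subgroup G} (h : IsPRed p V L) :
    L ≤ Subgroup.normalizer (V : Set G) := h.2.1
theorem IsPRed.elemAb {p : ℕ} {V L : Subgroup G} (h : IsPRed p V L) :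
    IsElementaryAbelian p V := h.2.2.1
theorem IsPRed.isPGroup {p : ℕ} {V L : Subgroup G} (h : IsPRed p V L) : IsPGroup p V :=
  elemAb_isPGroup h.elemAb
theorem IsPRed.le_centralizer {p : ℕ} {V L D : Subgroup G} (h : IsPRed p V L) (hD : D ≤ L)
    (hn : L ≤ Subgroup.normalizer (D : Set G))
    (hpow : ∀ x ∈ D, ∃ n : ℕ, x ^ (p ^ n) ∈ Subgroup.centralizer (V : Set G)) :
    D ≤ Subgroup.centralizer (V : Set G) := h.2.2.2 D hD hn hpow

theorem IsPRed.le_pCoreOf {p : ℕ} {V L : Subgroup G} (h : IsPRed p V L) : V ≤ pCoreOf p L :=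
  Cfsg.Agent.Lib.Helper53.le_pCoreOf h.le h.le_normalizer h.isPGroup

theorem IsPRed.pCoreOf_le_centralizer {p : ℕ} {V L : Subgroup G} (h : IsPRed p V L) :
    pCoreOf p L ≤ Subgroup.centralizer (V : Set G) := by
  apply h.le_centralizer (pCoreOf_le p L) (le_normalizer_pCoreOf p L)
  intro x hx
  obtain ⟨n, hn⟩ := pCoreOf_isPGroup p L ⟨x, hx⟩
  refine ⟨n, ?_⟩
  have : x ^ (p ^ n) = 1 := by simpa using congrArg Subtype.val hn
  rw [this]
  exact one_mem _

/-- the join of the `p`-reduced normal subgroups is `p`-reduced -/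
theorem isPRed_sSup {p : ℕ} {L : Subgroup G} {S : Set (Subgroup G)}
    (hS : ∀ V ∈ S, IsPRed p V L) : IsPRed p (sSup S) L := by
  refine ⟨sSup_le fun V hV => (hS V hV).le, ?_, ?_, ?_⟩
  · intro l hl
    rw [← cj_eq_self_iff, sSup_eq_iSup', Subgroup.map_iSup]
    congr 1
    funext V
    exact cj_eq_self_iff.2 ((hS V V.2).le_normalizer hl)
  · apply elemAb_sSup (fun V hV => (hS V hV).elemAb)
    intro V hV W hW
    exact (hS V hV).le_pCoreOf.trans (hS W hW).pCoreOf_le_centralizer
  · intro D hD hn hpow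
    rw [Subgroup.le_centralizer_iff]
    apply sSup_le
    intro V hV
    rw [Subgroup.le_centralizer_iff]
    apply (hS V hV).le_centralizer hD hn
    intro x hx
    obtain ⟨n, hn⟩ := hpow x hx
    have hle : V ≤ sSup S := le_sSup hV
    exact ⟨n, Subgroup.centralizer_le hle hn⟩

theorem IsPRed.le_largest {p : ℕ} {V L : Subgroup G} (h : IsPRed p V L) :
    V ≤ largestPReducedOf p L := by
  have h1 : V.subgroupOf L ≤ largestPReduced p L := le_sSup ((isPRed_iff_subgroupOf h.le).1 h)
  have := Subgroup.map_mono (f := L.subtype) h1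
  rwa [subgroupOf_map_subtype_of_le h.le] at this

theorem isPRed_largest (p : ℕ) (L : Subgroup G) : IsPRed p (largestPReducedOf p L) L := by
  have h1 : largestPReducedOf p L = sSup {V : Subgroup G | IsPRed p V L} := by
    apply le_antisymm
    · unfold largestPReducedOf largestPReduced
      rw [sSup_eq_iSup', Subgroup.map_iSup]
      apply iSup_le
      intro V
      exact le_sSup (isPReducedNormal_sub_iff.1 V.2)
    · apply sSup_le
      intro V hV
      exact IsPRed.le_largest hV
  rw [h1]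
  exact isPRed_sSup fun V hV => hV

theorem largestPReducedOf_top (p : ℕ) :
    largestPReducedOf p (⊤ : Subgroup G) = largestPReduced p G := by
  apply le_antisymm
  · exact le_sSup (isPRed_top_iff.1 (isPRed_largest p ⊤))
  · apply sSup_le
    intro V hV
    exact IsPRed.le_largest (isPRed_top_iff.2 hV)

end Cfsg.Agent.Lib.Helper53
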