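import Cfsg.Agent.Lib.Helper53.Large3

set_option autoImplicit false

namespace Cfsg.Agent.Lib.Helper53

open Cfsg
open scoped commutatorElement

variable {G : Type*} [Group G]

/-- the elements of `N(E)` centralising `C` modulo `E` -/
def centMod (C E : Subgroup G) : Subgroup G where
  carrier := {x | x ∈ Subgroup.normalizer (E : Set G) ∧ ∀ c ∈ C, ⁅x, c⁆ ∈ E}
  one_mem' := ⟨one_mem _, fun c _ => by simp⟩
  mul_mem' := by
    rintro x y ⟨hx, hx2⟩ ⟨hy, hy2⟩
    refine ⟨mul_mem hx hy, fun c hc => ?_⟩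
    have e : ⁅x * y, c⁆ = x * ⁅y, c⁆ * x⁻¹ * ⁅x, c⁆ := by
      simp only [commutatorElement_def]; group
    rw [e]
    exact E.mul_mem ((Subgroup.mem_normalizer_iff.1 hx _).1 (hy2 c hc)) (hx2 c hc)
  inv_mem' := by
    rintro x ⟨hx, hx2⟩
    refine ⟨inv_mem hx, fun c hc => ?_⟩
    have e : ⁅x⁻¹, c⁆ = x⁻¹ * ⁅x, c⁆⁻¹ * x⁻¹⁻¹ := by
      simp only [commutatorElement_def]; group
    rw [e]
    exact (Subgroup.mem_normalizer_iff.1 (inv_mem hx) _).1 (E.inv_mem (hx2 c hc))

theorem le_centMod {A C E : Subgroup G} (h1 : A ≤ Subgroup.normalizer (E : Set G))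
    (h2 : ⁅A, C⁆ ≤ E) : A ≤ centMod C E :=
  fun _ hx => ⟨h1 hx, fun _ hc => h2 (Subgroup.commutator_mem_commutator hx hc)⟩

theorem commutator_le_of_le_centMod {A C E : Subgroup G} (h : A ≤ centMod C E) : ⁅A, C⁆ ≤ E :=
  Subgroup.commutator_le.2 fun _ hx c hc => (h hx).2 c hc

theorem commutator_iSup_le {ι : Sort*} {A : ι → Subgroup G} {C E : Subgroup G}
    (h1 : ∀ i, A i ≤ Subgroup.normalizer (E : Set G)) (h2 : ∀ i, ⁅A i, C⁆ ≤ E) :
    ⁅⨆ i, A i, C⁆ ≤ E :=
  commutator_le_of_le_centMod (iSup_le fun i => le_centMod (h1 i) (h2 i))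

theorem commutator_sup_le {A B C E : Subgroup G}
    (hA : A ≤ Subgroup.normalizer (E : Set G)) (hB : B ≤ Subgroup.normalizer (E : Set G))
    (h1 : ⁅A, C⁆ ≤ E) (h2 : ⁅B, C⁆ ≤ E) : ⁅A ⊔ B, C⁆ ≤ E :=
  commutator_le_of_le_centMod (sup_le (le_centMod hA h1) (le_centMod hB h2))

theorem large_weakClosure_centralizer [Finite G] {p : ℕ} [Fact p.Prime] {Q L Y : Subgroup G}
    (hL : IsLarge Q) (hQp : IsPGroup p Q) (hQ1 : Q ≠ ⊥) (hQL : Q ≤ L) (hYp : IsPGroup p Y)
    (hY1 : Y ≠ ⊥) (hLY : L ≤ Subgroup.normalizer (Y : Set G)) :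
    weakClosure Q L = weakClosure Q (L ⊔ Subgroup.centralizer (Y : Set G)) ∧
      ⁅weakClosure Q L, Subgroup.centralizer (Y : Set G)⁆ ≤ pCoreOf p (weakClosure Q L) ∧
      Subgroup.centralizer (Y : Set G) ≤ Subgroup.normalizer (weakClosure Q L : Set G) := by
  set C := Subgroup.centralizer (Y : Set G) with hC
  have hwc := IsLarge_wc hL hQp hQ1
  have hLC : L ≤ Subgroup.normalizer (C : Set G) :=
    hLY.trans (normalizer_le_normalizer_centralizer Y)
  have hLCY : L ⊔ C ≤ Subgroup.normalizer (Y : Set G) :=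
    sup_le hLY (Subgroup.centralizer_le_normalizer _)
  have c1 : ∀ g : G, Q.map (MulAut.conj g).toMonoidHom ≤ L ⊔ C →
      C ≤ Subgroup.normalizer ((Q.map (MulAut.conj g).toMonoidHom : Subgroup G) : Set G) :=
    fun g hg => large_centralizer_le_normalizer (IsLarge_cj hL g) (isPGroup_cj hQp g) hYp hY1
      (hg.trans hLCY)
  have c1' : C ≤ Subgroup.normalizer (Q : Set G) := by
    have := c1 1 (by rw [cj_one]; exact hQL.trans le_sup_left)
    rwa [cj_one] at this
  have c2 : ∀ g : G, Q.map (MulAut.conj g).toMonoidHom ≤ L ⊔ C →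
      Q.map (MulAut.conj g).toMonoidHom ≤ L := by
    intro g hg
    obtain ⟨k, hk, hk2⟩ := wc_conj_in hQp hwc (hQL.trans le_sup_left) hg
    obtain ⟨l, hl, c, hc, rfl⟩ := (mem_sup_of_le_normalizer hLC).1 hk
    rw [hk2, ← cj_cj, cj_eq_self_iff.2 (c1' hc)]
    exact cj_le_of_le_of_mem hQL hl
  have e1 : weakClosure Q L = weakClosure Q (L ⊔ C) :=
    le_antisymm (weakClosure_mono Q le_sup_left)
      (weakClosure_le_iff.2 fun g hg => cj_le_weakClosure (c2 g hg))
  refine ⟨e1, ?_, ?_⟩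
  · set E : Subgroup G := ⨆ g : {g : G // Q.map (MulAut.conj g).toMonoidHom ≤ L},
      (Q.map (MulAut.conj (g : G)).toMonoidHom ⊓ C) with hE
    have hLE : L ≤ Subgroup.normalizer (E : Set G) := by
      intro l hl
      rw [← cj_eq_self_iff]
      apply cj_eq_of_le
      rw [hE, Subgroup.map_iSup]
      apply iSup_le
      intro g
      rw [cj_inf, cj_cj, cj_eq_self_iff.2 (hLC hl)]
      have hmem : Q.map (MulAut.conj (l * (g : G))).toMonoidHom ≤ L := by
        rw [← cj_cj]
        exact cj_le_of_le_of_mem g.2 hl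
      exact le_iSup (fun g : {g : G // Q.map (MulAut.conj g).toMonoidHom ≤ L} =>
        (Q.map (MulAut.conj (g : G)).toMonoidHom ⊓ C)) ⟨l * (g : G), hmem⟩
    have hEp : E ≤ pCoreOf p (weakClosure Q L) := by
      apply le_pCoreOf
      · apply iSup_le
        intro g
        exact inf_le_left.trans (cj_le_weakClosure g.2)
      · exact (weakClosure_le Q L).trans hLE
      · apply (pCoreOf_isPGroup p C).to_le
        apply iSup_le
        intro g
        apply le_pCoreOf inf_le_right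
        · exact le_normalizer_inf (c1 g (g.2.trans le_sup_left)) Subgroup.le_normalizer
        · exact (isPGroup_cj hQp _).to_inf_left
    refine le_trans ?_ hEp
    apply commutator_iSup_le
    · intro g
      exact g.2.trans hLE
    · intro g
      refine le_trans ?_ (le_iSup (fun g : {g : G // Q.map (MulAut.conj g).toMonoidHom ≤ L} =>
        (Q.map (MulAut.conj (g : G)).toMonoidHom ⊓ C)) g)
      exact le_inf (Subgroup.le_normalizer_iff_commutator_le_left.1 (c1 g (g.2.trans le_sup_left)))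
        (Subgroup.le_normalizer_iff_commutator_le_right.1 (g.2.trans hLC))
  · rw [e1]
    exact (le_sup_right.trans Subgroup.le_normalizer).trans
      (normalizer_le_normalizer_weakClosure Q _)

end Cfsg.Agent.Lib.Helper53
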