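import Cfsg.Agent.Lib.Helper53.Large4

set_option autoImplicit false

namespace Cfsg.Agent.Lib.Helper53

open Cfsg
open scoped commutatorElement

variable {G : Type*} [Group G]

theorem centMod_conj_mem {C E : Subgroup G} {d x : G}
    (hdC : d ∈ Subgroup.normalizer (C : Set G)) (hdE : d ∈ Subgroup.normalizer (E : Set G))
    (hx : x ∈ centMod C E) : d * x * d⁻¹ ∈ centMod C E := by
  refine ⟨mul_mem (mul_mem hdE hx.1) (inv_mem hdE), fun c hc => ?_⟩
  have e : ⁅d * x * d⁻¹, c⁆ = d * ⁅x, d⁻¹ * c * d⁆ * d⁻¹ := by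
    simp only [commutatorElement_def]; group
  rw [e]
  apply (Subgroup.mem_normalizer_iff.1 hdE _).1
  apply hx.2
  have := (Subgroup.mem_normalizer_iff.1 (inv_mem hdC) c).1 hc
  simpa using this

/-- Key lemma: `D` normalises the weakly closed subgroup `Q`. -/
theorem wc_normalized_of_series [Finite G] {p : ℕ} [Fact p.Prime] {Q D R P : Subgroup G}
    (hQ : IsPGroup p Q) (hwc : IsWeaklyClosedSubgroup p Q)
    (hQD : Q ≤ Subgroup.normalizer (D : Set G)) (hR : IsPGroup p R)
    (hDR : D ≤ Subgroup.normalizer (R : Set G)) (hQR : Q ≤ Subgroup.normalizer (R : Set G))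
    (hself : D ⊓ Subgroup.centralizer (R : Set G) ≤ R)
    (hQP : Q ≤ Subgroup.normalizer (P : Set G)) (hDP : D ≤ Subgroup.centralizer (P : Set G))
    (hRQ : R ⊓ Q ≤ P) : D ≤ Subgroup.normalizer (Q : Set G) := by
  have hRQn : R ≤ Subgroup.normalizer (Q : Set G) := by
    have h1 : IsPGroup p (Q ⊔ R : Subgroup G) := hQ.to_sup_of_normal_right' hR hQR
    exact le_sup_right.trans (wc_le_normalizer' hQ hwc h1 le_sup_left)
  set U := R ⊓ P with hU
  have hcomm : ⁅Q, R⁆ ≤ U := by
    have h1 : ⁅Q, R⁆ ≤ R := Subgroup.le_normalizer_iff_commutator_le_right.1 hQR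
    have h2 : ⁅Q, R⁆ ≤ Q := Subgroup.le_normalizer_iff_commutator_le_left.1 hRQn
    exact le_inf h1 ((le_inf h1 h2).trans hRQ)
  have hDU : D ≤ Subgroup.normalizer (U : Set G) :=
    le_normalizer_inf hDR (hDP.trans (Subgroup.centralizer_le_normalizer _))
  have hQU : Q ≤ Subgroup.normalizer (U : Set G) := le_normalizer_inf hQR hQP
  have hQX : Q ≤ centMod R U := le_centMod hQU hcomm
  have hDQX : ⁅D, Q⁆ ≤ centMod R U := by
    rw [Subgroup.commutator_le]
    intro d hd q hq
    have e : ⁅d, q⁆ = d * q * d⁻¹ * q⁻¹ := commutatorElement_def d q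
    rw [e]
    exact mul_mem (centMod_conj_mem (hDR hd) (hDU hd) (hQX hq)) (inv_mem (hQX hq))
  have hDQD : ⁅D, Q⁆ ≤ D := Subgroup.le_normalizer_iff_commutator_le_left.1 hQD
  have hp : IsPGroup p (⁅D, Q⁆ : Subgroup G) := by
    apply isPGroup_of_forall_coprime
    intro x hx hc
    have h1 : x ∈ Subgroup.centralizer (R : Set G) := by
      apply mem_centralizer_of_coprime hR hc
      · intro a ha
        exact ((hDQX hx).2 a ha).1
      · intro a ha
        exact Subgroup.mem_centralizer_iff.1 (hDP (hDQD hx)) _ ((hDQX hx).2 a ha).2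
    exact eq_one_of_isPGroup_of_coprime hR (hself ⟨hDQD hx, h1⟩) hc
  have hp2 : IsPGroup p (Q ⊔ ⁅D, Q⁆ : Subgroup G) :=
    hQ.to_sup_of_normal_right' hp (Subgroup.normalizer_commutator_ge_right D Q)
  intro d hd
  rw [← cj_eq_self_iff]
  apply (wc_iff hQ).1 hwc _ hp2 le_sup_left
  have := cj_eq_self_iff.2 (le_normalizer_sup_commutator D Q hd)
  rw [← this]
  exact cj_mono d le_sup_left

/-- normal subgroups of groups of characteristic `p` have characteristic `p` -/
theorem charP_of_normal [Finite G] {p : ℕ} [Fact p.Prime] {N X : Subgroup G} (hNX : N ≤ X)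
    (hn : X ≤ Subgroup.normalizer (N : Set G))
    (hX : X ⊓ Subgroup.centralizer (pCoreOf p X : Set G) ≤ pCoreOf p X) :
    N ⊓ Subgroup.centralizer (pCoreOf p N : Set G) ≤ pCoreOf p N := by
  apply le_pCoreOf inf_le_left
  · exact le_normalizer_inf Subgroup.le_normalizer (le_normalizer_centralizer_pCoreOf p N)
  · apply isPGroup_of_forall_coprime
    rintro x ⟨hxN, hxC⟩ hc
    have hmem : ∀ a ∈ pCoreOf p X, ⁅x, a⁆ ∈ pCoreOf p X ⊓ N := by
      intro a ha
      constructor
      · have h1 := (Subgroup.mem_normalizer_iff.1 (le_normalizer_pCoreOf p X (hNX hxN)) a).1 ha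
        rw [commutatorElement_def]
        exact (pCoreOf p X).mul_mem h1 ((pCoreOf p X).inv_mem ha)
      · have h1 := (Subgroup.mem_normalizer_iff.1 (hn (pCoreOf_le p X ha)) x⁻¹).1 (inv_mem hxN)
        have e : ⁅x, a⁆ = x * (a * x⁻¹ * a⁻¹) := by rw [commutatorElement_def]; group
        rw [e]
        exact N.mul_mem hxN h1
    have h1 : x ∈ Subgroup.centralizer (pCoreOf p X : Set G) := by
      apply mem_centralizer_of_coprime (pCoreOf_isPGroup p X) hc
      · intro a ha
        exact (hmem a ha).1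
      · intro a ha
        exact Subgroup.mem_centralizer_iff.1 hxC _ (pCoreOf_inf_le p hNX (hmem a ha))
    exact eq_one_of_isPGroup_of_coprime (pCoreOf_isPGroup p X) (hX ⟨hNX hxN, h1⟩) hc

/-- Theorem A: overgroups of a self-centralising weakly closed subgroup in a group of
characteristic `p`. -/
theorem wc_charP_overgroup [Finite G] {p : ℕ} [Fact p.Prime] {Q L K : Subgroup G}
    (hQ : IsPGroup p Q) (hwc : IsWeaklyClosedSubgroup p Q)
    (hCQ : Subgroup.centralizer (Q : Set G) ≤ Q) (hQL : Q ≤ L) (hLK : L ≤ K)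
    (hK : K ⊓ Subgroup.centralizer (pCoreOf p K : Set G) ≤ pCoreOf p K) :
    ⁅Q, K ⊓ Subgroup.centralizer (pCoreOf p L : Set G)⁆ ≤ Q ⊓ pCoreOf p L ∧
      IsPGroup p (K ⊓ Subgroup.centralizer (pCoreOf p L : Set G) : Subgroup G) ∧
      L ⊓ Subgroup.centralizer (pCoreOf p L : Set G) ≤ pCoreOf p L := by
  have hLD : L ≤ Subgroup.normalizer
      ((K ⊓ Subgroup.centralizer (pCoreOf p L : Set G) : Subgroup G) : Set G) :=
    le_normalizer_inf (hLK.trans Subgroup.le_normalizer) (le_normalizer_centralizer_pCoreOf p L)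
  have hDQ : K ⊓ Subgroup.centralizer (pCoreOf p L : Set G) ≤ Subgroup.normalizer (Q : Set G) := by
    apply wc_normalized_of_series hQ hwc (hQL.trans hLD) (pCoreOf_isPGroup p K)
      (inf_le_left.trans (le_normalizer_pCoreOf p K))
      ((hQL.trans hLK).trans (le_normalizer_pCoreOf p K))
      ((inf_le_inf_right _ inf_le_left).trans hK)
      (hQL.trans (le_normalizer_pCoreOf p L)) inf_le_right
    exact (inf_le_inf_left _ hQL).trans (pCoreOf_inf_le p hLK)
  obtain ⟨h1, h2⟩ := commutator_le_and_isPGroup_of_normalizes hQ hCQ hQL hLD hDQ inf_le_right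
  refine ⟨h1, h2, ?_⟩
  apply le_pCoreOf inf_le_left
  · exact le_normalizer_inf Subgroup.le_normalizer (le_normalizer_centralizer_pCoreOf p L)
  · exact h2.to_le (inf_le_inf_right _ hLK)

end Cfsg.Agent.Lib.Helper53
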