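import Cfsg.Agent.Lib.Helper53.PRed2
import Cfsg.Agent.Lib.Helper1.Coprime2
import Cfsg.Agent.Lib.Helper3.PGroup

set_option autoImplicit false

namespace Cfsg.Agent.Lib.Helper53

open Cfsg
open scoped commutatorElement

variable {G : Type*} [Group G]

theorem commutator_le_map_frattini [Finite G] {p : ℕ} [Fact p.Prime] {A : Subgroup G}
    (hA : IsPGroup p A) : ⁅A, A⁆ ≤ (frattini ↥A).map A.subtype := by
  have h1 := Subgroup.map_mono (f := A.subtype) (Cfsg.Agent.Lib.Helper3.commutator_le_frattini hA)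
  rw [commutator_def, Subgroup.map_commutator, ← MonoidHom.range_eq_map, Subgroup.range_subtype] at h1
  exact h1

theorem coprime_card_zpowers {p : ℕ} [hp : Fact p.Prime] {A : Type*} [Group A] [Finite A]
    (hA : IsPGroup p A) {x : G} (hx : (orderOf x).Coprime p) :
    (Nat.card (Subgroup.zpowers x)).Coprime (Nat.card A) := by
  obtain ⟨n, hn⟩ := IsPGroup.iff_card.1 hA
  rw [hn, Nat.card_zpowers]
  exact Nat.Coprime.pow_right n hx

/-- `p'`-elements acting trivially on `A/A'` centralise the `p`-group `A` -/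
theorem mem_centralizer_of_commutator_mem [Finite G] {p : ℕ} [Fact p.Prime] {A : Subgroup G}
    (hA : IsPGroup p A) {x : G} (hx : (orderOf x).Coprime p)
    (hxA : x ∈ Subgroup.normalizer (A : Set G)) (h : ∀ a ∈ A, ⁅x, a⁆ ∈ ⁅A, A⁆) :
    x ∈ Subgroup.centralizer (A : Set G) := by
  have h1 : x ∈ centMod A ⁅A, A⁆ := ⟨mem_normalizer_commutator hxA hxA, h⟩
  have h2 : Subgroup.zpowers x ≤ centMod A ⁅A, A⁆ := by
    rw [Subgroup.zpowers_le]; exact h1
  have h3 := Cfsg.Agent.Lib.Helper1.coprime_trivial_on_frattini_quotient (Subgroup.zpowers x) A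
    (by rw [Subgroup.zpowers_le]; exact hxA)
    (coprime_card_zpowers (hA.to_subgroup _) hx)
    (fun a ha k hk => commutator_le_map_frattini hA ((h2 ha).2 k hk))
  exact h3 (Subgroup.mem_zpowers x)

theorem pRes_le_centralizer_of_commutator_le [Finite G] {p : ℕ} [Fact p.Prime] {A X : Subgroup G}
    (hA : IsPGroup p A) (hXA : X ≤ Subgroup.normalizer (A : Set G)) (h : ⁅X, A⁆ ≤ ⁅A, A⁆) :
    (pResidual p X).map X.subtype ≤ Subgroup.centralizer (A : Set G) := by
  rw [pRes_eq_closure, Subgroup.closure_le]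
  rintro x ⟨hxX, hx⟩
  exact mem_centralizer_of_commutator_mem hA hx (hXA hxX)
    fun a ha => h (Subgroup.commutator_mem_commutator hxX ha)

theorem cj_commutator (A B : Subgroup G) (g : G) :
    (⁅A, B⁆).map (MulAut.conj g).toMonoidHom
      = ⁅A.map (MulAut.conj g).toMonoidHom, B.map (MulAut.conj g).toMonoidHom⁆ :=
  Subgroup.map_commutator _ _ _

/-- `Y ≤ L` a `p`-subgroup, `R = O^p(⟨Y^L⟩)`.  If `[R, Y]` is a `p`-group then `⟨Y^L⟩` is. -/
theorem isPGroup_iSup_cj_of_commutator [Finite G] {p : ℕ} [Fact p.Prime] {Y L : Subgroup G}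
    (hY : IsPGroup p Y) (hYL : Y ≤ L)
    (h : IsPGroup p (⁅(pResidual p (⨆ l : L, Y.map (MulAut.conj (l : G)).toMonoidHom : Subgroup G)).map
      (⨆ l : L, Y.map (MulAut.conj (l : G)).toMonoidHom : Subgroup G).subtype, Y⁆ : Subgroup G)) :
    IsPGroup p (⨆ l : L, Y.map (MulAut.conj (l : G)).toMonoidHom : Subgroup G) := by
  set Ys : Subgroup G := ⨆ l : L, Y.map (MulAut.conj (l : G)).toMonoidHom with hYs
  set R := (pResidual p Ys).map Ys.subtype with hR
  have hYsL : Ys ≤ L := iSup_le fun l => cj_le_of_le_of_mem hYL l.2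
  have hLYs : L ≤ Subgroup.normalizer (Ys : Set G) := le_normalizer_iSup_cj Y L
  have hLR : L ≤ Subgroup.normalizer (R : Set G) :=
    hLYs.trans (normalizer_le_normalizer_pRes p Ys)
  have hRYs : R ≤ Ys := pRes_le p Ys
  have hLD : L ≤ Subgroup.normalizer (pCoreOf p R : Set G) :=
    hLR.trans (normalizer_le_normalizer_pCoreOf p R)
  have h1 : ⁅R, Y⁆ ≤ pCoreOf p R := by
    apply le_pCoreOf _ _ h
    · exact Subgroup.le_normalizer_iff_commutator_le_left.1 (hYL.trans hLR)
    · exact le_sup_left.trans (Cfsg.Agent.Lib.Helper1.sup_le_normalizer_commutator R Y)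
  have h2 : ⁅Ys, R⁆ ≤ pCoreOf p R := by
    apply commutator_iSup_le
    · intro l
      exact (cj_le_of_le_of_mem hYL l.2).trans hLD
    · intro l
      have e1 : R.map (MulAut.conj (l : G)).toMonoidHom = R := cj_eq_self_iff.2 (hLR l.2)
      have e2 : (pCoreOf p R).map (MulAut.conj (l : G)).toMonoidHom = pCoreOf p R :=
        cj_eq_self_iff.2 (hLD l.2)
      have := cj_mono (l : G) h1
      rwa [cj_commutator, e1, e2, Subgroup.commutator_comm] at this
  obtain ⟨T, hT⟩ := exists_isSyl p Ys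
  have hDT : pCoreOf p R ≤ T :=
    (le_pCoreOf ((pCoreOf_le p R).trans hRYs) (hYsL.trans hLD) (pCoreOf_isPGroup p R)).trans
      (pCoreOf_le_isSyl hT)
  have hRT : R ≤ Subgroup.normalizer (T : Set G) := by
    rw [Subgroup.le_normalizer_iff_commutator_le_left]
    exact ((Subgroup.commutator_mono hT.le le_rfl).trans h2).trans hDT
  have hYsT : Ys ≤ Subgroup.normalizer (T : Set G) := by
    conv_lhs => rw [← pRes_sup_isSyl hT]
    exact sup_le hRT Subgroup.le_normalizer
  have hle : Ys ≤ T := by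
    apply iSup_le
    intro l
    have h3 : Y.map (MulAut.conj (l : G)).toMonoidHom ≤ Ys :=
      le_iSup (fun l : L => Y.map (MulAut.conj (l : G)).toMonoidHom) l
    exact hT.le_of_le_normalizer h3 (isPGroup_cj hY _) (h3.trans hYsT)
  exact hT.isPGroup.to_le hle

theorem le_pCoreOf_of_commutator [Finite G] {p : ℕ} [Fact p.Prime] {Y L : Subgroup G}
    (hY : IsPGroup p Y) (hYL : Y ≤ L)
    (h : IsPGroup p (⁅(pResidual p (⨆ l : L, Y.map (MulAut.conj (l : G)).toMonoidHom : Subgroup G)).map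
      (⨆ l : L, Y.map (MulAut.conj (l : G)).toMonoidHom : Subgroup G).subtype, Y⁆ : Subgroup G)) :
    Y ≤ pCoreOf p L :=
  (le_iSup_cj Y L).trans (le_pCoreOf (iSup_le fun l => cj_le_of_le_of_mem hYL l.2)
    (le_normalizer_iSup_cj Y L) (isPGroup_iSup_cj_of_commutator hY hYL h))

end Cfsg.Agent.Lib.Helper53
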