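import Cfsg.Agent.Lib.Helper53.FrakM3
import Cfsg.Agent.Lib.Helper53.Cop

set_option autoImplicit false

namespace Cfsg.Agent.Lib.Helper53

open Cfsg
open scoped commutatorElement

variable {G : Type*} [Group G]

theorem charP_cj {p : ℕ} {L : Subgroup G}
    (h : L ⊓ Subgroup.centralizer (pCoreOf p L : Set G) ≤ pCoreOf p L) (c : G) :
    L.map (MulAut.conj c).toMonoidHom ⊓ Subgroup.centralizer
      (pCoreOf p (L.map (MulAut.conj c).toMonoidHom) : Set G)
      ≤ pCoreOf p (L.map (MulAut.conj c).toMonoidHom) := by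
  rw [pCoreOf_cj, centralizer_cj, ← cj_inf]
  exact cj_mono c h

section
variable {p : ℕ} {S Q M : Subgroup G}

theorem Std.C_P_le (h : Std p S Q M) :
    Subgroup.centralizer (pCoreOf p M : Set G) ≤ pCoreOf p M := h.hM.1.2

theorem Std.charP_of_le [Finite G] [Fact p.Prime] (h : Std p S Q M)
    (hasym : ¬ IsSymmetricIn (largestPReducedOf p M)) {L K : Subgroup G}
    (hPL : pCoreOf p M ≤ L) (hLK : L ≤ K)
    (hK : K ⊓ Subgroup.centralizer (pCoreOf p K : Set G) ≤ pCoreOf p K) :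
    L ⊓ Subgroup.centralizer (pCoreOf p L : Set G) ≤ pCoreOf p L :=
  (wc_charP_overgroup (pCoreOf_isPGroup p M) (h.wc_P hasym) h.C_P_le hPL hLK hK).2.2

theorem Std.exists_frakH [Finite G] [Fact p.Prime] (h : Std p S Q M)
    (htall : IsCharPTall p (largestPReducedOf p M))
    (hasym : ¬ IsSymmetricIn (largestPReducedOf p M)) : ∃ H : Subgroup G, IsInFrakH p M H := by
  obtain ⟨T, L, hTL, hLc, hYL⟩ := htall
  obtain ⟨c, hc, hPc⟩ := (isSyl_of_sylow T).exists_conj h.sylC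
  rw [Cfsg.Agent.Lib.Helper53.charP_iff] at hLc
  let 𝓗 : Set (Subgroup G) := {H | H ⊓ Subgroup.centralizer (pCoreOf p H : Set G) ≤ pCoreOf p H ∧
    pCoreOf p M ≤ H ∧ ¬ largestPReducedOf p M ≤ pCoreOf p H}
  have hmem : L.map (MulAut.conj c).toMonoidHom ∈ 𝓗 := by
    refine ⟨charP_cj hLc c, ?_, ?_⟩
    · rw [hPc]
      exact cj_mono c hTL
    · intro hle
      apply hYL
      have e : (largestPReducedOf p M).map (MulAut.conj c).toMonoidHom = largestPReducedOf p M :=
        cj_eq_self_iff.2 (Subgroup.centralizer_le_normalizer _ hc)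
      rw [pCoreOf_cj, ← e] at hle
      exact (Subgroup.map_le_map_iff_of_injective (MulAut.conj c).injective).1 hle
  obtain ⟨H, -, hH⟩ := (Set.toFinite 𝓗).exists_le_minimal hmem
  refine ⟨H, Cfsg.Agent.Lib.Helper53.charP_iff.2 hH.prop.1, hH.prop.2.1, hH.prop.2.2, ?_⟩
  intro P' hPP' hP'H
  by_contra hcon
  have : P' ∈ 𝓗 := ⟨h.charP_of_le hasym hPP' hP'H.le hH.prop.1, hPP', hcon⟩
  exact absurd (hH.le_of_le this hP'H.le) (not_le_of_gt hP'H)

end

end Cfsg.Agent.Lib.Helper53
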