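import Cfsg.Agent.Lib.Helper53.FrakH

set_option autoImplicit false

namespace Cfsg.Agent.Lib.Helper53

open Cfsg
open scoped commutatorElement

variable {G : Type*} [Group G]

section
variable {p : ℕ} {S Q M H : Subgroup G}

theorem frakH_Y_le (hH : IsInFrakH p M H) : largestPReducedOf p M ≤ H :=
  (isPRed_largest p M).le_pCoreOf.trans hH.2.1

/-- a normal subgroup of `H` containing `O_p(M)` is `H` -/
theorem frakH_eq_of_normal (hH : IsInFrakH p M H) {N : Subgroup G} (hPN : pCoreOf p M ≤ N)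
    (hNH : N ≤ H) (hn : H ≤ Subgroup.normalizer (N : Set G)) : N = H := by
  by_contra hne
  exact hH.2.2.1 ((hH.2.2.2 N hPN (lt_of_le_of_ne hNH hne)).trans
    (pCoreOf_le_pCoreOf_of_normal p hNH hn))

theorem frakH_closure_P [Finite G] (hH : IsInFrakH p M H) :
    (⨆ k : H, (pCoreOf p M).map (MulAut.conj (k : G)).toMonoidHom) = H :=
  frakH_eq_of_normal hH (le_iSup_cj _ H) (iSup_le fun k => cj_le_of_le_of_mem hH.2.1 k.2)
    (le_normalizer_iSup_cj _ H)

theorem Std.frakH_pCoreOf_le [Finite G] [Fact p.Prime] (h : Std p S Q M)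
    (hasym : ¬ IsSymmetricIn (largestPReducedOf p M)) (hH : IsInFrakH p M H) :
    pCoreOf p H ≤ Subgroup.normalizer (pCoreOf p M : Set G) := by
  have h1 : IsPGroup p (pCoreOf p M ⊔ pCoreOf p H : Subgroup G) :=
    (pCoreOf_isPGroup p M).to_sup_of_normal_right' (pCoreOf_isPGroup p H)
      (hH.2.1.trans (le_normalizer_pCoreOf p H))
  exact le_sup_right.trans (h.le_normalizer_P_of_isPGroup hasym h1 le_sup_left)

theorem Std.frakH_R_sup_P [Finite G] [Fact p.Prime] (h : Std p S Q M)
    (hasym : ¬ IsSymmetricIn (largestPReducedOf p M)) (hH : IsInFrakH p M H) :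
    (pResidual p H).map H.subtype ⊔ pCoreOf p M = H := by
  apply le_antisymm (sup_le (pRes_le p H) hH.2.1)
  obtain ⟨T, hT, hPT, hTN⟩ := h.exists_isSyl hasym hH.2.1
  conv_lhs => rw [← frakH_closure_P hH]
  apply iSup_le
  intro k
  have hk : (k : G) ∈ (pResidual p H).map H.subtype ⊔ T := by
    rw [pRes_sup_isSyl hT]; exact k.2
  have hTR : T ≤ Subgroup.normalizer (((pResidual p H).map H.subtype : Subgroup G) : Set G) :=
    hT.le.trans (Subgroup.le_normalizer.trans (normalizer_le_normalizer_pRes p H))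
  obtain ⟨r, hr, t, ht, hrt⟩ := (mem_sup_of_le_normalizer' hTR).1 hk
  rw [hrt, ← cj_cj, cj_eq_self_iff.2 (hTN ht)]
  exact cj_le_of_le_of_mem le_sup_right (Subgroup.mem_sup_left hr)

theorem Std.frakH_comm [Finite G] [Fact p.Prime] (h : Std p S Q M)
    (hasym : ¬ IsSymmetricIn (largestPReducedOf p M)) (hH : IsInFrakH p M H) :
    ⁅(pResidual p H).map H.subtype, largestPReducedOf p M⁆ = (pResidual p H).map H.subtype := by
  have hRP := h.frakH_R_sup_P hasym hH
  have hPY : pCoreOf p M ≤ Subgroup.normalizer (largestPReducedOf p M : Set G) :=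
    (pCoreOf_le p M).trans (isPRed_largest p M).le_normalizer
  have hYP := h.Y_le_P
  have hHmin := hH.2.2.2
  have hHY := hH.2.2.1
  have hPH := hH.2.1
  have hPp := pCoreOf_isPGroup p M
  set R := (pResidual p H).map H.subtype with hR
  set Y := largestPReducedOf p M with hY
  set P := pCoreOf p M with hP
  have hHR : H ≤ Subgroup.normalizer (R : Set G) :=
    Subgroup.le_normalizer.trans (normalizer_le_normalizer_pRes p H)
  have hYH : Y ≤ H := hYP.trans hPH
  have hDR : ⁅R, Y⁆ ≤ R := Subgroup.le_normalizer_iff_commutator_le_left.1 (hYH.trans hHR)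
  apply le_antisymm hDR
  have hRH : R ≤ H := pRes_le p H
  have hHD : H ≤ Subgroup.normalizer ((⁅R, Y⁆ : Subgroup G) : Set G) := by
    conv_lhs => rw [← hRP]
    exact sup_le (le_sup_left.trans (Cfsg.Agent.Lib.Helper1.sup_le_normalizer_commutator R Y))
      (le_normalizer_commutator (hPH.trans hHR) hPY)
  have hHDY : H ≤ Subgroup.normalizer ((Y ⊔ ⁅R, Y⁆ : Subgroup G) : Set G) := by
    conv_lhs => rw [← hRP]
    exact sup_le (le_normalizer_sup_commutator R Y) (le_normalizer_sup hPY (hPH.trans hHD))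
  have hDP : P ⊔ ⁅R, Y⁆ = H := by
    by_contra hne
    have hlt : P ⊔ ⁅R, Y⁆ < H := lt_of_le_of_ne (sup_le hPH (hDR.trans hRH)) hne
    have h1 := hHmin _ le_sup_left hlt
    have hle : Y ⊔ ⁅R, Y⁆ ≤ P ⊔ ⁅R, Y⁆ := sup_le_sup_right hYP _
    have h2 : Y ≤ pCoreOf p (Y ⊔ ⁅R, Y⁆) := (le_inf h1 le_sup_left).trans (pCoreOf_inf_le p hle)
    exact hHY (h2.trans (pCoreOf_le_pCoreOf_of_normal p (hle.trans hlt.le) hHDY))
  exact pRes_le_of_le_sup (hPH.trans hHD) hPp hDP.ge

theorem Std.frakH_closure_Y [Finite G] [Fact p.Prime] (h : Std p S Q M)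
    (hasym : ¬ IsSymmetricIn (largestPReducedOf p M)) (hH : IsInFrakH p M H) :
    (pResidual p H).map H.subtype ⊔ largestPReducedOf p M
      = ⨆ k : H, (largestPReducedOf p M).map (MulAut.conj (k : G)).toMonoidHom := by
  have hRP := h.frakH_R_sup_P hasym hH
  have hc := h.frakH_comm hasym hH
  have hPY : pCoreOf p M ≤ Subgroup.normalizer (largestPReducedOf p M : Set G) :=
    (pCoreOf_le p M).trans (isPRed_largest p M).le_normalizer
  have hYH := frakH_Y_le hH
  have hPH := hH.2.1
  set R := (pResidual p H).map H.subtype with hR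
  set Y := largestPReducedOf p M with hY
  set P := pCoreOf p M with hP
  have hHR : H ≤ Subgroup.normalizer (R : Set G) :=
    Subgroup.le_normalizer.trans (normalizer_le_normalizer_pRes p H)
  have hRH : R ≤ H := pRes_le p H
  apply le_antisymm
  · apply sup_le _ (le_iSup_cj Y H)
    rw [← hc, Subgroup.commutator_le]
    intro r hr y hy
    have e : ⁅r, y⁆ = (r * y * r⁻¹) * y⁻¹ := by rw [commutatorElement_def]
    rw [e]
    apply mul_mem _ (inv_mem (le_iSup_cj Y H hy))
    exact le_iSup (fun k : H => Y.map (MulAut.conj (k : G)).toMonoidHom) ⟨r, hRH hr⟩ (cj_mem r hy)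
  · have hn : H ≤ Subgroup.normalizer ((R ⊔ Y : Subgroup G) : Set G) := by
      conv_lhs => rw [← hRP]
      apply sup_le
      · have := le_normalizer_sup_commutator R Y
        rwa [hc, sup_comm] at this
      · exact le_normalizer_sup (hPH.trans hHR) hPY
    apply iSup_le
    intro k
    rw [← cj_eq_self_iff.2 (hn k.2)]
    exact cj_mono _ le_sup_right

theorem Std.frakH_syl [Finite G] [Fact p.Prime] (h : Std p S Q M)
    (hasym : ¬ IsSymmetricIn (largestPReducedOf p M)) {H : Subgroup G}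
    (hPH : pCoreOf p M ≤ H) {T : Subgroup G}
    (hT : IsSyl p T (H ⊓ (M ⊔ Subgroup.centralizer (largestPReducedOf p M : Set G)))) :
    IsSyl p T H := by
  obtain ⟨T₀, hT₀, -, hTN⟩ := h.exists_isSyl hasym hPH
  have h1 : IsSyl p T₀ (H ⊓ (M ⊔ Subgroup.centralizer (largestPReducedOf p M : Set G))) :=
    hT₀.of_le (le_inf hT₀.le (hTN.trans h.normalizer_P_le_dagger)) inf_le_left
  obtain ⟨k, hk, rfl⟩ := h1.exists_conj hT
  exact hT₀.cj_mem hk.1

end

end Cfsg.Agent.Lib.Helper53
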