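import Cfsg.Agent.Lib.Helper53.Basic

set_option autoImplicit false

namespace Cfsg.Agent.Lib.Helper53

open Cfsg

variable {G : Type*} [Group G]

theorem isPClosed_subgroupOf_iff {p : ℕ} {N H : Subgroup G} (hN : N ≤ H) :
    IsPClosed p ↥(N.subgroupOf H) ↔ IsPClosed p ↥N :=
  ⟨isPClosed_of_mulEquiv (Subgroup.subgroupOfEquivOfLe hN),
    isPClosed_of_mulEquiv (Subgroup.subgroupOfEquivOfLe hN).symm⟩

theorem isPClosed_map_subtype_iff {p : ℕ} {H : Subgroup G} (N : Subgroup H) :
    IsPClosed p ↥(N.map H.subtype) ↔ IsPClosed p ↥N :=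
  ⟨isPClosed_of_mulEquiv (N.equivMapOfInjective _ H.subtype_injective).symm,
    isPClosed_of_mulEquiv (N.equivMapOfInjective _ H.subtype_injective)⟩

/-- ambient form of `p`-irreducibility -/
theorem pRes_le_of_irred {p : ℕ} {H N : Subgroup G} (hH : IsPIrreducible p ↥H) (hN : N ≤ H)
    (hn : H ≤ Subgroup.normalizer (N : Set G)) (hc : ¬ IsPClosed p ↥N) :
    (pResidual p H).map H.subtype ≤ N := by
  rw [Subgroup.map_le_iff_le_comap]
  exact hH.2 (N.subgroupOf H) ((Subgroup.normal_subgroupOf_iff_le_normalizer hN).2 hn)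
    (fun h => hc ((isPClosed_subgroupOf_iff hN).1 h))

theorem isPIrreducible_sub_iff {p : ℕ} {H : Subgroup G} :
    IsPIrreducible p ↥H ↔ ¬ IsPClosed p ↥H ∧ ∀ N : Subgroup G, N ≤ H →
      H ≤ Subgroup.normalizer (N : Set G) → ¬ IsPClosed p ↥N →
        (pResidual p H).map H.subtype ≤ N := by
  constructor
  · intro hH
    exact ⟨hH.1, fun N hN hn hc => pRes_le_of_irred hH hN hn hc⟩
  · rintro ⟨h1, h2⟩
    refine ⟨h1, fun N hN hc => ?_⟩
    have h3 := h2 (N.map H.subtype) (Subgroup.map_subtype_le N) ?_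
      (fun h => hc ((isPClosed_map_subtype_iff N).1 h))
    · exact (Subgroup.map_le_map_iff_of_injective H.subtype_injective).1 h3
    · rw [← Subgroup.normal_subgroupOf_iff_le_normalizer (Subgroup.map_subtype_le N),
        Subgroup.subgroupOf, Subgroup.comap_map_eq_self_of_injective H.subtype_injective]
      exact hN

/-- a `p`-irreducible group acts `p`-reducedly modulo a normal subgroup containing `O_p` and not
containing `O^p` -/
theorem pCore_quotient_eq_bot_of_irred [Finite G] {p : ℕ} [Fact p.Prime]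
    (hG : IsPIrreducible p G) (C : Subgroup G) [C.Normal] (h1 : ¬ pResidual p G ≤ C)
    (h2 : pCore p G ≤ C) : pCore p (G ⧸ C) = ⊥ := by
  have hsurj := QuotientGroup.mk'_surjective C
  set D := (pCore p (G ⧸ C)).comap (QuotientGroup.mk' C) with hD
  have hDn : D.Normal := by
    have := pCore_normal p (G ⧸ C)
    rw [hD]; infer_instance
  have hCD : C ≤ D := by
    intro x hx
    rw [hD, Subgroup.mem_comap]
    have : QuotientGroup.mk' C x = 1 := (QuotientGroup.eq_one_iff x).2 hx
    rw [this]; exact one_mem _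
  have hpow : ∀ x ∈ D, ∃ n : ℕ, x ^ (p ^ n) ∈ C := by
    intro x hx
    obtain ⟨n, hn⟩ := pCore_isPGroup p (G ⧸ C) ⟨QuotientGroup.mk' C x, hx⟩
    refine ⟨n, ?_⟩
    have h3 : (QuotientGroup.mk' C x) ^ (p ^ n) = 1 := by simpa using congrArg Subtype.val hn
    rw [← map_pow] at h3
    exact (QuotientGroup.eq_one_iff _).1 h3
  have hDC : D ≤ C := by
    by_cases hc : IsPClosed p D
    · obtain ⟨P, hP⟩ := exists_isSyl p D
      have h3 : P ≤ C := (le_pCore_of_isPClosed_normal hP.le hP.isPGroup hc).trans h2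
      have h4 := sup_isSyl_eq hCD Subgroup.le_normalizer_of_normal hpow hP
      rw [← h4]
      exact sup_le le_rfl h3
    · exfalso
      apply h1
      have h3 := hG.2 D hDn hc
      unfold pResidual
      rw [Subgroup.closure_le]
      intro g hg
      obtain ⟨n, hn⟩ := hpow g (h3 (mem_pResidual hg))
      exact mem_of_pow_mem_of_coprime hg hn
  have h5 := Subgroup.map_mono (f := QuotientGroup.mk' C) hDC
  rw [hD, Subgroup.map_comap_eq_self_of_surjective hsurj] at h5
  rw [eq_bot_iff]
  apply h5.trans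
  rw [Subgroup.map_le_iff_le_comap, MonoidHom.comap_bot, QuotientGroup.ker_mk']

end Cfsg.Agent.Lib.Helper53
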