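import Cfsg.Agent.Lib.Helper53.FrakH2
import Cfsg.Agent.Lib.Helper53.Irred

set_option autoImplicit false

namespace Cfsg.Agent.Lib.Helper53

open Cfsg
open scoped commutatorElement

variable {G : Type*} [Group G]

theorem le_normalizer_sup_of_commutator_le [Finite G] {R A D : Subgroup G} (h1 : ⁅R, A⁆ ≤ D)
    (h2 : R ≤ Subgroup.normalizer (D : Set G)) :
    R ≤ Subgroup.normalizer ((A ⊔ D : Subgroup G) : Set G) := by
  intro r hr
  rw [← cj_eq_self_iff]
  apply cj_eq_of_le
  rw [cj_sup, cj_eq_self_iff.2 (h2 hr)]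
  apply sup_le _ le_sup_right
  rintro _ ⟨a, ha, rfl⟩
  have e : (MulAut.conj r).toMonoidHom a = ⁅r, a⁆ * a := by
    simp [commutatorElement_def, MulAut.conj_apply]
  rw [e]
  exact mul_mem (Subgroup.mem_sup_right (h1 (Subgroup.commutator_mem_commutator hr ha)))
    (Subgroup.mem_sup_left ha)

section
variable {p : ℕ} {S Q M H : Subgroup G}

/-- dichotomy for normal subgroups of `H ∈ ℌ` -/
theorem Std.frakH_normal [Finite G] [Fact p.Prime] (h : Std p S Q M)
    (hasym : ¬ IsSymmetricIn (largestPReducedOf p M)) (hH : IsInFrakH p M H) {N : Subgroup G}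
    (hNH : N ≤ H) (hn : H ≤ Subgroup.normalizer (N : Set G)) :
    (pResidual p H).map H.subtype ≤ N ∨
      ∀ A : Subgroup G, A ≤ N → IsPGroup p A → A ≤ pCoreOf p H := by
  by_cases hPN : pCoreOf p M ⊔ N = H
  · left
    exact pRes_le_of_le_sup (hH.2.1.trans hn) (pCoreOf_isPGroup p M) hPN.ge
  right
  have hlt : pCoreOf p M ⊔ N < H := lt_of_le_of_ne (sup_le hH.2.1 hNH) hPN
  have hY := hH.2.2.2 _ le_sup_left hlt
  have hcl := h.frakH_closure_Y hasym hH
  have hYH := frakH_Y_le hH
  set Y := largestPReducedOf p M with hYdef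
  set R := (pResidual p H).map H.subtype with hR
  set D := pCoreOf p H with hD
  have hHD : H ≤ Subgroup.normalizer (D : Set G) := le_normalizer_pCoreOf p H
  have h1 : ⁅Y, N⁆ ≤ D := by
    have h2 : ⁅Y, N⁆ ≤ pCoreOf p (pCoreOf p M ⊔ N) ⊓ N := by
      apply le_inf
      · exact (Subgroup.commutator_mono hY le_rfl).trans
          (Subgroup.le_normalizer_iff_commutator_le_left.1
            (le_sup_right.trans (le_normalizer_pCoreOf p _)))
      · exact Subgroup.le_normalizer_iff_commutator_le_right.1 (hYH.trans hn)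
    exact (h2.trans (pCoreOf_inf_le p le_sup_right)).trans
      (pCoreOf_le_pCoreOf_of_normal p hNH hn)
  have h3 : ⁅R, N⁆ ≤ D := by
    refine (Subgroup.commutator_mono (le_sup_left.trans hcl.le) le_rfl).trans ?_
    apply commutator_iSup_le
    · intro k
      exact (cj_le_of_le_of_mem hYH k.2).trans hHD
    · intro k
      have := cj_mono (k : G) h1
      rwa [cj_commutator, cj_eq_self_iff.2 (hn k.2), cj_eq_self_iff.2 (hHD k.2)] at this
  intro A hAN hA
  obtain ⟨T, hT, hAT⟩ := exists_isSyl_ge (hAN.trans hNH) hA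
  have hRH : R ≤ H := pRes_le p H
  have h4 : H ≤ Subgroup.normalizer ((T ⊓ N ⊔ D : Subgroup G) : Set G) := by
    conv_lhs => rw [← pRes_sup_isSyl hT]
    apply sup_le
    · exact le_normalizer_sup_of_commutator_le
        ((Subgroup.commutator_mono le_rfl inf_le_right).trans h3) (hRH.trans hHD)
    · exact le_normalizer_sup (le_normalizer_inf Subgroup.le_normalizer (hT.le.trans hn))
        (hT.le.trans hHD)
  have h5 : IsPGroup p (T ⊓ N ⊔ D : Subgroup G) :=
    hT.isPGroup.to_inf_left.to_sup_of_normal_right' (pCoreOf_isPGroup p H)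
      ((inf_le_left.trans hT.le).trans hHD)
  exact ((le_inf hAT hAN).trans le_sup_left).trans
    (le_pCoreOf (sup_le (inf_le_right.trans hNH) (pCoreOf_le p H)) h4 h5)

theorem Std.frakH_not_isPClosed (_h : Std p S Q M) (hH : IsInFrakH p M H) {X : Subgroup G}
    (hHX : H ≤ X) : ¬ IsPClosed p ↥X := by
  intro hc
  exact hH.2.2.1 (isPClosed_sub_iff.1 (isPClosed_mono hHX hc) _ (frakH_Y_le hH)
    (isPRed_largest p M).isPGroup)

theorem Std.frakH_ext [Finite G] [Fact p.Prime] (h : Std p S Q M)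
    (hasym : ¬ IsSymmetricIn (largestPReducedOf p M)) (hH : IsInFrakH p M H) {B : Subgroup G}
    (hB : IsPGroup p B) (hHB : H ≤ Subgroup.normalizer (B : Set G)) :
    B ≤ pCoreOf p (H ⊔ B) ∧ pCoreOf p (H ⊔ B) ≤ Subgroup.normalizer (pCoreOf p M : Set G) ∧
      H ⊔ B ≤ Subgroup.normalizer (H : Set G) ∧
      (pResidual p H).map H.subtype = (pResidual p ↥(H ⊔ B)).map (H ⊔ B).subtype ∧
      IsPIrreducible p ↥(H ⊔ B) := by
  set X := H ⊔ B with hX
  have hBD : B ≤ pCoreOf p X := le_pCoreOf le_sup_right (sup_le hHB Subgroup.le_normalizer) hB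
  have hDP : pCoreOf p X ≤ Subgroup.normalizer (pCoreOf p M : Set G) := by
    have h1 : IsPGroup p (pCoreOf p M ⊔ pCoreOf p X : Subgroup G) :=
      (pCoreOf_isPGroup p M).to_sup_of_normal_right' (pCoreOf_isPGroup p X)
        ((hH.2.1.trans le_sup_left).trans (le_normalizer_pCoreOf p X))
    exact le_sup_right.trans (h.le_normalizer_P_of_isPGroup hasym h1 le_sup_left)
  have hBH : B ≤ Subgroup.normalizer (H : Set G) := by
    intro x hx
    rw [← cj_eq_self_iff]
    apply cj_eq_of_le
    conv_lhs => rw [← frakH_closure_P hH]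
    rw [Subgroup.map_iSup]
    apply iSup_le
    intro k
    have h1 : (k : G)⁻¹ * x * (k : G) ∈ B := by
      have := (Subgroup.mem_normalizer_iff.1 (inv_mem (hHB k.2)) x).1 hx
      rwa [inv_inv] at this
    have e : x * (k : G) = (k : G) * ((k : G)⁻¹ * x * (k : G)) := by group
    rw [cj_cj, e, ← cj_cj, cj_eq_self_iff.2 (hDP (hBD h1))]
    exact cj_le_of_le_of_mem hH.2.1 k.2
  have hXH : X ≤ Subgroup.normalizer (H : Set G) := sup_le Subgroup.le_normalizer hBH
  have hRR : (pResidual p H).map H.subtype = (pResidual p ↥X).map X.subtype := by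
    apply le_antisymm (pRes_mono p le_sup_left)
    have h1 : (pResidual p ↥X).map X.subtype ≤ H :=
      pRes_le_of_le_sup hBH hB (by rw [sup_comm])
    rw [← pRes_pRes p X]
    exact pRes_mono p h1
  refine ⟨hBD, hDP, hXH, hRR, ?_⟩
  rw [isPIrreducible_sub_iff]
  refine ⟨h.frakH_not_isPClosed hH le_sup_left, ?_⟩
  intro N hNX hXN hNc
  set D := pCoreOf p X with hD
  have hXD : X ≤ Subgroup.normalizer (D : Set G) := le_normalizer_pCoreOf p X
  have hHX : H ≤ X := le_sup_left
  have hDX : D ≤ X := pCoreOf_le p X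
  rcases h.frakH_normal hasym hH (N := (N ⊔ D) ⊓ H) inf_le_right
    (le_normalizer_inf (le_normalizer_sup (hHX.trans hXN) (hHX.trans hXD))
      Subgroup.le_normalizer) with h1 | h1
  · apply pRes_le_of_pRes_le_sup (hDX.trans hXN) (pCoreOf_isPGroup p X)
    rw [← hRR, sup_comm]
    exact h1.trans inf_le_left
  · exfalso
    apply hNc
    rw [isPClosed_sub_iff]
    intro A hAN hA
    refine le_trans ?_ (pCoreOf_inf_le p hNX)
    refine le_inf ?_ hAN
    intro a ha
    have haX : a ∈ H ⊔ D := by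
      have : X ≤ H ⊔ D := sup_le le_sup_left (hBD.trans le_sup_right)
      exact this (hNX (hAN ha))
    obtain ⟨k, hk, d, hd, rfl⟩ := (mem_sup_of_le_normalizer (hHX.trans hXD)).1 haX
    have hAD : IsPGroup p (A ⊔ D : Subgroup G) :=
      hA.to_sup_of_normal_right' (pCoreOf_isPGroup p X) ((hAN.trans hNX).trans hXD)
    have hk2 : k ∈ (A ⊔ D) ⊓ H := by
      refine ⟨?_, hk⟩
      change k ∈ A ⊔ D
      have e : k = (k * d) * d⁻¹ := by group
      rw [e]
      exact mul_mem (Subgroup.mem_sup_left ha) (inv_mem (Subgroup.mem_sup_right hd))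
    have h2 := h1 ((A ⊔ D) ⊓ H) (inf_le_inf_right _ (sup_le_sup_right hAN _)) hAD.to_inf_left hk2
    exact mul_mem (pCoreOf_le_pCoreOf_of_normal p hHX hXH h2) hd

end

end Cfsg.Agent.Lib.Helper53
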