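import Cfsg.Agent.Lib.Helper53.PRed2

set_option autoImplicit false

namespace Cfsg.Agent.Lib.Helper53

open Cfsg
open scoped commutatorElement

variable {G : Type*} [Group G]

theorem wc_subgroupOf_of {p : ℕ} {A P K : Subgroup G} (hAP : A ≤ P) (hP : IsSyl p P K)
    (h : ∀ k ∈ K, A.map (MulAut.conj k).toMonoidHom ≤ P → A.map (MulAut.conj k).toMonoidHom = A) :
    IsWeaklyClosedSubgroup p (A.subgroupOf K) := by
  have hAK : A ≤ K := hAP.trans hP.le
  refine ⟨hP.toSylow, Subgroup.comap_mono hAP, ?_⟩
  intro k hk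
  apply Subgroup.map_injective K.subtype_injective
  rw [map_cj, subgroupOf_map_subtype_of_le hAK]
  apply h _ k.2
  have := Subgroup.map_mono (f := K.subtype) hk
  rwa [map_cj, subgroupOf_map_subtype_of_le hAK, hP.map_toSylow] at this

theorem map_normalClosure_subgroupOf [Finite G] {A K : Subgroup G} (hAK : A ≤ K) :
    (Subgroup.normalClosure ((A.subgroupOf K : Subgroup K) : Set K)).map K.subtype
      = ⨆ k : K, A.map (MulAut.conj (k : G)).toMonoidHom := by
  have hle : (⨆ k : K, A.map (MulAut.conj (k : G)).toMonoidHom) ≤ K :=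
    iSup_le fun k => cj_le_of_le_of_mem hAK k.2
  apply le_antisymm
  · have hn : ((⨆ k : K, A.map (MulAut.conj (k : G)).toMonoidHom).subgroupOf K).Normal :=
      (Subgroup.normal_subgroupOf_iff_le_normalizer hle).2 (le_normalizer_iSup_cj A K)
    have h1 : Subgroup.normalClosure ((A.subgroupOf K : Subgroup K) : Set K)
        ≤ (⨆ k : K, A.map (MulAut.conj (k : G)).toMonoidHom).subgroupOf K :=
      Subgroup.normalClosure_le_normal (Subgroup.comap_mono (le_iSup_cj A K))
    have := Subgroup.map_mono (f := K.subtype) h1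
    rwa [subgroupOf_map_subtype_of_le hle] at this
  · apply iSup_le
    intro k
    have h1 : (A.subgroupOf K).map (MulAut.conj k).toMonoidHom
        ≤ Subgroup.normalClosure ((A.subgroupOf K : Subgroup K) : Set K) := by
      have h2 : (Subgroup.normalClosure ((A.subgroupOf K : Subgroup K) : Set K)).map
          (MulAut.conj k).toMonoidHom = Subgroup.normalClosure ((A.subgroupOf K : Subgroup K) : Set K) :=
        cj_eq_self_iff.2 (Subgroup.le_normalizer_of_normal (K := ⊤) (Subgroup.mem_top k))
      rw [← h2]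
      exact cj_mono k Subgroup.le_normalClosure
    have := Subgroup.map_mono (f := K.subtype) h1
    rwa [map_cj, subgroupOf_map_subtype_of_le hAK] at this

/-- `M† ≤ N(Y_M)` -/
theorem dagger_le_normalizer (p : ℕ) (M : Subgroup G) :
    M ⊔ Subgroup.centralizer (largestPReducedOf p M : Set G)
      ≤ Subgroup.normalizer (largestPReducedOf p M : Set G) :=
  sup_le (isPRed_largest p M).le_normalizer (Subgroup.centralizer_le_normalizer _)

theorem pCoreOf_eq_inf_centralizer {p : ℕ} {S M : Subgroup G} (hS : IsSyl p S M)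
    (hc : IsPClosed p ↥(M ⊓ Subgroup.centralizer (largestPReducedOf p M : Set G))) :
    pCoreOf p M = S ⊓ Subgroup.centralizer (largestPReducedOf p M : Set G) := by
  have hY := isPRed_largest p M
  apply le_antisymm (le_inf (pCoreOf_le_isSyl hS) hY.pCoreOf_le_centralizer)
  apply le_pCoreOf_of_isPClosed_normal inf_le_left _ (inf_le_inf_right _ hS.le)
    hS.isPGroup.to_inf_left hc
  exact le_normalizer_inf Subgroup.le_normalizer
    (hY.le_normalizer.trans (normalizer_le_normalizer_centralizer _))

theorem asym_comm {Y : Subgroup G} (hasym : ¬ IsSymmetricIn Y) {g : G}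
    (h1 : Y.map (MulAut.conj g).toMonoidHom ≤ Subgroup.normalizer (Y : Set G))
    (h2 : Y ≤ Subgroup.normalizer ((Y.map (MulAut.conj g).toMonoidHom : Subgroup G) : Set G)) :
    Y ≤ Subgroup.centralizer ((Y.map (MulAut.conj g).toMonoidHom : Subgroup G) : Set G) := by
  rw [← Subgroup.commutator_eq_bot_iff_le_centralizer]
  by_contra hne
  exact hasym ⟨g, hne, le_inf (Subgroup.le_normalizer_iff_commutator_le_left.1 h1)
    (Subgroup.le_normalizer_iff_commutator_le_right.1 h2)⟩

/-- conjugates of an asymmetric `Y` under `N(R)`, `Y ≤ R ≤ N(Y)`, commute -/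
theorem asym_comm_of_normalizer {Y R : Subgroup G} (hasym : ¬ IsSymmetricIn Y) (hYR : Y ≤ R)
    (hRY : R ≤ Subgroup.normalizer (Y : Set G)) {g : G}
    (hg : g ∈ Subgroup.normalizer (R : Set G)) :
    Y ≤ Subgroup.centralizer ((Y.map (MulAut.conj g).toMonoidHom : Subgroup G) : Set G) := by
  have hR : R.map (MulAut.conj g).toMonoidHom = R := cj_eq_self_iff.2 hg
  apply asym_comm hasym
  · calc Y.map (MulAut.conj g).toMonoidHom ≤ R.map (MulAut.conj g).toMonoidHom := cj_mono g hYR
      _ = R := hR
      _ ≤ _ := hRY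
  · rw [normalizer_cj]
    calc Y ≤ R := hYR
      _ = R.map (MulAut.conj g).toMonoidHom := hR.symm
      _ ≤ _ := cj_mono g hRY

theorem asym_closure_elemAb {p : ℕ} {Y R : Subgroup G} (hY : IsElementaryAbelian p Y)
    (hasym : ¬ IsSymmetricIn Y) (hYR : Y ≤ R) (hRY : R ≤ Subgroup.normalizer (Y : Set G)) :
    IsElementaryAbelian p (⨆ n : Subgroup.normalizer (R : Set G),
      Y.map (MulAut.conj (n : G)).toMonoidHom) := by
  apply elemAb_iSup
  · intro n
    exact elemAb_map _ hY
  · intro i j
    have h1 := asym_comm_of_normalizer hasym hYR hRY (mul_mem (inv_mem i.2) j.2)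
    have h2 := cj_mono (i : G) h1
    rw [← centralizer_cj, cj_cj] at h2
    convert h2 using 5
    group

end Cfsg.Agent.Lib.Helper53
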