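import Cfsg.Agent.Lib.Helper53.FrakM

set_option autoImplicit false

namespace Cfsg.Agent.Lib.Helper53

open Cfsg
open scoped commutatorElement

variable {G : Type*} [Group G]

/-- The standing hypotheses of the local structure theorem. -/
structure Std (p : ℕ) (S Q M : Subgroup G) : Prop where
  hS : IsSyl p S ⊤
  hQp : IsPGroup p Q
  hQ1 : Q ≠ ⊥
  hQS : Q ≤ S
  hQ : IsLarge Q
  hSM : S ≤ M
  hM : IsInFrakM p M

theorem Std.mk' {p : ℕ} (S : Sylow p G) {Q M : Subgroup G} (hQp : IsPGroup p Q) (hQ1 : Q ≠ ⊥)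
    (hQS : Q ≤ (S : Subgroup G)) (hQ : IsLarge Q) (hSM : (S : Subgroup G) ≤ M)
    (hM : IsInFrakM p M) : Std p (S : Subgroup G) Q M :=
  ⟨isSyl_top_of_sylow S, hQp, hQ1, hQS, hQ, hSM, hM⟩

section
variable {p : ℕ} {S Q M : Subgroup G}

theorem Std.sylM (h : Std p S Q M) : IsSyl p S M := h.hS.of_le h.hSM le_top

theorem Std.P_eq (h : Std p S Q M) :
    pCoreOf p M = S ⊓ Subgroup.centralizer (largestPReducedOf p M : Set G) :=
  pCoreOf_eq_inf_centralizer h.sylM h.hM.2.2.2.2.1

theorem Std.P_ne_bot (h : Std p S Q M) : pCoreOf p M ≠ ⊥ := pCore_ne_bot_iff.1 h.hM.1.1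

theorem Std.Y_le_P (_h : Std p S Q M) : largestPReducedOf p M ≤ pCoreOf p M :=
  (isPRed_largest p M).le_pCoreOf

theorem Std.P_le_C (_h : Std p S Q M) :
    pCoreOf p M ≤ Subgroup.centralizer (largestPReducedOf p M : Set G) :=
  (isPRed_largest p M).pCoreOf_le_centralizer

theorem Std.sylC [Finite G] [Fact p.Prime] (h : Std p S Q M) :
    IsSyl p (pCoreOf p M) (Subgroup.centralizer (largestPReducedOf p M : Set G)) := by
  rw [h.P_eq]
  have h1 : IsSyl p S (Subgroup.normalizer (largestPReducedOf p M : Set G)) :=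
    h.hS.of_le (h.hSM.trans (isPRed_largest p M).le_normalizer) le_top
  exact h1.inf_normal (Subgroup.centralizer_le_normalizer _)
    (normalizer_le_normalizer_centralizer _)

/-- any overgroup of `M` with nontrivial `O_p` lies in `M†` -/
theorem Std.le_dagger [Finite G] [Fact p.Prime] (h : Std p S Q M) {K : Subgroup G} (hMK : M ≤ K)
    (hK : pCoreOf p K ≠ ⊥) :
    K ≤ M ⊔ Subgroup.centralizer (largestPReducedOf p M : Set G) := by
  have hpar : IsParabolic p K := ⟨h.hS.toSylowTop, h.hSM.trans hMK⟩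
  have hKc : K ∈ charPSubgroups p G :=
    ⟨pCore_ne_bot_iff.2 hK, large_parabolic h.hQ h.hQp hpar hK⟩
  obtain ⟨X, hKX, hX⟩ := (Set.toFinite (charPSubgroups p G)).exists_le_maximal hKc
  have hXm : X ∈ maxCharPSubgroups p G :=
    ⟨hX.prop, fun L hL hXL => le_antisymm (hX.le_of_ge hL hXL) hXL⟩
  rw [← h.hM.2.2.1 X hXm (hMK.trans hKX)]
  exact hKX

theorem Std.normalizer_le_dagger [Finite G] [Fact p.Prime] (h : Std p S Q M) {U : Subgroup G}
    (hU : IsPGroup p U) (hU1 : U ≠ ⊥) (hMU : M ≤ Subgroup.normalizer (U : Set G)) :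
    Subgroup.normalizer (U : Set G)
      ≤ M ⊔ Subgroup.centralizer (largestPReducedOf p M : Set G) := by
  apply h.le_dagger hMU
  intro hb
  apply hU1
  rw [eq_bot_iff, ← hb]
  exact le_pCoreOf Subgroup.le_normalizer le_rfl hU

theorem Std.normalizer_P_le_dagger [Finite G] [Fact p.Prime] (h : Std p S Q M) :
    Subgroup.normalizer (pCoreOf p M : Set G)
      ≤ M ⊔ Subgroup.centralizer (largestPReducedOf p M : Set G) :=
  h.normalizer_le_dagger (pCoreOf_isPGroup p M) h.P_ne_bot (le_normalizer_pCoreOf p M)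

theorem Std.Y_eq [Finite G] [Fact p.Prime] (h : Std p S Q M) :
    largestPReducedOf p M
      = omegaOne p (pCoreOf p M ⊓ Subgroup.centralizer (pCoreOf p M : Set G)) := by
  obtain ⟨h1, h2⟩ := isPRed_omega h.sylM (isPRed_largest p M) h.P_eq (le_normalizer_pCoreOf p M)
  exact le_antisymm h2 h1.le_largest

theorem Std.normalizer_P_le_normalizer_Y [Finite G] [Fact p.Prime] (h : Std p S Q M) :
    Subgroup.normalizer (pCoreOf p M : Set G)
      ≤ Subgroup.normalizer (largestPReducedOf p M : Set G) := by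
  conv_rhs => rw [h.Y_eq]
  exact (normalizer_le_normalizer_center _).trans (normalizer_le_normalizer_omegaOne p _)

theorem Std.normalizer_Y_eq [Finite G] [Fact p.Prime] (h : Std p S Q M) :
    Subgroup.normalizer (largestPReducedOf p M : Set G)
      = M ⊔ Subgroup.centralizer (largestPReducedOf p M : Set G) := by
  apply le_antisymm _ (dagger_le_normalizer p M)
  by_cases hY : largestPReducedOf p M = ⊥
  · have : Subgroup.centralizer ((⊥ : Subgroup G) : Set G) = ⊤ := by
      rw [eq_top_iff]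
      intro x _
      rw [Subgroup.mem_centralizer_iff]
      intro y hy
      rw [SetLike.mem_coe, Subgroup.mem_bot] at hy
      simp [hy]
    rw [hY, this, sup_top_eq]
    exact le_top
  · exact h.normalizer_le_dagger (isPRed_largest p M).isPGroup hY (isPRed_largest p M).le_normalizer

end

/-! ### chains -/

theorem chain_lemma {α : Type*} (Adj E : α → α → Prop) (hrefl : ∀ a, E a a)
    (hstep : ∀ a a' b' b, Adj a a' → Adj b' b → E a b' → E a' b → E a b)
    (f : ℕ → α) (hf : ∀ i, Adj (f i) (f (i + 1))) : ∀ d i, E (f i) (f (i + d)) := by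
  intro d
  induction d with
  | zero => intro i; exact hrefl _
  | succ d ih =>
    intro i
    have h1 := ih i
    have h2 := ih (i + 1)
    have e : i + 1 + d = i + (d + 1) := by ring
    rw [e] at h2
    exact hstep _ _ _ _ (hf i) (hf (i + d)) h1 h2

theorem exists_seq_of_reflTransGen {α : Type*} (Adj : α → α → Prop) (hr : ∀ a, Adj a a)
    {a b : α} (h : Relation.ReflTransGen Adj a b) :
    ∃ (f : ℕ → α) (n : ℕ), f 0 = a ∧ f n = b ∧ ∀ i, Adj (f i) (f (i + 1)) := by
  induction h using Relation.ReflTransGen.head_induction_on with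
  | refl => exact ⟨fun _ => b, 0, rfl, rfl, fun _ => hr b⟩
  | @head a' c hac _ ih =>
    obtain ⟨f, n, h0, hn, hf⟩ := ih
    refine ⟨fun i => Nat.casesOn i a' f, n + 1, rfl, hn, ?_⟩
    intro i
    cases i with
    | zero => simpa [h0] using hac
    | succ i => exact hf i

theorem reflTransGen_lemma {α : Type*} (Adj E : α → α → Prop) (hr : ∀ a, Adj a a)
    (hrefl : ∀ a, E a a)
    (hstep : ∀ a a' b' b, Adj a a' → Adj b' b → E a b' → E a' b → E a b)
    {a b : α} (h : Relation.ReflTransGen Adj a b) : E a b := by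
  obtain ⟨f, n, h0, hn, hf⟩ := exists_seq_of_reflTransGen Adj hr h
  have := chain_lemma Adj E hrefl hstep f hf n 0
  rwa [zero_add, h0, hn] at this

end Cfsg.Agent.Lib.Helper53
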