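import Cfsg.Agent.Lib.Helper53.FrakM2

set_option autoImplicit false

namespace Cfsg.Agent.Lib.Helper53

open Cfsg
open scoped commutatorElement

variable {G : Type*} [Group G]

/-- asymmetry for two conjugates -/
theorem asym_comm_cj {Y : Subgroup G} (hasym : ¬ IsSymmetricIn Y) {a b : G}
    (h1 : Y.map (MulAut.conj a).toMonoidHom
      ≤ Subgroup.normalizer ((Y.map (MulAut.conj b).toMonoidHom : Subgroup G) : Set G))
    (h2 : Y.map (MulAut.conj b).toMonoidHom
      ≤ Subgroup.normalizer ((Y.map (MulAut.conj a).toMonoidHom : Subgroup G) : Set G)) :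
    Y.map (MulAut.conj a).toMonoidHom
      ≤ Subgroup.centralizer ((Y.map (MulAut.conj b).toMonoidHom : Subgroup G) : Set G) := by
  have e : ∀ X : Subgroup G, (X.map (MulAut.conj (a⁻¹ * b)).toMonoidHom).map
      (MulAut.conj a).toMonoidHom = X.map (MulAut.conj b).toMonoidHom := by
    intro X
    rw [cj_cj]
    congr 3
    group
  have h3 : Y.map (MulAut.conj (a⁻¹ * b)).toMonoidHom ≤ Subgroup.normalizer (Y : Set G) := by
    rw [normalizer_cj, ← e Y] at h2
    exact (Subgroup.map_le_map_iff_of_injective (MulAut.conj a).injective).1 h2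
  have h4 : Y ≤ Subgroup.normalizer
      ((Y.map (MulAut.conj (a⁻¹ * b)).toMonoidHom : Subgroup G) : Set G) := by
    rw [← e Y, normalizer_cj] at h1
    exact (Subgroup.map_le_map_iff_of_injective (MulAut.conj a).injective).1 h1
  have h5 := cj_mono a (asym_comm hasym h3 h4)
  rwa [← centralizer_cj, e] at h5

section
variable {p : ℕ} {S Q M : Subgroup G}

theorem Std.mem_dagger_of_adj [Finite G] [Fact p.Prime] (h : Std p S Q M)
    (hasym : ¬ IsSymmetricIn (largestPReducedOf p M)) {g : G}
    (h1 : pCoreOf p M ≤ Subgroup.normalizer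
      (((pCoreOf p M).map (MulAut.conj g).toMonoidHom : Subgroup G) : Set G))
    (h2 : (pCoreOf p M).map (MulAut.conj g).toMonoidHom
      ≤ Subgroup.normalizer (pCoreOf p M : Set G)) :
    g ∈ M ⊔ Subgroup.centralizer (largestPReducedOf p M : Set G) := by
  have hYP := h.Y_le_P
  have hNPY := h.normalizer_P_le_normalizer_Y
  have hsylC := h.sylC
  have hMP := le_normalizer_pCoreOf p M
  have hYp := (isPRed_largest p M).isPGroup
  have hPp := pCoreOf_isPGroup p M
  by_cases hY1 : largestPReducedOf p M = ⊥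
  · rw [← h.normalizer_Y_eq, ← cj_eq_self_iff, hY1, cj_eq_bot_iff]
  set P := pCoreOf p M with hP
  set Y := largestPReducedOf p M with hY
  let Adj : G → G → Prop := fun a b =>
    P.map (MulAut.conj a).toMonoidHom
      ≤ Subgroup.normalizer ((P.map (MulAut.conj b).toMonoidHom : Subgroup G) : Set G) ∧
    P.map (MulAut.conj b).toMonoidHom
      ≤ Subgroup.normalizer ((P.map (MulAut.conj a).toMonoidHom : Subgroup G) : Set G)
  let E : G → G → Prop := fun a b =>
    Y.map (MulAut.conj a).toMonoidHom ≤ P.map (MulAut.conj b).toMonoidHom ∧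
    Y.map (MulAut.conj b).toMonoidHom ≤ P.map (MulAut.conj a).toMonoidHom
  have hAdjr : ∀ a, Adj a a := fun a => ⟨Subgroup.le_normalizer, Subgroup.le_normalizer⟩
  have hEr : ∀ a, E a a := fun a => ⟨cj_mono a hYP, cj_mono a hYP⟩
  have hNY : ∀ a, Subgroup.normalizer ((P.map (MulAut.conj a).toMonoidHom : Subgroup G) : Set G)
      ≤ Subgroup.normalizer ((Y.map (MulAut.conj a).toMonoidHom : Subgroup G) : Set G) := by
    intro a
    rw [normalizer_cj, normalizer_cj]
    exact cj_mono a hNPY
  have hSyl : ∀ a, IsSyl p (P.map (MulAut.conj a).toMonoidHom)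
      (Subgroup.centralizer ((Y.map (MulAut.conj a).toMonoidHom : Subgroup G) : Set G)) := by
    intro a
    rw [centralizer_cj]
    exact hsylC.cj a
  have hstep : ∀ a a' b' b, Adj a a' → Adj b' b → E a b' → E a' b → E a b := by
    intro a a' b' b haa hbb hab' ha'b
    have n1 : Y.map (MulAut.conj a).toMonoidHom
        ≤ Subgroup.normalizer ((P.map (MulAut.conj b).toMonoidHom : Subgroup G) : Set G) :=
      hab'.1.trans hbb.1
    have n2 : Y.map (MulAut.conj b).toMonoidHom
        ≤ Subgroup.normalizer ((P.map (MulAut.conj a).toMonoidHom : Subgroup G) : Set G) :=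
      ha'b.2.trans haa.2
    have c1 := asym_comm_cj hasym (n1.trans (hNY b)) (n2.trans (hNY a))
    have c2 := asym_comm_cj hasym (n2.trans (hNY a)) (n1.trans (hNY b))
    exact ⟨(hSyl b).le_of_le_normalizer c1 (isPGroup_cj hYp a) n1,
      (hSyl a).le_of_le_normalizer c2 (isPGroup_cj hYp b) n2⟩
  have hE : ∀ a b, Relation.ReflTransGen Adj a b → E a b :=
    fun a b hab => reflTransGen_lemma Adj E hAdjr hEr hstep hab
  have hAdjl : ∀ x a b, Adj a b → Adj (x * a) (x * b) := by
    intro x a b hab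
    constructor
    · have := cj_mono x hab.1
      rwa [← normalizer_cj, cj_cj, cj_cj] at this
    · have := cj_mono x hab.2
      rwa [← normalizer_cj, cj_cj, cj_cj] at this
  have hRl : ∀ x a b, Relation.ReflTransGen Adj a b →
      Relation.ReflTransGen Adj (x * a) (x * b) := by
    intro x a b hab
    induction hab with
    | refl => exact Relation.ReflTransGen.refl
    | tail _ hbc ih => exact ih.tail (hAdjl x _ _ hbc)
  let U : Subgroup G := ⨅ b : {b : G // Relation.ReflTransGen Adj 1 b},
    P.map (MulAut.conj (b : G)).toMonoidHom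
  have hYU : Y ≤ U := le_iInf fun b => by
    have := (hE 1 b b.2).1
    rwa [cj_one] at this
  have hUP : U ≤ P := (iInf_le _ ⟨1, Relation.ReflTransGen.refl⟩).trans (cj_one P).le
  have hUN : ∀ x, Relation.ReflTransGen Adj 1 x → x ∈ Subgroup.normalizer (U : Set G) := by
    intro x hx
    rw [← cj_eq_self_iff]
    symm
    apply Subgroup.eq_of_le_of_card_ge _ (card_cj U x).le
    intro u hu
    rw [mem_cj, Subgroup.mem_iInf]
    intro b
    have hxb : Relation.ReflTransGen Adj 1 (x * b) := by
      have := hRl x 1 b b.2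
      rw [mul_one] at this
      exact hx.trans this
    have := (Subgroup.mem_iInf.1 hu) ⟨x * b, hxb⟩
    rw [mem_cj] at this ⊢
    convert this using 1
    group
  have hMU : M ≤ Subgroup.normalizer (U : Set G) := by
    intro m hm
    apply hUN m (Relation.ReflTransGen.single _)
    have : P.map (MulAut.conj m).toMonoidHom = P := cj_eq_self_iff.2 (hMP hm)
    constructor
    · rw [cj_one, this]; exact Subgroup.le_normalizer
    · rw [cj_one, this]; exact Subgroup.le_normalizer
  have hgU : g ∈ Subgroup.normalizer (U : Set G) := by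
    apply hUN g (Relation.ReflTransGen.single _)
    constructor
    · rw [cj_one]; exact h1
    · rw [cj_one]; exact h2
  refine h.normalizer_le_dagger (hPp.to_le hUP) ?_ hMU hgU
  intro hb
  apply hY1
  rw [eq_bot_iff, ← hb]
  exact hYU

theorem Std.wc_P [Finite G] [Fact p.Prime] (h : Std p S Q M)
    (hasym : ¬ IsSymmetricIn (largestPReducedOf p M)) :
    IsWeaklyClosedSubgroup p (pCoreOf p M) := by
  apply wc_of_normalizer_crit (pCoreOf_isPGroup p M)
  apply normalizer_le_of_comm_crit
  intro g hg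
  have h1 : (pCoreOf p M).map (MulAut.conj g).toMonoidHom
      ≤ Subgroup.normalizer (pCoreOf p M : Set G) :=
    Subgroup.le_normalizer_iff_commutator_le_left.2 (hg.trans inf_le_left)
  have h2 : pCoreOf p M ≤ Subgroup.normalizer
      (((pCoreOf p M).map (MulAut.conj g).toMonoidHom : Subgroup G) : Set G) :=
    Subgroup.le_normalizer_iff_commutator_le_right.2 (hg.trans inf_le_right)
  have hgM := h.mem_dagger_of_adj hasym h2 h1
  apply cj_eq_of_le
  apply h.sylC.le_of_le_normalizer _ (isPGroup_cj (pCoreOf_isPGroup p M) g) h1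
  have : g ∈ Subgroup.normalizer
      ((Subgroup.centralizer (largestPReducedOf p M : Set G) : Subgroup G) : Set G) :=
    normalizer_le_normalizer_centralizer _ (dagger_le_normalizer p M hgM)
  rw [← cj_eq_self_iff.2 this]
  exact cj_mono g h.P_le_C

/-- a `p`-group containing `O_p(M)` lies in `M†` and normalises `O_p(M)`, `Y_M` -/
theorem Std.le_normalizer_P_of_isPGroup [Finite G] [Fact p.Prime] (h : Std p S Q M)
    (hasym : ¬ IsSymmetricIn (largestPReducedOf p M)) {R : Subgroup G} (hR : IsPGroup p R)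
    (hPR : pCoreOf p M ≤ R) : R ≤ Subgroup.normalizer (pCoreOf p M : Set G) :=
  wc_le_normalizer' (pCoreOf_isPGroup p M) (h.wc_P hasym) hR hPR

/-- for `O_p(M) ≤ L` there is a Sylow `p`-subgroup of `L` containing `O_p(M)`, inside `N(O_p(M))` -/
theorem Std.exists_isSyl [Finite G] [Fact p.Prime] (h : Std p S Q M)
    (hasym : ¬ IsSymmetricIn (largestPReducedOf p M)) {L : Subgroup G} (hPL : pCoreOf p M ≤ L) :
    ∃ T, IsSyl p T L ∧ pCoreOf p M ≤ T ∧ T ≤ Subgroup.normalizer (pCoreOf p M : Set G) := by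
  obtain ⟨T, hT, hPT⟩ := exists_isSyl_ge hPL (pCoreOf_isPGroup p M)
  exact ⟨T, hT, hPT, h.le_normalizer_P_of_isPGroup hasym hT.isPGroup hPT⟩

theorem Std.fusion [Finite G] [Fact p.Prime] (h : Std p S Q M)
    (hasym : ¬ IsSymmetricIn (largestPReducedOf p M)) {x : G}
    (hx : x ∈ largestPReducedOf p M) {g : G} (hgx : g * x * g⁻¹ ∈ largestPReducedOf p M) :
    ∃ m ∈ M, m * x * m⁻¹ = g * x * g⁻¹ := by
  set x' := g * x * g⁻¹ with hx'
  have hPK : pCoreOf p M ≤ Subgroup.centralizer ({x'} : Set G) :=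
    h.P_le_C.trans (Subgroup.centralizer_le (by simpa using hgx))
  have hPK' : (pCoreOf p M).map (MulAut.conj g).toMonoidHom
      ≤ Subgroup.centralizer ({x'} : Set G) := by
    intro y hy
    rw [mem_cj] at hy
    have h1 := Subgroup.mem_centralizer_iff.1 (h.P_le_C hy) x hx
    rw [Subgroup.mem_centralizer_iff]
    intro z hz
    rw [Set.mem_singleton_iff] at hz
    rw [hz, hx']
    have h2 : y = g * (g⁻¹ * y * g) * g⁻¹ := by group
    rw [h2]
    calc g * x * g⁻¹ * (g * (g⁻¹ * y * g) * g⁻¹) = g * (x * (g⁻¹ * y * g)) * g⁻¹ := by group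
      _ = g * ((g⁻¹ * y * g) * x) * g⁻¹ := by rw [h1]
      _ = _ := by group
  obtain ⟨k, hk, hkg⟩ := wc_conj_in (pCoreOf_isPGroup p M) (h.wc_P hasym) hPK hPK'
  have h3 : k⁻¹ * g ∈ Subgroup.normalizer (pCoreOf p M : Set G) := by
    rw [← cj_eq_self_iff, ← cj_cj, hkg, cj_cj, inv_mul_cancel, cj_one]
  have hMC : M ≤ Subgroup.normalizer
      ((Subgroup.centralizer (largestPReducedOf p M : Set G) : Subgroup G) : Set G) :=
    (isPRed_largest p M).le_normalizer.trans (normalizer_le_normalizer_centralizer _)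
  obtain ⟨m, hm, c, hc, hmc⟩ := (mem_sup_of_le_normalizer hMC).1 (h.normalizer_P_le_dagger h3)
  refine ⟨m, hm, ?_⟩
  have h4 : c * x * c⁻¹ = x := by
    rw [← Subgroup.mem_centralizer_iff.1 hc x hx]; group
  have h5 : k⁻¹ * x' * k = x' := by
    have := Subgroup.mem_centralizer_iff.1 hk x' rfl
    rw [mul_assoc, this]; group
  calc m * x * m⁻¹ = m * (c * x * c⁻¹) * m⁻¹ := by rw [h4]
    _ = (m * c) * x * (m * c)⁻¹ := by group
    _ = (k⁻¹ * g) * x * (k⁻¹ * g)⁻¹ := by rw [hmc]
    _ = k⁻¹ * x' * k := by rw [hx']; group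
    _ = x' := h5

end

end Cfsg.Agent.Lib.Helper53
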