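import Cfsg.Agent.Lib.Helper53.JCDefs

set_option autoImplicit false

/-! The symmetric `S₃`-amalgam theorem (amalgam method, Kurzweil-Stellmacher 10.3 in the special case
of an edge-flipping element `x`): shared definitions and the statements of the rungs. -/

namespace Cfsg.Agent.Lib.Helper53.SA

open Cfsg Subgroup
open Cfsg.Agent.Lib.Helper53.JC (cjj QQ)

variable {G : Type*} [Group G]

/-- Hypotheses of the symmetric amalgam theorem. -/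
structure Hyp (P T : Subgroup G) (x : G) : Prop where
  syl : IsSylowTwoIn T P
  hx : x ∈ normalizer (T : Set G)
  hx2 : x * x ∈ T
  h6 : (pCoreOf 2 P).relIndex P = 6
  hchar : P ⊓ centralizer (pCoreOf 2 P : Set G) ≤ pCoreOf 2 P
  hZ : ¬ P ≤ centralizer (omegaCenterOf T : Set G)
  hcore : ∀ N : Subgroup G, N ≤ T → P ≤ normalizer (N : Set G) → x ∈ normalizer (N : Set G) → N = ⊥

/-- `Z_P = ⟨Ω₁Z(T)^P⟩`. -/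
def ZP (P T : Subgroup G) : Subgroup G :=
  closure {g : G | ∃ p ∈ P, ∃ z ∈ omegaCenterOf T, g = p * z * p⁻¹}

/-- adjacency of the cosets `gP`, `hP` in the coset graph: `g⁻¹ h ∈ P x P`. -/
def CAdj (P : Subgroup G) (x : G) (g h : G) : Prop := ∃ p ∈ P, ∃ p' ∈ P, h = g * p * x * p'

/-- Local facts at the base edge `(P, x P x⁻¹)`. -/
structure Loc (P T : Subgroup G) (x : G) : Prop where
  TP : T ≤ P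
  QT : QQ P ≤ T
  ind2 : ∀ a b, a ∈ T → b ∈ T → a ∉ QQ P → b ∉ QQ P → a * b ∈ QQ P
  max : ∀ a ∈ P, a ∉ T → ∀ H : Subgroup G, T ≤ H → a ∈ H → P ≤ H
  selfn : ∀ a ∈ P, cjj a T = T → a ∈ T
  inter : ∀ a ∈ P, a ∉ T → T ⊓ cjj a T ≤ QQ P
  exm : ∃ a ∈ P, a ∉ T
  ZQ : ZP P T ≤ QQ P
  Zn : P ≤ normalizer (ZP P T : Set G)
  QZ : QQ P ≤ centralizer (ZP P T : Set G)
  Zexp : ∀ z ∈ ZP P T, z * z = 1
  CZ : P ⊓ centralizer (ZP P T : Set G) ≤ QQ P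
  Zne : ZP P T ≠ ⊥
  xT : cjj x T = T
  xxP : cjj x (cjj x P) = P
  PxP : P ⊓ cjj x P = T

/-- The abstract geometry: vertices are (represented by) elements of `G`; `Pc g`, `Qc g`, `Zc g` are
the stabilizer of the vertex, its `O₂`, and its `Z`. -/
structure Geo (Pc Qc Zc : G → Subgroup G) (Adj : G → G → Prop) : Prop where
  symm : ∀ g h, Adj g h → Adj h g
  QP : ∀ g, Qc g ≤ Pc g
  ZQ : ∀ g, Zc g ≤ Qc g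
  Qn : ∀ g, Pc g ≤ normalizer (Qc g : Set G)
  Zn : ∀ g, Pc g ≤ normalizer (Zc g : Set G)
  QZ : ∀ g, Qc g ≤ centralizer (Zc g : Set G)
  Zexp : ∀ g, ∀ z ∈ Zc g, z * z = 1
  CZ : ∀ g, Pc g ⊓ centralizer (Zc g : Set G) ≤ Qc g
  QT : ∀ g h, Adj g h → Qc g ≤ Pc h
  ind2 : ∀ g h, Adj g h → ∀ a b, a ∈ Pc g ⊓ Pc h → b ∈ Pc g ⊓ Pc h → a ∉ Qc g → b ∉ Qc g → a * b ∈ Qc g
  max : ∀ g h, Adj g h → ∀ a ∈ Pc g, a ∉ Pc h → ∀ H : Subgroup G, Pc g ⊓ Pc h ≤ H → a ∈ H → Pc g ≤ H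
  act : ∀ g h, Adj g h → ∀ a ∈ Pc g, Adj g (a * h)
  Pmul : ∀ a g, Pc (a * g) = cjj a (Pc g)
  Qmul : ∀ a g, Qc (a * g) = cjj a (Qc g)
  Zmul : ∀ a g, Zc (a * g) = cjj a (Zc g)
  same : ∀ g h k, Adj g h → Adj g k → Pc g ⊓ Pc h = Pc g ⊓ Pc k → Qc h = Qc k
  inter : ∀ g h k, Adj g h → Adj g k → Pc g ⊓ Pc h ≠ Pc g ⊓ Pc k → Pc g ⊓ Pc h ⊓ Pc k ≤ Qc g
  move : ∀ g h, Adj g h → ∀ a ∈ Pc g, a ∉ Pc h → Pc g ⊓ Pc (a * h) ≠ Pc g ⊓ Pc h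
  exm : ∀ g h, Adj g h → ∃ a ∈ Pc g, a ∉ Pc h
  noZ : ∀ g h, Adj g h → ∀ c, c ∈ Pc g → c ∈ Pc h → Pc g ≤ centralizer {c} → Pc h ≤ centralizer {c} →
    c = 1
  noN : ∀ g h, Adj g h → ¬ Pc g ≤ normalizer ((Zc g ⊔ Zc h : Subgroup G) : Set G)
  exc : ∃ (n : ℕ) (δ : ℕ → G), (∀ i < n, Adj (δ i) (δ (i + 1))) ∧ ¬ Zc (δ 0) ≤ Qc (δ n)

/-- `δ 0, …, δ n` is a walk. -/
def IsWalk (Adj : G → G → Prop) (n : ℕ) (δ : ℕ → G) : Prop := ∀ i < n, Adj (δ i) (δ (i + 1))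

/-- a walk of length `n` with `Z_{δ 0} ≰ Q_{δ n}`. -/
def Crit (Qc Zc : G → Subgroup G) (Adj : G → G → Prop) (n : ℕ) (δ : ℕ → G) : Prop :=
  IsWalk Adj n δ ∧ ¬ Zc (δ 0) ≤ Qc (δ n)

/-- no critical walk of length `< b`. -/
def Min (Qc Zc : G → Subgroup G) (Adj : G → G → Prop) (b : ℕ) : Prop :=
  ∀ n < b, ∀ δ : ℕ → G, IsWalk Adj n δ → Zc (δ 0) ≤ Qc (δ n)

/-- prepend a vertex to a walk. -/
def cons (l : G) (δ : ℕ → G) : ℕ → G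
  | 0 => l
  | (i + 1) => δ i

/-- the reversed walk. -/
def rev (n : ℕ) (δ : ℕ → G) : ℕ → G := fun i => δ (n - i)

/-- `r` is "the" commutator of the critical walk `δ` of length `b`. -/
structure IsR (Pc Qc Zc : G → Subgroup G) (b : ℕ) (δ : ℕ → G) (r : G) : Prop where
  ne : r ≠ 1
  mem0 : r ∈ Zc (δ 0)
  memb : r ∈ Zc (δ b)
  st : ∀ s ∈ Zc (δ 0), s ∉ Qc (δ b) → ∀ t ∈ Zc (δ b), t ∉ Qc (δ 0) → s * t * s⁻¹ * t⁻¹ = r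
  c0 : ∀ z ∈ Zc (δ 0), ∀ a ∈ Pc (δ 0) ⊓ Pc (δ 1), a * z * a⁻¹ * z⁻¹ = 1 ∨ a * z * a⁻¹ * z⁻¹ = r
  cb : ∀ z ∈ Zc (δ b), ∀ a ∈ Pc (δ (b - 1)) ⊓ Pc (δ b), a * z * a⁻¹ * z⁻¹ = 1 ∨ a * z * a⁻¹ * z⁻¹ = r
  z0 : Pc (δ 0) ⊓ Pc (δ 1) ≤ centralizer {r}
  zb : Pc (δ (b - 1)) ⊓ Pc (δ b) ≤ centralizer {r}

variable (G)

/-- RUNG CRIT. -/
def CritSt : Prop := ∀ (Pc Qc Zc : G → Subgroup G) (Adj : G → G → Prop), Geo Pc Qc Zc Adj →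
  ∀ (b : ℕ) (δ : ℕ → G), 1 ≤ b → Min Qc Zc Adj b → Crit Qc Zc Adj b δ →
    Crit Qc Zc Adj b (rev b δ) ∧ Zc (δ 0) ≤ Pc (δ (b - 1)) ⊓ Pc (δ b) ∧ Zc (δ b) ≤ Pc (δ 0) ⊓ Pc (δ 1) ∧
      ∃ r, IsR Pc Qc Zc b δ r

/-- RUNG SHIFT (no "case I"). -/
def ShiftSt : Prop := ∀ (Pc Qc Zc : G → Subgroup G) (Adj : G → G → Prop), Geo Pc Qc Zc Adj →
  ∀ (b : ℕ) (δ : ℕ → G), 2 ≤ b → Min Qc Zc Adj b → Crit Qc Zc Adj b δ →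
    ∀ l : G, Adj (δ 0) l → Pc (δ 0) ⊓ Pc l ≠ Pc (δ 0) ⊓ Pc (δ 1) → Crit Qc Zc Adj b (cons l δ)

/-- RUNG CLAIMA. -/
def ClaimASt : Prop := ∀ (Pc Qc Zc : G → Subgroup G) (Adj : G → G → Prop), Geo Pc Qc Zc Adj →
  ∀ (b : ℕ) (δ : ℕ → G), 2 ≤ b → Min Qc Zc Adj b → Crit Qc Zc Adj b δ →
    ∀ r, IsR Pc Qc Zc b δ r → Pc (δ 1) ≤ centralizer {r} ∧ Pc (δ (b - 1)) ≤ centralizer {r}

/-- RUNG B3. -/
def B3St : Prop := ∀ (Pc Qc Zc : G → Subgroup G) (Adj : G → G → Prop), Geo Pc Qc Zc Adj →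
  ∀ (b : ℕ) (δ : ℕ → G), Min Qc Zc Adj b → Crit Qc Zc Adj b δ → b < 3

/-- RUNG B2. -/
def B2St : Prop := ∀ (Pc Qc Zc : G → Subgroup G) (Adj : G → G → Prop), Geo Pc Qc Zc Adj →
  ∀ (δ : ℕ → G), Min Qc Zc Adj 2 → ¬ Crit Qc Zc Adj 2 δ

/-- RUNG LOC. -/
def LocSt : Prop := ∀ (P T : Subgroup G) (x : G), Hyp P T x → Loc P T x

/-- RUNG GEO: the coset geometry of a symmetric amalgam is a `Geo`. -/
def GeoSt : Prop := ∀ (P T : Subgroup G) (x : G), Hyp P T x →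
  Geo (fun g => cjj g P) (fun g => cjj g (QQ P)) (fun g => cjj g (ZP P T)) (CAdj P x)

/-- RUNG END: the case `b = 1`. -/
def EndSt : Prop := ∀ (P T : Subgroup G) (x : G), Hyp P T x →
  (∃ g h, CAdj P x g h ∧ ¬ cjj g (ZP P T) ≤ cjj h (QQ P)) → ∀ g ∈ pCoreOf 2 P, g * g = 1

/-- The symmetric amalgam theorem. -/
def MainSt : Prop := ∀ (P T : Subgroup G) (x : G), Hyp P T x → ∀ g ∈ pCoreOf 2 P, g * g = 1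

end Cfsg.Agent.Lib.Helper53.SA
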