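import Cfsg.Agent.Lib.Helper53.JCDefs
import Cfsg.Agent.Lib.Helper53.SADefs

set_option autoImplicit false

/-! Kurzweil-Stellmacher ch. 12, second part (S2951, S2952, S2953): shared definitions. -/

namespace Cfsg.Agent.Lib.Helper53.JC2

open Cfsg Subgroup
open Cfsg.Agent.Lib.Helper53.JC

variable {G : Type*} [Group G]

/-- The context of S2951. -/
structure C51 (S : Sylow 2 G) (M T K L : Subgroup G) : Prop where
  zn : ZN G
  hO : pCore 2 G = ⊥
  hM : IsTwoLocal M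
  hMJ : normalizer (JJ (S : Subgroup G) : Set G) ≤ M
  hT : T ∈ maxStraddlingTwoSubgroups M
  hTS : T ≤ (S : Subgroup G)
  hK : K ∈ jComponentsOutside M T
  hLmax : IsMaximalTwoLocal L
  hKL : K ⊔ JJ T ≤ L

/-- there is a `J(T)`-component outside `L`. -/
def Good (T L : Subgroup G) : Prop := ∃ K' : Subgroup G, IsJComponent T K' ∧ ¬ K' ≤ L

/-- The conclusion of S2951. -/
def Concl51 (S : Sylow 2 G) (T K L : Subgroup G) : Prop :=
  omegaCenterOf (JJ T) ⊓ wOf K ≠ ⊥ ∧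
    ((omegaCenterOf (S : Subgroup G) = omegaCenterOf (JJ T) ∧ Nat.card ↥(omegaCenterOf (JJ T)) = 2) ∨
      (omegaCenterOf (S : Subgroup G) = omegaCenterOf (JJ T) ∧ Nat.card ↥(omegaCenterOf (JJ T)) = 4 ∧
        T = (S : Subgroup G)) ∨
      (omegaCenterOf T = omegaCenterOf (JJ T) ∧ Nat.card ↥(omegaCenterOf (JJ T)) = 4 ∧
        (L ⊓ centralizer (omegaCenterOf (JJ T) : Set G)).relIndex
          (normalizer (omegaCenterOf (JJ T) : Set G)) = 2))

/-- `L` is a 2-local in `𝓛(S)` containing every 2-local that contains the Sylow 2-subgroup `S`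
(this never happens: rung K4). -/
def Bad (S : Sylow 2 G) (L : Subgroup G) : Prop :=
  IsTwoLocal L ∧ L ∈ jOvergroups (S : Subgroup G) ∧
    ∀ N : Subgroup G, IsTwoLocal N → (S : Subgroup G) ≤ N → N ≤ L

/-- Basic facts in the context `C51` (rung AF). -/
structure AF (S : Sylow 2 G) (T K L : Subgroup G) : Prop where
  jc : IsJComponent T K
  hT2 : IsPGroup 2 ↥T
  hT1 : T ≠ ⊥
  a1 : ∀ N : Subgroup G, IsTwoLocal N → K ⊔ JJ T ≤ N → N ≤ L
  uniq : ∀ L' : Subgroup G, IsMaximalTwoLocal L' → K ⊔ JJ T ≤ L' → L' = L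
  syl : IsSylowTwoIn T L
  jo : L ∈ jOvergroups T
  a3 : ∀ y ∈ omegaCenterOf (JJ T), y ∈ centralizer (K : Set G) → y ≠ 1 → centralizer {y} ≤ L
  a4 : omegaCenterOf (S : Subgroup G) ≤ omegaCenterOf T
  a4' : omegaCenterOf T ≤ omegaCenterOf (JJ T)
  a5 : ∀ K' : Subgroup G, IsJComponent T K' → Nat.card ↥(omegaCenterOf (JJ T)) =
    2 * Nat.card ↥(omegaCenterOf (JJ T) ⊓ centralizer (K' : Set G))
  a5' : ∀ K' : Subgroup G, IsJComponent T K' → Nat.card ↥(omegaCenterOf (JJ T) ⊓ wOf K') = 2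
  a6 : ∀ K' : Subgroup G, IsJComponent T K' → ¬ omegaCenterOf (S : Subgroup G) ≤ centralizer (K' : Set G)
  a7 : normalizer (L : Set G) ≤ L
  a8 : normalizer (omegaCenterOf (S : Subgroup G) : Set G) ≤ normalizer ((S : Subgroup G) : Set G)
  a9 : ∀ R : Subgroup G, IsPGroup 2 ↥R → T ≤ R → R ≤ L → R = T

/-- The properties of `P = ⟨K, T⟩` required by S2952 and S2953. -/
structure PPr (T K L : Subgroup G) : Prop where
  nrm : T ≤ normalizer (K : Set G)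
  cen : centralizer (pCoreOf 2 (K ⊔ T) : Set G) ≤ pCoreOf 2 (K ⊔ T)
  syl : IsSylowTwoIn T (K ⊔ T)
  h6 : (pCoreOf 2 (K ⊔ T)).relIndex (K ⊔ T) = 6
  nab : ¬ ⁅K ⊔ T, K ⊔ T⁆ ≤ pCoreOf 2 (K ⊔ T)
  hZ : ⁅omegaCenterOf T, K ⊔ T⁆ ≠ ⊥
  hL : IsMaximalTwoLocal L
  le : K ⊔ T ≤ L
  sylL : IsSylowTwoIn T L
  uniq : ∀ L' : Subgroup G, IsMaximalTwoLocal L' → K ⊔ T ≤ L' → L' = L

variable (G)

/-- RUNG K4. -/
def NoBad : Prop := ZN G → pCore 2 G = ⊥ → ∀ (S : Sylow 2 G) (L : Subgroup G), ¬ Bad S L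

/-- S2951 in context form. -/
def T51 : Prop := ∀ (S : Sylow 2 G) (M T K L : Subgroup G), C51 S M T K L → Concl51 S T K L

end Cfsg.Agent.Lib.Helper53.JC2
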