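import Cfsg.Agent.Lib.Helper53.JCW

set_option autoImplicit false

/-! Ladder JC3, rung CK: the pure group theory. -/

namespace Cfsg.Agent.Lib.Helper53.JC3

open Cfsg Subgroup
open Cfsg.Agent.Lib.Helper53.JC
open scoped commutatorElement

variable {G : Type*} [Group G]

/-- the three cosets of a normal subgroup of index 3. -/
theorem tri3 {N K : Subgroup G} (hKN : K ≤ normalizer (N : Set G)) (h3 : N.relIndex K = 3)
    {k g : G} (hk : k ∈ K) (hkN : k ∉ N) (hg : g ∈ K) : g ∈ N ∨ g * k⁻¹ ∈ N ∨ g * k ∈ N := by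
  have : (N.subgroupOf K).Normal := Subgroup.normal_subgroupOf_of_le_normalizer hKN
  have hcard : Nat.card (K ⧸ N.subgroupOf K) = 3 := h3
  have : Fact (Nat.Prime 3) := ⟨Nat.prime_three⟩
  have hkb : (QuotientGroup.mk ⟨k, hk⟩ : K ⧸ N.subgroupOf K) ≠ 1 := by
    intro h
    rw [QuotientGroup.eq_one_iff] at h
    exact hkN (mem_subgroupOf.1 h)
  obtain ⟨n, hn⟩ : (QuotientGroup.mk ⟨g, hg⟩ : K ⧸ N.subgroupOf K) ∈
      Submonoid.powers (QuotientGroup.mk ⟨k, hk⟩ : K ⧸ N.subgroupOf K) :=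
    mem_powers_of_prime_card hcard hkb
  have hk3 : (QuotientGroup.mk ⟨k, hk⟩ : K ⧸ N.subgroupOf K) ^ 3 = 1 := by
    rw [← hcard]; exact pow_card_eq_one'
  have hn' : (QuotientGroup.mk ⟨k, hk⟩ : K ⧸ N.subgroupOf K) ^ (n % 3) = QuotientGroup.mk ⟨g, hg⟩ := by
    have hn2 : (QuotientGroup.mk ⟨k, hk⟩ : K ⧸ N.subgroupOf K) ^ n = QuotientGroup.mk ⟨g, hg⟩ := hn
    rw [← hn2]
    conv_rhs => rw [← Nat.div_add_mod n 3, pow_add, pow_mul, hk3, one_pow, one_mul]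
  have hlt : n % 3 < 3 := Nat.mod_lt _ (by norm_num)
  generalize n % 3 = r at hn' hlt
  interval_cases r
  · left
    rw [pow_zero] at hn'
    have := (QuotientGroup.eq_one_iff _).1 hn'.symm
    exact mem_subgroupOf.1 this
  · right; left
    rw [pow_one] at hn'
    have h1 : (QuotientGroup.mk (⟨g, hg⟩ * ⟨k, hk⟩⁻¹ : K) : K ⧸ N.subgroupOf K) = 1 := by
      rw [QuotientGroup.mk_mul, QuotientGroup.mk_inv, ← hn', mul_inv_cancel]
    have := (QuotientGroup.eq_one_iff _).1 h1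
    exact mem_subgroupOf.1 this
  · right; right
    have h1 : (QuotientGroup.mk (⟨g, hg⟩ * ⟨k, hk⟩ : K) : K ⧸ N.subgroupOf K) = 1 := by
      rw [QuotientGroup.mk_mul, ← hn', ← pow_succ, hk3]
    have := (QuotientGroup.eq_one_iff _).1 h1
    exact mem_subgroupOf.1 this

/-- squares act trivially on a section of order 3. -/
theorem sq_mem_CM {N K : Subgroup G} (hKN : K ≤ normalizer (N : Set G)) (h3 : N.relIndex K = 3)
    {a : G} (haK : a ∈ normalizer (K : Set G)) (haN : a ∈ normalizer (N : Set G)) :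
    a * a ∈ CM K N := by
  refine ⟨mul_mem haN haN, ?_⟩
  intro k hk
  have cN : ∀ n ∈ N, a * n * a⁻¹ ∈ N := fun n hn => (mem_normalizer_iff.1 haN n).1 hn
  by_cases hkN : k ∈ N
  · have e : ⁅k, a * a⁆ = k * (a * (a * k⁻¹ * a⁻¹) * a⁻¹) := by
      simp only [commutatorElement_def]; group
    rw [e]
    exact N.mul_mem hkN (cN _ (cN _ (N.inv_mem hkN)))
  · have hg : a * k * a⁻¹ ∈ K := (mem_normalizer_iff.1 haK k).1 hk
    have hgN : a * k * a⁻¹ ∉ N := fun h => hkN ((mem_normalizer_iff.1 haN k).2 h)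
    rcases tri3 hKN h3 hk hkN hg with h | h | h
    · exact absurd h hgN
    · -- a k a⁻¹ k⁻¹ = n
      have e : ⁅k, a * a⁆ = ((a * (a * k * a⁻¹ * k⁻¹) * a⁻¹) * (a * k * a⁻¹ * k⁻¹))⁻¹ := by
        simp only [commutatorElement_def, mul_inv_rev, inv_inv, mul_assoc, inv_mul_cancel_left]
      rw [e]
      exact N.inv_mem (N.mul_mem (cN _ h) h)
    · -- a k a⁻¹ k = n
      have e : ⁅k, a * a⁆ = (k * (a * k * a⁻¹ * k) * k⁻¹) * (a * (a * k * a⁻¹ * k) * a⁻¹)⁻¹ := by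
        simp only [commutatorElement_def]; group
      rw [e]
      exact N.mul_mem ((mem_normalizer_iff.1 (hKN hk) _).1 h) (N.inv_mem (cN _ h))

/-- commutators act trivially on a section of order 3. -/
theorem comm_mem_CM {N K : Subgroup G} (hKN : K ≤ normalizer (N : Set G)) (h3 : N.relIndex K = 3)
    {a b : G} (haK : a ∈ normalizer (K : Set G)) (haN : a ∈ normalizer (N : Set G))
    (hbK : b ∈ normalizer (K : Set G)) (hbN : b ∈ normalizer (N : Set G)) :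
    ⁅a, b⁆ ∈ CM K N := by
  have e : ⁅a, b⁆ = (a * a) * ((a⁻¹ * b) * (a⁻¹ * b)) * (b * b)⁻¹ := by
    simp only [commutatorElement_def]; group
  rw [e]
  exact mul_mem (mul_mem (sq_mem_CM hKN h3 haK haN)
    (sq_mem_CM hKN h3 (mul_mem (inv_mem haK) hbK) (mul_mem (inv_mem haN) hbN)))
    (inv_mem (sq_mem_CM hKN h3 hbK hbN))

/-- `[S,S] ≤ O₂(⟨𝒦, S⟩)`. -/
theorem comm_le_core [Finite G] (𝒦 : Set (Subgroup G)) (S : Subgroup G) (hS : IsPGroup 2 ↥S)
    (h3 : ∀ K ∈ 𝒦, (pCoreOf 2 K).relIndex K = 3) (hSK : ∀ K ∈ 𝒦, S ≤ normalizer (K : Set G))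
    (hKK : ∀ K ∈ 𝒦, ∀ K' ∈ 𝒦, K' ≤ normalizer (K : Set G)) :
    ⁅S, S⁆ ≤ pCoreOf 2 (sSup 𝒦 ⊔ S) := by
  set N1 : Subgroup G := sSup 𝒦 ⊔ S with hN1
  have hNK : ∀ K ∈ 𝒦, N1 ≤ normalizer (K : Set G) := fun K hK =>
    sup_le (sSup_le fun K' hK' => hKK K hK K' hK') (hSK K hK)
  have hNO : ∀ K ∈ 𝒦, N1 ≤ normalizer (pCoreOf 2 K : Set G) := fun K hK =>
    (hNK K hK).trans (normalizer_le_normalizer_pCoreOf 2 K)
  have hKN1 : ∀ K ∈ 𝒦, K ≤ N1 := fun K hK => (le_sSup hK).trans le_sup_left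
  have hSN1 : S ≤ N1 := le_sup_right
  have hOR : ∀ K ∈ 𝒦, pCoreOf 2 K ≤ pCoreOf 2 N1 := fun K hK =>
    le_pCoreOf ((pCoreOf_le 2 K).trans (hKN1 K hK)) (hNO K hK) (pCoreOf_isPGroup 2 K)
  set C : Subgroup G := S ⊓ ⨅ K ∈ 𝒦, CM K (pCoreOf 2 K) with hC
  have hCC : ⁅S, S⁆ ≤ C := by
    rw [commutator_le]
    intro a ha b hb
    refine mem_inf.2 ⟨S.mul_mem (S.mul_mem (S.mul_mem ha hb) (S.inv_mem ha)) (S.inv_mem hb), ?_⟩
    simp only [mem_iInf]
    intro K hK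
    exact comm_mem_CM (le_normalizer_pCoreOf 2 K) (h3 K hK) (hSK K hK ha)
      (hNO K hK (hSN1 ha)) (hSK K hK hb) (hNO K hK (hSN1 hb))
  have hCS : C ≤ S := inf_le_left
  set R : Subgroup G := C ⊔ pCoreOf 2 N1 with hR
  have hRp : IsPGroup 2 ↥R :=
    (hS.to_le hCS).to_sup_of_normal_right' (pCoreOf_isPGroup 2 N1)
      ((hCS.trans hSN1).trans (le_normalizer_pCoreOf 2 N1))
  have hRN1 : R ≤ N1 := sup_le (hCS.trans hSN1) (pCoreOf_le 2 N1)
  have step : ∀ g ∈ N1, (∀ c ∈ C, ⁅g, c⁆ ∈ R) → g ∈ normalizer (R : Set G) := by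
    intro g hg h
    rw [← cj_eq_self_iff]
    apply cj_eq_of_le
    rw [hR, cj_sup]
    apply sup_le
    · rintro _ ⟨c, hc, rfl⟩
      have e : (MulAut.conj g).toMonoidHom c = ⁅g, c⁆ * c := by
        show g * c * g⁻¹ = _
        simp only [commutatorElement_def]; group
      rw [e]
      exact R.mul_mem (h c hc) (mem_sup_left hc)
    · rw [cj_eq_self_iff.2 (le_normalizer_pCoreOf 2 N1 hg)]
      exact le_sup_right
  have hnorm : N1 ≤ normalizer (R : Set G) := by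
    apply sup_le
    · apply sSup_le
      intro K hK k hk
      apply step k (hKN1 K hK hk)
      intro c hc
      have h1 : c ∈ ⨅ K ∈ 𝒦, CM K (pCoreOf 2 K) := hc.2
      simp only [mem_iInf] at h1
      exact mem_sup_right (hOR K hK ((h1 K hK).2 k hk))
    · intro s hs
      apply step s (hSN1 hs)
      intro c hc
      exact mem_sup_left (hCC (commutator_mem_commutator hs (hCS hc)))
  exact hCC.trans (le_sup_left.trans (le_pCoreOf hRN1 hnorm hRp))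

/-- the final deduction of rung CK. -/
theorem ck_fin [Finite G] {N1 X Q S : Subgroup G} (hX : X ≤ N1) (hcomm : ⁅S, S⁆ ≤ pCoreOf 2 N1)
    (hQS : Q ≤ S) (hQX : Q ≤ X) (hDQ : pCoreOf 2 X ≤ Q) {x : G} (hx : x ∈ S)
    (hQD : Q ≤ pCoreOf 2 X ⊔ cjj x (pCoreOf 2 X)) : Q ≤ pCoreOf 2 X := by
  have hDN : pCoreOf 2 X ≤ normalizer (pCoreOf 2 N1 : Set G) :=
    ((pCoreOf_le 2 X).trans hX).trans (le_normalizer_pCoreOf 2 N1)
  have hp : IsPGroup 2 ↥(pCoreOf 2 X ⊔ pCoreOf 2 N1 : Subgroup G) :=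
    (pCoreOf_isPGroup 2 X).to_sup_of_normal_right' (pCoreOf_isPGroup 2 N1) hDN
  have hn : X ≤ normalizer ((pCoreOf 2 X ⊔ pCoreOf 2 N1 : Subgroup G) : Set G) :=
    (le_inf (le_normalizer_pCoreOf 2 X) (hX.trans (le_normalizer_pCoreOf 2 N1))).trans
      (normalizer_inf_normalizer_le_normalizer_sup _ _)
  have hB : (pCoreOf 2 X ⊔ pCoreOf 2 N1) ⊓ X ≤ pCoreOf 2 X :=
    le_pCoreOf inf_le_right (le_normalizer_inf hn le_normalizer) (hp.to_le inf_le_left)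
  refine le_trans (le_inf (hQD.trans (sup_le le_sup_left ?_)) hQX) hB
  rintro _ ⟨d, hd, rfl⟩
  have e : (MulAut.conj x).toMonoidHom d = ⁅x, d⁆ * d := by
    show x * d * x⁻¹ = _
    simp only [commutatorElement_def]; group
  rw [e]
  exact mul_mem (mem_sup_right (hcomm (commutator_mem_commutator hx (hQS (hDQ hd)))))
    (mem_sup_left hd)

end Cfsg.Agent.Lib.Helper53.JC3
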