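import Cfsg.Agent.Lib.Helper53.JCSt

set_option autoImplicit false
set_option linter.unusedSectionVars false
set_option linter.unusedVariables false

/-! J(T)-component ladder, rung R3: `St3`. -/

namespace Cfsg.Agent.Lib.Helper53.JC

open Cfsg Subgroup
open scoped commutatorElement
open Cfsg.Agent.Lib.Helper15.ZJ (AE PE)

variable {G : Type*} [Group G] [Finite G]

/-- an involution normalizing a nontrivial elementary abelian 2-group has a fixed point. -/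
theorem exists_fixed {W : Subgroup G} (hW : PE 2 W) (hW1 : W ≠ ⊥) {a : G} (ha : a ^ 2 = 1)
    (haW : a ∈ normalizer (W : Set G)) : W ⊓ centralizer ({a} : Set G) ≠ ⊥ := by
  obtain ⟨w, hw, hw1⟩ := (Subgroup.ne_bot_iff_exists_ne_one.1 hW1 : ∃ w : W, w ≠ 1) |>.elim
    (fun w h => (⟨w.1, w.2, fun h' => h (Subtype.ext h')⟩ : ∃ w ∈ W, w ≠ 1))
  have hw' : a * w * a⁻¹ ∈ W := (mem_normalizer_iff.1 haW _).1 hw
  have haa : a * a = 1 := by rw [← pow_two]; exact ha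
  have hainv : a⁻¹ = a := inv_eq_of_mul_eq_one_left haa
  intro hbot
  by_cases h : a * w * a⁻¹ = w
  · apply hw1
    have : w ∈ W ⊓ centralizer ({a} : Set G) := by
      refine Subgroup.mem_inf.2 ⟨hw, ?_⟩
      rw [mem_centralizer_singleton_iff]
      calc w * a = (a * w * a⁻¹) * a := by rw [h]
        _ = a * w := by group
    rw [hbot] at this
    exact Subgroup.mem_bot.1 this
  · have hv : w * (a * w * a⁻¹) ∈ W ⊓ centralizer ({a} : Set G) := by
      refine Subgroup.mem_inf.2 ⟨mul_mem hw hw', ?_⟩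
      rw [mem_centralizer_singleton_iff]
      have hc := hW.1 w hw _ hw'
      calc w * (a * w * a⁻¹) * a = (a * w * a⁻¹) * w * a := by rw [hc]
        _ = a * w * (a * w * a) := by rw [hainv]; group
        _ = a * (w * (a * w * a⁻¹)) := by rw [hainv]; group
    rw [hbot] at hv
    apply h
    have h1 : w * (a * w * a⁻¹) = 1 := Subgroup.mem_bot.1 hv
    have h2 : w * w = 1 := by rw [← pow_two]; exact hW.2 w hw
    exact mul_left_cancel (h1.trans h2.symm)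

variable {T L K₁ K₂ : Subgroup G}

/-- a pure involution acting on `K₁` also acts on `K₂` if `W_{K₁} = W_{K₂}`. -/
theorem act_of_wOf_eq (hK₁ : IsJComponent T K₁) (hK₂ : IsJComponent T K₂) (hW : wOf K₁ = wOf K₂)
    {a : G} (ha : Act T L K₁ a) : Act T L K₂ a := by
  refine ⟨ha.mem, ha.sq, ha.pure, fun hcon => ?_⟩
  have haW : a ∈ normalizer (wOf K₂ : Set G) :=
    normalizer_le_normalizer_wOf K₂ (jc_JJ_le_normalizer hK₂ ha.mem)
  have hF1 := exists_fixed (wOf_PE K₂) (jc_wOf_ne_bot hK₂) ha.sq haW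
  have hFn : K₂ ≤ normalizer ((wOf K₂ ⊓ centralizer ({a} : Set G) : Subgroup G) : Set G) := by
    intro k hk
    rw [← cj_eq_self_iff]
    apply cj_eq_of_le
    rintro _ ⟨w, hww, rfl⟩
    obtain ⟨hw, hwa⟩ := Subgroup.mem_inf.1 hww
    rw [mem_centralizer_singleton_iff] at hwa
    refine Subgroup.mem_inf.2 ⟨(mem_normalizer_iff.1 (le_normalizer_wOf K₂ hk) _).1 hw, ?_⟩
    rw [mem_centralizer_singleton_iff]
    show k * w * k⁻¹ * a = a * (k * w * k⁻¹)
    have ho : ⁅k⁻¹, a⁆ ∈ pCoreOf 2 K₂ :=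
      hcon (Subgroup.commutator_mem_commutator (inv_mem hk) (mem_zpowers a))
    have hoc : w * ⁅k⁻¹, a⁆ = ⁅k⁻¹, a⁆ * w :=
      mem_centralizer_iff.1 (pCoreOf_le_centralizer_wOf K₂ ho) w hw
    have e1 : a * k = k * ⁅k⁻¹, a⁆ * a := by simp only [commutatorElement_def]; group
    calc k * w * k⁻¹ * a = k * (⁅k⁻¹, a⁆ * w * (⁅k⁻¹, a⁆)⁻¹) * k⁻¹ * a := by
          rw [← hoc]; group
      _ = (k * ⁅k⁻¹, a⁆ * a) * (a⁻¹ * (w * a)) * (k * ⁅k⁻¹, a⁆ * a)⁻¹ * a := by group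
      _ = (a * k) * (a⁻¹ * (a * w)) * (a * k)⁻¹ * a := by rw [← e1, hwa]
      _ = a * (k * w * k⁻¹) := by group
  have hF := jc_wOf_irred hK₂ inf_le_left hFn hF1
  have haC : zpowers a ≤ centralizer (wOf K₁ : Set G) := by
    rw [zpowers_le, mem_centralizer_iff, hW]
    intro w hw
    have : w ∈ wOf K₂ ⊓ centralizer ({a} : Set G) := hF.ge hw
    exact mem_centralizer_singleton_iff.1 (Subgroup.mem_inf.1 this).2
  apply ha.act
  rw [← jc_inf_centralizer_wOf hK₁]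
  refine le_inf (act_comm_le hK₁ ha) ((Subgroup.commutator_mono le_rfl haC).trans ?_)
  exact commutator_le_right_of_le_normalizer
    ((le_normalizer_wOf K₁).trans (normalizer_le_normalizer_cent _))

theorem le_of_act (h : ZN G) (hT : IsPGroup 2 T) (hL : L ∈ jOvergroups T)
    (hcT : T ⊓ CCL L = QQ L) (hCT : ⁅CCL L, T⁆ ≤ QQ L)
    (hK₁ : IsJComponent T K₁) (hK₁L : K₁ ≤ L) (hK₂ : IsJComponent T K₂) (hK₂L : K₂ ≤ L)
    {a : G} (ha₁ : Act T L K₁ a) (ha₂ : Act T L K₂ a) : K₁ ≤ K₂ := by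
  apply jc_le_of_le_sup hK₁ (pCoreOf_isPGroup 2 L) (QQ_le_normalizer h hT hL hK₂ hK₂L)
  rw [sup_comm]
  conv_lhs => rw [← act_eq_sup hK₁ ha₁]
  apply sup_le
  · exact (Subgroup.commutator_mono (act_le_NN hL hK₁ hK₁L ha₁) le_rfl).trans
      (act_comm_NN_le hL hCT hK₂ hK₂L ha₂)
  · exact (act_pCoreOf_le hL hcT hCT hK₁ hK₁L ha₁).trans le_sup_right

theorem st3 (h : ZN G) (hc : Core1 G) (hf : FFa G) : St3 G := by
  intro T L K₁ K₂ hT hL hK₁ hK₁L hK₂ hK₂L hne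
  by_contra hW
  obtain ⟨-, -, -, hcT, hCT, -⟩ := hc T L hT hL
  have h12 : K₁ ≤ normalizer (K₂ : Set G) :=
    (jc_le_HHL hL hK₁ hK₁L).trans (st2 h hc hf T L K₂ hT hL hK₂ hK₂L)
  have h21 : K₂ ≤ normalizer (K₁ : Set G) :=
    (jc_le_HHL hL hK₂ hK₂L).trans (st2 h hc hf T L K₁ hT hL hK₁ hK₁L)
  have e1 := jc_wOf_irred hK₁ inf_le_left
    (le_normalizer_inf (le_normalizer_wOf K₁) (h12.trans (normalizer_le_normalizer_wOf K₂))) hW
  have e2 := jc_wOf_irred hK₂ inf_le_right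
    (le_normalizer_inf (h21.trans (normalizer_le_normalizer_wOf K₁)) (le_normalizer_wOf K₂)) hW
  have hWW : wOf K₁ = wOf K₂ := e1.symm.trans e2
  obtain ⟨a, ha₁⟩ := exists_act hT hL hf hK₁
  have ha₂ := act_of_wOf_eq hK₁ hK₂ hWW ha₁
  exact hne (le_antisymm (le_of_act h hT hL hcT hCT hK₁ hK₁L hK₂ hK₂L ha₁ ha₂)
    (le_of_act h hT hL hcT hCT hK₂ hK₂L hK₁ hK₁L ha₂ ha₁))

end Cfsg.Agent.Lib.Helper53.JC
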