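import Cfsg.Agent.Lib.Helper53.KS18Defs
import Cfsg.Agent.Lib.Helper53.JC3Asm
import Cfsg.Agent.Lib.Helper37.Extremal
import Cfsg.Agent.S2947
import Cfsg.Agent.Lib.Helper41.KS18HQ
import Cfsg.Agent.Lib.Helper69.KS18MS4
import Cfsg.Agent.Lib.Helper29.KS18FIN
import Cfsg.Agent.Lib.Helper16.KS18TR

set_option autoImplicit false

namespace Cfsg.Agent.Lib.Helper53.KS18

open Cfsg Subgroup
open Cfsg.Agent.Lib.Helper53.JC (cjj QQ)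
open Cfsg.Agent.Lib.Helper53.SA2 (BHyp)

variable {G : Type*} [Group G] [Finite G]

-- [HQ]
open Cfsg.Agent.Lib.Helper41.KS18 (hh_normal)
open Cfsg.Agent.Lib.Helper69.KS18 (ms4)
open Cfsg.Agent.Lib.Helper29.KS18 (fin)
open Cfsg.Agent.Lib.Helper16.KS18 (tr)

open Cfsg.Agent.Lib.Helper53.JC Cfsg.Agent.Lib.Helper53.JC2 Cfsg.Agent.Lib.Helper53.JC3
open Cfsg.Agent.Lib.Helper53.BA (loc1)
open Cfsg.Agent.Lib.Helper36.BA (bstr)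
open Cfsg.Agent.Lib.Helper68.JC3 (p_eq_l)
open Cfsg.Agent.Lib.Helper56.JC2 (af)
open Cfsg.Agent.Lib.Helper64.JC2 (jComponentsOutside_cj)
open Cfsg.Agent.Lib.Helper68.JC2 (pp)
open Cfsg.Agent.Lib.Helper69.JC2 (k2 k2x hyp)

theorem core54' {S : Sylow 2 G} {M T K L : Subgroup G} (c : C51 S M T K L) :
    ∃ P₁ P₂ : Subgroup G, P₁ ≠ P₂ ∧ C0 P₁ P₂ T := by
  have f := af c
  have h51 := t51' _ _ _ _ _ c
  have p₁ := pp c f h51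
  have hSM : (S : Subgroup G) ≤ M := (le_normalizer.trans (normalizer_le_normalizer_JJ _)).trans c.hMJ
  have key : ∃ K₂ L₂ : Subgroup G, IsJComponent T K₂ ∧ PPr T K₂ L₂ ∧ L ≠ L₂ ∧
      (∀ g ∈ pCoreOf 2 (K ⊔ T), g * g = 1) ∧ (∀ g ∈ pCoreOf 2 (K₂ ⊔ T), g * g = 1) := by
    by_cases hne : T = (S : Subgroup G)
    · subst hne
      obtain ⟨K₂, L₂, jc₂, hK₂L, p₂⟩ := second noBad' c
      have hLL : L ≠ L₂ := by
        rintro rfl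
        exact hK₂L (le_sup_left.trans p₂.le)
      have hZ0 : omegaCenterOf (JJ (S : Subgroup G)) = omegaCenterOf (S : Subgroup G) := by
        rcases h51.2 with h | h | h
        · exact h.1.symm
        · exact h.1.symm
        · exact h.1.symm
      have hNJ : normalizer (JJ (S : Subgroup G) : Set G) ≤ normalizer ((S : Subgroup G) : Set G) := by
        refine le_trans ?_ f.a8
        rw [← hZ0]
        exact normalizer_le_normalizer_omegaCenterOf _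
      have h := bmain (bhyp p₁ p₂ hLL) (caseI c.zn S hNJ hZ0 f.jc p₁ p₂ hLL)
        (caseI c.zn S hNJ hZ0 jc₂ p₂ p₁ hLL.symm)
      exact ⟨K₂, L₂, jc₂, p₂, hLL, h.1, h.2⟩
    · obtain ⟨x, hxS, hxN, hx2, hxL⟩ := k2x c.hTS f hne
      have h1 := k2 c.hLmax c.hKL f (normalizer_le_normalizer_JJ T hxN) hxL
      have h2 := jComponentsOutside_cj c.hK (hSM hxS)
      have h3 : cjj x T = T := cj_eq_self_iff.mpr hxN
      rw [h3] at h2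
      obtain ⟨L₂, hL₂, hKL₂, -, -, -⟩ :=
        Cfsg.Agent.S2950.result c.zn.hL c.zn.hN c.zn.hZ c.hO S M c.hM c.hMJ T c.hT _ h2
      have c2 : C51 S M T (cjj x K) L₂ := ⟨c.zn, c.hO, c.hM, c.hMJ, c.hT, c.hTS, h2, hL₂, hKL₂⟩
      have p₂ := pp c2 (af c2) (t51' _ _ _ _ _ c2)
      have hLL : L ≠ L₂ := by
        rintro rfl
        exact h1.2 (le_sup_left.trans p₂.le)
      have e₁ : ∀ g ∈ pCoreOf 2 (K ⊔ T), g * g = 1 := SA.mainSt _ _ _ (hyp f p₁ hxN hx2 hxL)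
      refine ⟨_, L₂, h1.1, p₂, hLL, e₁, ?_⟩
      have e : cjj x K ⊔ T = cjj x (K ⊔ T) := by
        have h4 : cjj x (K ⊔ T) = cjj x K ⊔ cjj x T := cj_sup K T x
        rw [h4, h3]
      rw [e]
      intro g hg
      rw [pCoreOf_cj] at hg
      obtain ⟨g', hg', rfl⟩ := hg
      show x * g' * x⁻¹ * (x * g' * x⁻¹) = 1
      have := e₁ g' hg'
      calc x * g' * x⁻¹ * (x * g' * x⁻¹) = x * (g' * g') * x⁻¹ := by group
        _ = 1 := by rw [this]; group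
  obtain ⟨K₂, L₂, jc₂, p₂, hLL, e₁, e₂⟩ := key
  have hb := bhyp p₁ p₂ hLL
  have hs := bstr loc1 _ _ _ hb e₁ e₂
  have hc : Nat.card ↥(pCoreOf 2 (K ⊔ T)) ≤ 8 ∧ Nat.card ↥(pCoreOf 2 (K₂ ⊔ T)) ≤ 8 := by
    rcases hs with h | h
    · exact ⟨by rw [h.1]; norm_num, by rw [h.2.1]; norm_num⟩
    · exact ⟨by rw [h.1], by rw [h.2.1]⟩
  have q₁ : K ⊔ T = L := p_eq_l c.zn f.jc p₁ e₁ hc.1
  have q₂ : K₂ ⊔ T = L₂ := p_eq_l c.zn jc₂ p₂ e₂ hc.2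
  rw [q₁, q₂] at hb
  rw [q₁] at e₁
  rw [q₂] at e₂
  exact ⟨L, L₂, hLL, hb, e₁, e₂, p₁.hL, p₂.hL⟩

/-- from `C0` to the conclusion of S0518. -/
theorem of_c0 {P₁ P₂ T : Subgroup G} (hne : P₁ ≠ P₂) (c : C0 P₁ P₂ T) :
    ∃ M₁ M₂ : Subgroup (HH G), M₁ ≠ M₂ ∧ IsMaximalTwoLocal M₁ ∧ IsMaximalTwoLocal M₂ ∧
      Nonempty (M₁ ≃* Equiv.Perm (Fin 4)) ∧ Nonempty (M₂ ≃* Equiv.Perm (Fin 4)) ∧
      Nat.card ↥(M₁ ⊓ M₂) = 8 := by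
  obtain ⟨t₁, t₂, D, o⟩ := Cfsg.Agent.Lib.Helper36.BA.orders loc1 c.h c.e₁ c.e₂
  have hs := bstr loc1 _ _ _ c.h c.e₁ c.e₂
  have hk : (Nat.card ↥(QQ P₁) = 4 ∧ Nat.card ↥(QQ P₂) = 4) ∨
      (Nat.card ↥(QQ P₁) = 8 ∧ Nat.card ↥(QQ P₂) = 8 ∧
        (∃ c₁ ∈ QQ P₁, P₁ ≤ centralizer {c₁} ∧ c₁ ∉ HH G) ∧
        (∃ c₂ ∈ QQ P₂, P₂ ≤ centralizer {c₂} ∧ c₂ ∉ HH G)) := by
    rcases o.card with h | h
    · exact Or.inl ⟨h.2.2.1, h.2.2.2⟩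
    · right
      have hi : Nonempty (↥P₁ ≃* Equiv.Perm (Fin 4) × Multiplicative (ZMod 2)) ∧
          Nonempty (↥P₂ ≃* Equiv.Perm (Fin 4) × Multiplicative (ZMod 2)) := by
        rcases hs with h' | h'
        · have h1 : Nat.card ↥(QQ P₁) = 4 := h'.1
          rw [h.2.2.1] at h1
          omega
        · exact h'.2.2
      have ex : ∀ P : Subgroup G, Nat.card ↥(Cfsg.Agent.Lib.Helper36.BA.CP P) = 2 →
          ∃ x ∈ QQ P, P ≤ centralizer {x} ∧ x ≠ 1 := by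
        intro P hP
        have hne : Cfsg.Agent.Lib.Helper36.BA.CP P ≠ ⊥ := by
          intro h0
          rw [h0, card_bot] at hP
          omega
        obtain ⟨⟨y, hy⟩, hy1⟩ := (Subgroup.ne_bot_iff_exists_ne_one).1 hne
        refine ⟨y, hy.1, ?_, fun h0 => hy1 (Subtype.ext h0)⟩
        intro g hg
        rw [mem_centralizer_singleton_iff]
        have h2 : y ∈ centralizer (P : Set G) := hy.2
        exact mem_centralizer_iff.1 h2 g hg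
      obtain ⟨c₁, hc₁Q, hc₁P, hc₁1⟩ := ex P₁ h.1
      obtain ⟨c₂, hc₂Q, hc₂P, hc₂1⟩ := ex P₂ h.2.1
      have cb : CB P₁ P₂ T c₁ c₂ :=
        ⟨c, h.2.2.1, h.2.2.2, hi.1, hi.2, hc₁Q, hc₂Q, hc₁P, hc₂P, hc₁1, hc₂1⟩
      exact ⟨h.2.2.1, h.2.2.2, ⟨c₁, hc₁Q, hc₁P, tr cb⟩, ⟨c₂, hc₂Q, hc₂P, tr cb.symm⟩⟩
  have hk' : (Nat.card ↥(QQ P₂) = 4 ∧ Nat.card ↥(QQ P₁) = 4) ∨
      (Nat.card ↥(QQ P₂) = 8 ∧ Nat.card ↥(QQ P₁) = 8 ∧
        (∃ c₁ ∈ QQ P₂, P₂ ≤ centralizer {c₁} ∧ c₁ ∉ HH G) ∧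
        (∃ c₂ ∈ QQ P₁, P₁ ≤ centralizer {c₂} ∧ c₂ ∉ HH G)) := by
    rcases hk with h | h
    · exact Or.inl ⟨h.2, h.1⟩
    · exact Or.inr ⟨h.2.1, h.1, h.2.2.2, h.2.2.1⟩
  exact fin hh_normal hne c.m₁ c.m₂ c.h.syl₁ c.h.syl₂ (ms4 c hk) (ms4 c.symm hk')

theorem main (zn : ZN G) (hO : pCore 2 G = ⊥) :
    (∃ K : Subgroup G, IsStronglyEmbedded K) ∨
      ∃ M₁ M₂ : Subgroup (HH G), M₁ ≠ M₂ ∧ IsMaximalTwoLocal M₁ ∧ IsMaximalTwoLocal M₂ ∧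
        Nonempty (M₁ ≃* Equiv.Perm (Fin 4)) ∧ Nonempty (M₂ ≃* Equiv.Perm (Fin 4)) ∧
        Nat.card ↥(M₁ ⊓ M₂) = 8 := by
  obtain ⟨S⟩ : Nonempty (Sylow 2 G) := inferInstance
  have : Fact (Nat.Prime 2) := ⟨Nat.prime_two⟩
  have hJne : JJ (S : Subgroup G) ≠ ⊥ :=
    Cfsg.Agent.Lib.Helper56.JC.JJ_ne_bot S.2 (S.ne_bot_of_dvd_card (even_iff_two_dvd.1 zn.hL.1))
  have hM : IsTwoLocal (normalizer (JJ (S : Subgroup G) : Set G)) :=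
    ⟨JJ (S : Subgroup G), S.isPGroup'.to_le (JJ_le _), hJne, rfl⟩
  by_cases hst : straddlingTwoSubgroups (normalizer (JJ (S : Subgroup G) : Set G)) = ∅
  · exact Or.inl ⟨_, (Cfsg.Agent.S2947.result zn.hL zn.hN zn.hZ hO S _ hM le_rfl).2 hst⟩
  · right
    obtain ⟨T, hT⟩ := Cfsg.Agent.Lib.Helper64.JC2.exists_maxStraddling (Set.nonempty_iff_ne_empty.2 hst)
    obtain ⟨S', hMJ', hTS'⟩ := Cfsg.Agent.Lib.Helper64.JC2.exists_sylow_ge (le_refl _) hT.1.1 hT.1.2.2.1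
    obtain ⟨K, hK⟩ := Cfsg.Agent.S2949.result zn.hL zn.hN zn.hZ hO S' _ hM hMJ' T hT
    obtain ⟨L, hLmax, hKL, -⟩ := Cfsg.Agent.S2950.result zn.hL zn.hN zn.hZ hO S' _ hM hMJ' T hT K hK
    have c : C51 S' _ T K L := ⟨zn, hO, hM, hMJ', hT, hTS', hK, hLmax, hKL⟩
    obtain ⟨P₁, P₂, hne, c0⟩ := core54' c
    exact of_c0 hne c0

theorem zn_of (hL : IsCharacteristicTwoType G)
    (hN : ∀ N : Subgroup G, IsTwoLocal N → Group.IsSolvable N)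
    (hZ : ∀ S : Sylow 2 G,
      centralizer {z : G | z ∈ (S : Subgroup G) ∧ z ^ 2 = 1 ∧ ∀ s ∈ (S : Subgroup G), s * z = z * s} ≤
        normalizer ((S : Subgroup G) : Set G)) : ZN G := by
  refine ⟨hL, hN, fun S => le_trans ?_ (hZ S)⟩
  apply centralizer_le
  rintro z ⟨h1, h2, h3⟩
  exact mem_omegaCenterOf_iff.2 ⟨h1, mem_centralizer_iff.2 h3, h2⟩

end Cfsg.Agent.Lib.Helper53.KS18
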