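import Cfsg.Agent.Lib.Helper53.SA2Defs

set_option autoImplicit false

/-! Ladder KS18 (S0518, the final theorem of Kurzweil-Stellmacher ch. 12): shared definitions. -/

namespace Cfsg.Agent.Lib.Helper53.KS18

open Cfsg Subgroup
open Cfsg.Agent.Lib.Helper53.JC (cjj QQ)
open Cfsg.Agent.Lib.Helper53.SA2 (BHyp)

variable {G : Type*} [Group G]

variable (G) in
/-- `O²(G)`: the subgroup generated by the elements of odd order. -/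
def HH : Subgroup G := closure {g : G | Odd (orderOf g)}

/-- The common situation: `P₁ ≠ P₂` maximal 2-locals over `T` with `O₂(P_i)` elementary abelian. -/
structure C0 (P₁ P₂ T : Subgroup G) : Prop where
  h : BHyp P₁ P₂ T
  e₁ : ∀ g ∈ QQ P₁, g * g = 1
  e₂ : ∀ g ∈ QQ P₂, g * g = 1
  m₁ : IsMaximalTwoLocal P₁
  m₂ : IsMaximalTwoLocal P₂

theorem C0.symm {P₁ P₂ T : Subgroup G} (c : C0 P₁ P₂ T) : C0 P₂ P₁ T :=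
  ⟨c.h.symm, c.e₂, c.e₁, c.m₂, c.m₁⟩

/-- Case B: `P₁ ≅ P₂ ≅ S₄ × C₂`; `c_i` is the central involution of `P_i`. -/
structure CB (P₁ P₂ T : Subgroup G) (c₁ c₂ : G) : Prop where
  c0 : C0 P₁ P₂ T
  k₁ : Nat.card ↥(QQ P₁) = 8
  k₂ : Nat.card ↥(QQ P₂) = 8
  i₁ : Nonempty (↥P₁ ≃* Equiv.Perm (Fin 4) × Multiplicative (ZMod 2))
  i₂ : Nonempty (↥P₂ ≃* Equiv.Perm (Fin 4) × Multiplicative (ZMod 2))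
  c₁Q : c₁ ∈ QQ P₁
  c₂Q : c₂ ∈ QQ P₂
  c₁P : P₁ ≤ centralizer {c₁}
  c₂P : P₂ ≤ centralizer {c₂}
  c₁1 : c₁ ≠ 1
  c₂1 : c₂ ≠ 1

theorem CB.symm {P₁ P₂ T : Subgroup G} {c₁ c₂ : G} (c : CB P₁ P₂ T c₁ c₂) : CB P₂ P₁ T c₂ c₁ :=
  ⟨c.c0.symm, c.k₂, c.k₁, c.i₂, c.i₁, c.c₂Q, c.c₁Q, c.c₂P, c.c₁P, c.c₂1, c.c₁1⟩

/-- Basic facts in case B (rung BAS). -/
structure CBF (P₁ P₂ T : Subgroup G) (c₁ c₂ : G) : Prop where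
  QT₁ : QQ P₁ ≤ T
  QT₂ : QQ P₂ ≤ T
  ind₁ : (QQ P₁).relIndex T = 2
  ind₂ : (QQ P₂).relIndex T = 2
  cardT : Nat.card ↥T = 16
  cardP₁ : Nat.card ↥P₁ = 48
  cardP₂ : Nat.card ↥P₂ = 48
  Qne : QQ P₁ ≠ QQ P₂
  sup : QQ P₁ ⊔ QQ P₂ = T
  cne : c₁ ≠ c₂
  D : ∀ g, g ∈ QQ P₁ ⊓ QQ P₂ ↔ g = 1 ∨ g = c₁ ∨ g = c₂ ∨ g = c₁ * c₂
  Dc : QQ P₁ ⊓ QQ P₂ ≤ centralizer (T : Set G)
  CQ₁ : T ⊓ centralizer (QQ P₁ : Set G) ≤ QQ P₁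
  CQ₂ : T ⊓ centralizer (QQ P₂ : Set G) ≤ QQ P₂
  NQ₁ : normalizer (QQ P₁ : Set G) = P₁
  NQ₂ : normalizer (QQ P₂ : Set G) = P₂
  Cc₁ : centralizer {c₁} = P₁
  Cc₂ : centralizer {c₂} = P₂
  inv : ∀ v ∈ T, v * v = 1 → v ∈ QQ P₁ ∨ v ∈ QQ P₂
  max₁ : ∀ R : Subgroup G, IsPGroup 2 ↥R → T ≤ R → R ≤ P₁ → R = T
  max₂ : ∀ R : Subgroup G, IsPGroup 2 ↥R → T ≤ R → R ≤ P₂ → R = T
  nc₁ : c₁ ∉ ⁅P₁, P₁⁆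
  nc₂ : c₂ ∉ ⁅P₂, P₂⁆
  zc : c₁ * c₂ ∈ ⁅T, T⁆

/-- The structure of a Sylow 2-subgroup `S ≥ T` of `G` in case B (rung SYL). -/
structure SF (P₁ P₂ T S : Subgroup G) : Prop where
  nT : S ≤ normalizer (T : Set G)
  sw₁ : ∀ a ∈ S, a ∉ T → cjj a (QQ P₁) = QQ P₂
  sw₂ : ∀ a ∈ S, a ∉ T → cjj a (QQ P₂) = QQ P₁
  ind : ∀ a ∈ S, ∀ b ∈ S, a ∉ T → b ∉ T → a * b ∈ T

end Cfsg.Agent.Lib.Helper53.KS18
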