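import Cfsg.Agent.Lib.Helper53.Large

set_option autoImplicit false

namespace Cfsg.Agent.Lib.Helper53

open Cfsg
open scoped commutatorElement

variable {G : Type*} [Group G]

theorem comm_eq_one_of_coprime {p : ℕ} {x a : G} (hc : Commute ⁅x, a⁆ x)
    (hx : (orderOf x).Coprime p) {k : ℕ} (hp : ⁅x, a⁆ ^ (p ^ k) = 1) : ⁅x, a⁆ = 1 := by
  have key : ∀ n : ℕ, x ^ n * a * (x ^ n)⁻¹ = ⁅x, a⁆ ^ n * a := by
    intro n
    induction n with
    | zero => simp
    | succ n ih =>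
      have h1 : x ^ (n + 1) * a * (x ^ (n + 1))⁻¹ = x * (x ^ n * a * (x ^ n)⁻¹) * x⁻¹ := by
        rw [pow_succ']; group
      rw [h1, ih]
      have h2 : x * (⁅x, a⁆ ^ n * a) * x⁻¹ = (x * ⁅x, a⁆ ^ n * x⁻¹) * (x * a * x⁻¹) := by group
      have h3 : x * ⁅x, a⁆ ^ n * x⁻¹ = ⁅x, a⁆ ^ n := by
        have := (hc.pow_left n).eq
        rw [← this]; group
      have h4 : x * a * x⁻¹ = ⁅x, a⁆ * a := by rw [commutatorElement_def]; group
      rw [h2, h3, h4, pow_succ, mul_assoc]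
  have h1 := key (orderOf x)
  rw [pow_orderOf_eq_one] at h1
  have h2 : ⁅x, a⁆ ^ orderOf x = 1 := by
    have : ⁅x, a⁆ ^ orderOf x * a = 1 * a := by rw [← h1]; simp
    exact mul_right_cancel this
  have h3 : orderOf ⁅x, a⁆ ∣ 1 := by
    have hcop : (orderOf x).Coprime (p ^ k) := Nat.Coprime.pow_right k hx
    rw [← hcop.gcd_eq_one]
    exact Nat.dvd_gcd (orderOf_dvd_of_pow_eq_one h2) (orderOf_dvd_of_pow_eq_one hp)
  exact orderOf_eq_one_iff.1 (Nat.dvd_one.1 h3)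

theorem isPGroup_of_forall_coprime [Finite G] {p : ℕ} [Fact p.Prime] {D : Subgroup G}
    (h : ∀ d ∈ D, (orderOf d).Coprime p → d = 1) : IsPGroup p D := by
  intro d
  obtain ⟨n, hn⟩ := exists_pow_coprime (p := p) (d : G)
  refine ⟨n, ?_⟩
  apply Subtype.ext
  simpa using h _ (D.pow_mem d.2 _) hn

theorem eq_one_of_isPGroup_of_coprime {p : ℕ} {Q : Subgroup G} (hQ : IsPGroup p Q) {d : G}
    (hd : d ∈ Q) (hc : (orderOf d).Coprime p) : d = 1 := by
  obtain ⟨k, hk⟩ := hQ ⟨d, hd⟩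
  have hk' : d ^ (p ^ k) = 1 := by simpa using congrArg Subtype.val hk
  have h3 : orderOf d ∣ 1 := by
    have hcop : (orderOf d).Coprime (p ^ k) := Nat.Coprime.pow_right k hc
    rw [← hcop.gcd_eq_one]
    exact Nat.dvd_gcd dvd_rfl (orderOf_dvd_of_pow_eq_one hk')
  exact orderOf_eq_one_iff.1 (Nat.dvd_one.1 h3)

/-- a `p'`-element `d` normalising the `p`-group `Q` with `[Q,d]` centralised by `d`
centralises `Q` -/
theorem mem_centralizer_of_coprime {p : ℕ} {Q : Subgroup G} (hQ : IsPGroup p Q) {d : G}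
    (hc : (orderOf d).Coprime p) (h1 : ∀ a ∈ Q, ⁅d, a⁆ ∈ Q) (h2 : ∀ a ∈ Q, Commute ⁅d, a⁆ d) :
    d ∈ Subgroup.centralizer (Q : Set G) := by
  rw [Subgroup.mem_centralizer_iff]
  intro a ha
  obtain ⟨k, hk⟩ := hQ ⟨⁅d, a⁆, h1 a ha⟩
  have hk' : ⁅d, a⁆ ^ (p ^ k) = 1 := by simpa using congrArg Subtype.val hk
  have := comm_eq_one_of_coprime (h2 a ha) hc hk'
  exact (commutatorElement_eq_one_iff_mul_comm.1 this).symm

theorem inf_le_pCoreOf_of_normalizes [Finite G] {p : ℕ} [Fact p.Prime] {Q L D : Subgroup G}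
    (hQ : IsPGroup p Q) (hQL : Q ≤ L) (hLD : L ≤ Subgroup.normalizer (D : Set G))
    (hDQ : D ≤ Subgroup.normalizer (Q : Set G)) : Q ⊓ D ≤ pCoreOf p L := by
  set E : Subgroup G := ⨆ l : L, (Q.map (MulAut.conj (l : G)).toMonoidHom ⊓ D) with hE
  have h1 : Q ⊓ D ≤ E := by
    have := le_iSup (fun l : L => (Q.map (MulAut.conj (l : G)).toMonoidHom ⊓ D)) 1
    have e : Q.map (MulAut.conj ((1 : L) : G)).toMonoidHom = Q := cj_one Q
    simp only [e] at this
    exact this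
  apply h1.trans
  apply le_pCoreOf
  · apply iSup_le
    intro l
    exact inf_le_left.trans (cj_le_of_le_of_mem hQL l.2)
  · intro l hl
    rw [← cj_eq_self_iff]
    apply cj_eq_of_le
    rw [hE, Subgroup.map_iSup]
    apply iSup_le
    intro l'
    rw [cj_inf, cj_cj, cj_eq_self_iff.2 (hLD hl)]
    have := le_iSup (fun l : L => (Q.map (MulAut.conj (l : G)).toMonoidHom ⊓ D))
      (⟨l * l', L.mul_mem hl l'.2⟩ : L)
    exact this
  · apply (pCoreOf_isPGroup p D).to_le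
    apply iSup_le
    intro l
    apply le_pCoreOf inf_le_right
    · apply le_normalizer_inf _ Subgroup.le_normalizer
      rw [normalizer_cj]
      have := cj_mono (l : G) hDQ
      rwa [cj_eq_self_iff.2 (hLD l.2)] at this
    · exact (isPGroup_cj hQ _).to_inf_left

theorem commutator_le_and_isPGroup_of_normalizes [Finite G] {p : ℕ} [Fact p.Prime]
    {Q L D : Subgroup G} (hQ : IsPGroup p Q) (hCQ : Subgroup.centralizer (Q : Set G) ≤ Q)
    (hQL : Q ≤ L) (hLD : L ≤ Subgroup.normalizer (D : Set G))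
    (hDQ : D ≤ Subgroup.normalizer (Q : Set G))
    (hDP : D ≤ Subgroup.centralizer (pCoreOf p L : Set G)) :
    ⁅Q, D⁆ ≤ Q ⊓ pCoreOf p L ∧ IsPGroup p D := by
  have h1 := inf_le_pCoreOf_of_normalizes hQ hQL hLD hDQ
  have h2 : ⁅Q, D⁆ ≤ Q ⊓ D :=
    le_inf (Subgroup.le_normalizer_iff_commutator_le_left.1 hDQ)
      (Subgroup.le_normalizer_iff_commutator_le_right.1 (hQL.trans hLD))
  refine ⟨le_inf (h2.trans inf_le_left) (h2.trans h1), ?_⟩
  apply isPGroup_of_forall_coprime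
  intro d hd hc
  have h3 : ∀ a ∈ Q, ⁅d, a⁆ ∈ ⁅Q, D⁆ := by
    intro a ha
    rw [Subgroup.commutator_comm]
    exact Subgroup.commutator_mem_commutator hd ha
  have h4 : d ∈ Subgroup.centralizer (Q : Set G) := by
    apply mem_centralizer_of_coprime hQ hc
    · intro a ha
      exact (h2 (h3 a ha)).1
    · intro a ha
      exact (Subgroup.mem_centralizer_iff.1 (hDP hd) _ (h1 (h2 (h3 a ha))))
  exact eq_one_of_isPGroup_of_coprime hQ (hCQ h4) hc

end Cfsg.Agent.Lib.Helper53
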