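import Cfsg.Agent.Lib.Helper53.Large2

set_option autoImplicit false

namespace Cfsg.Agent.Lib.Helper53

open Cfsg
open scoped commutatorElement

variable {G : Type*} [Group G]

theorem pCore_ne_bot_iff {p : ℕ} {L : Subgroup G} : pCore p ↥L ≠ ⊥ ↔ pCoreOf p L ≠ ⊥ := by
  unfold pCoreOf
  rw [Ne, Ne, Subgroup.map_eq_bot_iff_of_injective _ L.subtype_injective]

theorem le_normalizer_centralizer_pCoreOf (p : ℕ) (L : Subgroup G) :
    L ≤ Subgroup.normalizer ((Subgroup.centralizer (pCoreOf p L : Set G) : Subgroup G) : Set G) :=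
  (le_normalizer_pCoreOf p L).trans (normalizer_le_normalizer_centralizer _)

theorem large_centralizer_le_normalizer [Finite G] {p : ℕ} [Fact p.Prime] {Q Y : Subgroup G}
    (hL : IsLarge Q) (hQp : IsPGroup p Q) (hYp : IsPGroup p Y) (hY1 : Y ≠ ⊥)
    (hQY : Q ≤ Subgroup.normalizer (Y : Set G)) :
    Subgroup.centralizer (Y : Set G) ≤ Subgroup.normalizer (Q : Set G) := by
  have h1 := inf_centralizer_ne_bot hQp hYp hY1 hQY
  refine le_trans ?_ (hL.2 _ inf_le_right h1)
  exact (Subgroup.centralizer_le inf_le_left).trans (Subgroup.centralizer_le_normalizer _)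

theorem large_main [Finite G] {p : ℕ} [Fact p.Prime] {Q L : Subgroup G}
    (hL : IsLarge Q) (hQp : IsPGroup p Q) (hQL : Q ≤ L) (hP : pCoreOf p L ≠ ⊥) :
    ⁅Q, Subgroup.centralizer (pCoreOf p L : Set G)⁆ ≤ Q ⊓ pCoreOf p L ∧
      IsPGroup p (Subgroup.centralizer (pCoreOf p L : Set G)) :=
  commutator_le_and_isPGroup_of_normalizes hQp hL.1 hQL (le_normalizer_centralizer_pCoreOf p L)
    (large_centralizer_le_normalizer hL hQp (pCoreOf_isPGroup p L) hP
      (hQL.trans (le_normalizer_pCoreOf p L))) le_rfl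

theorem charP_of_isPGroup_centralizer {p : ℕ} {L : Subgroup G}
    (h : IsPGroup p (Subgroup.centralizer (pCoreOf p L : Set G))) :
    L ⊓ Subgroup.centralizer (pCoreOf p L : Set G) ≤ pCoreOf p L :=
  le_pCoreOf inf_le_left
    (le_normalizer_inf Subgroup.le_normalizer (le_normalizer_centralizer_pCoreOf p L))
    h.to_inf_right

theorem large_weakClosure_dichotomy [Finite G] {p : ℕ} [Fact p.Prime] {Q L : Subgroup G}
    (hL : IsLarge Q) (hQp : IsPGroup p Q) (hQ1 : Q ≠ ⊥) (hQL : Q ≤ L) :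
    weakClosure Q L = Q ∨ Subgroup.centralizer (weakClosure Q L : Set G) = ⊥ := by
  by_cases h : ∀ g : G, Q.map (MulAut.conj g).toMonoidHom ≤ L →
      Q.map (MulAut.conj g).toMonoidHom = Q
  · left
    exact le_antisymm (weakClosure_le_iff.2 fun g hg => (h g hg).le) (le_weakClosure hQL)
  · right
    push Not at h
    obtain ⟨g, hg, hne⟩ := h
    have hgN : g ∉ Subgroup.normalizer (Q : Set G) := fun hh => hne (cj_eq_self_iff.2 hh)
    rw [eq_bot_iff, ← IsLarge_centralizer_inf hL hQp hQ1 hgN]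
    exact le_inf (Subgroup.centralizer_le (le_weakClosure hQL))
      (Subgroup.centralizer_le (cj_le_weakClosure hg))

theorem large_parabolic [Finite G] {p : ℕ} [Fact p.Prime] {Q R : Subgroup G}
    (hL : IsLarge Q) (hQp : IsPGroup p Q) (hR : IsParabolic p R) (hP : pCoreOf p R ≠ ⊥) :
    Subgroup.centralizer (pCoreOf p R : Set G) ≤ pCoreOf p R := by
  obtain ⟨T, hTR⟩ := hR
  obtain ⟨T₁, hQT₁⟩ := hQp.exists_le_sylow
  obtain ⟨k, -, hk⟩ := (isSyl_top_of_sylow T₁).exists_conj (isSyl_top_of_sylow T)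
  have hQk : Q.map (MulAut.conj k).toMonoidHom ≤ R := by
    refine le_trans ?_ hTR
    rw [hk]
    exact cj_mono k hQT₁
  have hC := (large_main (IsLarge_cj hL k) (isPGroup_cj hQp k) hQk hP).2
  have hn := le_normalizer_centralizer_pCoreOf p R
  have h1 : IsPGroup p (Subgroup.centralizer (pCoreOf p R : Set G) ⊔ (T : Subgroup G) : Subgroup G) :=
    hC.to_sup_of_normal_left' T.isPGroup' (hTR.trans hn)
  have h2 := T.is_maximal' h1 le_sup_right
  have h3 : Subgroup.centralizer (pCoreOf p R : Set G) ≤ R := by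
    refine le_trans ?_ hTR
    rw [← h2]
    exact le_sup_left
  exact le_pCoreOf h3 hn hC

end Cfsg.Agent.Lib.Helper53
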