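import Cfsg.Agent.Lib.Helper53.SubnSyl3
import Cfsg.Agent.Lib.Helper53.FrakMEx
import Cfsg.Agent.Lib.Helper37.Kieler
import Cfsg.Agent.Lib.Helper55.RelSN

set_option autoImplicit false
set_option maxHeartbeats 400000

namespace Cfsg.Agent.Lib.Helper53

open Cfsg
open Cfsg.Agent.Lib.Helper37 (CharP kieler_step mem_omegaOne_center_iff
  normalizer_le_normalizer_omegaOne_center)
open Cfsg.Agent.Lib.Helper55 (SN)

universe u

section
variable {G : Type u} [Group G] [Finite G] {p : ℕ} [Fact p.Prime]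

/-- `Ω₁Z(S)` -/
abbrev oz (p : ℕ) (S : Subgroup G) : Subgroup G :=
  omegaOne p (S ⊓ Subgroup.centralizer (S : Set G))

omit [Finite G] [Fact p.Prime] in
theorem oz_le (S : Subgroup G) : oz p S ≤ S := fun _ hx => ((mem_omegaOne_center_iff p S _).1 hx).1

theorem oz_ne_bot {S : Subgroup G} (hS : IsPGroup p S) (h1 : S ≠ ⊥) : oz p S ≠ ⊥ :=
  omegaOne_ne_bot (hS.to_le inf_le_left) (inf_centralizer_ne_bot hS hS h1 Subgroup.le_normalizer)

omit [Finite G] [Fact p.Prime] in
theorem le_centralizer_oz (S : Subgroup G) : S ≤ Subgroup.centralizer (oz p S : Set G) := by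
  intro s hs
  rw [Subgroup.mem_centralizer_iff]
  intro z hz
  exact (((mem_omegaOne_center_iff p S z).1 hz).2.1 s hs).symm

/-- Kieler lemma, normal step, for groups all of whose `p`-locals have characteristic `p`. -/
theorem kieler_local_step {K L S : Subgroup G}
    (hK : ∀ U : Subgroup G, U ≤ K → IsPGroup p U → U ≠ ⊥ →
      CharP p ↥(K ⊓ Subgroup.normalizer (U : Set G)))
    (hS : IsSyl p S K) (hLK : L ≤ K) (hn : K ≤ Subgroup.normalizer (L : Set G))
    (hne : S ⊓ L ≠ ⊥) :
    L ⊓ Subgroup.centralizer (oz p S : Set G) = L ⊓ Subgroup.centralizer (oz p (S ⊓ L) : Set G) := by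
  have hS1 : S ≠ ⊥ := by
    rintro rfl
    exact hne (bot_inf_eq _)
  have aux : ∀ U : Subgroup G, U ≤ K → IsPGroup p U → U ≠ ⊥ →
      S ≤ Subgroup.normalizer (U : Set G) →
      (L ⊓ (K ⊓ Subgroup.normalizer (U : Set G))) ⊓ Subgroup.centralizer (oz p S : Set G)
        = (L ⊓ (K ⊓ Subgroup.normalizer (U : Set G))) ⊓
          Subgroup.centralizer (oz p (S ⊓ L) : Set G) := by
    intro U hUK hUp hU1 hSU
    have h1 := kieler_step (hK U hUK hUp hU1) (hS.of_le (le_inf hS.le hSU) inf_le_left)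
      (L := L ⊓ (K ⊓ Subgroup.normalizer (U : Set G))) inf_le_right
      (le_normalizer_inf (inf_le_left.trans hn) Subgroup.le_normalizer)
    have h2 : S ⊓ (L ⊓ (K ⊓ Subgroup.normalizer (U : Set G))) = S ⊓ L :=
      le_antisymm (inf_le_inf_left S inf_le_left)
        (le_inf inf_le_left (le_inf inf_le_right (inf_le_left.trans (le_inf hS.le hSU))))
    rwa [h2] at h1
  have hSLn : S ≤ Subgroup.normalizer ((S ⊓ L : Subgroup G) : Set G) :=
    le_normalizer_inf Subgroup.le_normalizer (hS.le.trans hn)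
  have a1 := aux (oz p S) ((oz_le S).trans hS.le) (hS.isPGroup.to_le (oz_le S))
    (oz_ne_bot hS.isPGroup hS1)
    (Subgroup.le_normalizer.trans (normalizer_le_normalizer_omegaOne_center p S))
  have a2 := aux (oz p (S ⊓ L)) (((oz_le _).trans inf_le_left).trans hS.le)
    (hS.isPGroup.to_le ((oz_le _).trans inf_le_left))
    (oz_ne_bot (hS.isPGroup.to_le inf_le_left) hne)
    (hSLn.trans (normalizer_le_normalizer_omegaOne_center p _))
  apply le_antisymm
  · rintro x ⟨hxL, hxC⟩
    have : x ∈ (L ⊓ (K ⊓ Subgroup.normalizer (oz p S : Set G))) ⊓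
        Subgroup.centralizer (oz p S : Set G) :=
      ⟨⟨hxL, hLK hxL, Subgroup.centralizer_le_normalizer _ hxC⟩, hxC⟩
    rw [a1] at this
    exact ⟨hxL, this.2⟩
  · rintro x ⟨hxL, hxC⟩
    have : x ∈ (L ⊓ (K ⊓ Subgroup.normalizer (oz p (S ⊓ L) : Set G))) ⊓
        Subgroup.centralizer (oz p (S ⊓ L) : Set G) :=
      ⟨⟨hxL, hLK hxL, Subgroup.centralizer_le_normalizer _ hxC⟩, hxC⟩
    rw [← a2] at this
    exact ⟨hxL, this.2⟩

/-- Kieler lemma for groups of local characteristic `p`. -/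
theorem kieler_local (hG : IsOfLocalCharacteristic p G) {T L : Subgroup G} (hT : IsSyl p T ⊤)
    (hL : L.IsSubnormal) (hne : T ⊓ L ≠ ⊥) :
    L ⊓ Subgroup.centralizer (oz p T : Set G) = L ⊓ Subgroup.centralizer (oz p (T ⊓ L) : Set G) := by
  induction hL with
  | top => rw [inf_top_eq]
  | step L K hLK hKsn hN ih =>
    have hneK : T ⊓ K ≠ ⊥ := by
      intro h
      apply hne
      rw [eq_bot_iff, ← h]
      exact inf_le_inf_left T hLK
    have h1 := ih hneK
    have hK : ∀ U : Subgroup G, U ≤ K → IsPGroup p U → U ≠ ⊥ →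
        CharP p ↥(K ⊓ Subgroup.normalizer (U : Set G)) := by
      intro U _ hUp hU1
      apply CharP.of_subnormal_le inf_le_right _ (hG.2 U hUp hU1)
      rw [Subgroup.inf_subgroupOf_right]
      exact hKsn.subgroupOf
    have h2 := kieler_local_step hK (isSyl_inf_of_isSubnormal hT hKsn) hLK
      ((Subgroup.normal_subgroupOf_iff_le_normalizer hLK).1 hN)
      (by rwa [inf_assoc, inf_eq_right.2 hLK])
    rw [inf_assoc, inf_eq_right.2 hLK] at h2
    rw [← h2, ← inf_eq_left.2 hLK, inf_assoc, h1, ← inf_assoc]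

end

end Cfsg.Agent.Lib.Helper53
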