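import Cfsg.Agent.Lib.Helper53.PointStab

set_option autoImplicit false
set_option maxHeartbeats 400000

namespace Cfsg.Agent.Lib.Helper53

open Cfsg
open Cfsg.Agent.Lib.Helper37 (CharP kieler_step mem_omegaOne_center_iff
  normalizer_le_normalizer_omegaOne_center)
open Cfsg.Agent.Lib.Helper55 (SN)

universe u

section
variable {G : Type u} [Group G] [Finite G] {p : ℕ} [Fact p.Prime]

/-- `O^{p'}(A)`: generated by the `p`-elements of `A` -/
def pGen (p : ℕ) (A : Subgroup G) : Subgroup G :=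
  Subgroup.closure {x : G | x ∈ A ∧ ∃ k : ℕ, orderOf x = p ^ k}

omit [Finite G] [Fact p.Prime] in
theorem pGen_le (A : Subgroup G) : pGen p A ≤ A :=
  (Subgroup.closure_le _).2 fun _ hx => hx.1

omit [Finite G] [Fact p.Prime] in
theorem pGen_mono {A B : Subgroup G} (h : A ≤ B) : pGen p A ≤ pGen p B :=
  Subgroup.closure_mono fun _ hx => ⟨h hx.1, hx.2⟩

omit [Fact p.Prime] in
theorem normalizer_le_normalizer_pGen (A : Subgroup G) :
    Subgroup.normalizer (A : Set G) ≤ Subgroup.normalizer (pGen p A : Set G) := by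
  intro g hg
  rw [← cj_eq_self_iff]
  apply cj_eq_of_le
  unfold pGen
  rw [MonoidHom.map_closure, Subgroup.closure_le]
  rintro _ ⟨x, ⟨hx, k, hk⟩, rfl⟩
  apply Subgroup.subset_closure
  refine ⟨?_, k, ?_⟩
  · rw [← cj_eq_self_iff.2 hg]
    exact cj_mem g hx
  · rw [← hk]
    exact (MulAut.conj g).orderOf_eq x

theorem le_pGen {A S : Subgroup G} (hS : IsPGroup p S) (hSA : S ≤ A) : S ≤ pGen p A := by
  intro x hx
  apply Subgroup.subset_closure
  refine ⟨hSA hx, ?_⟩
  obtain ⟨k, hk⟩ := IsPGroup.iff_orderOf.1 hS ⟨x, hx⟩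
  exact ⟨k, by rw [← hk, Subgroup.orderOf_mk]⟩

theorem isPGroup_zpowers_of_orderOf {x : G} {k : ℕ} (h : orderOf x = p ^ k) :
    IsPGroup p (Subgroup.zpowers x) := by
  apply IsPGroup.of_card (n := k)
  rw [Nat.card_zpowers, h]

theorem pGen_eq_bot {A : Subgroup G} (h : IsSyl p ⊥ A) : pGen p A = ⊥ := by
  unfold pGen
  rw [Subgroup.closure_eq_bot_iff]
  rintro x ⟨hx, k, hk⟩
  have h1 := h.eq_of_le (A := Subgroup.zpowers x) (by rwa [Subgroup.zpowers_le])
    (isPGroup_zpowers_of_orderOf hk) bot_le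
  rw [Subgroup.zpowers_eq_bot] at h1
  exact h1

/-- a subnormal subgroup containing a Sylow `p`-subgroup contains all `p`-elements -/
theorem SN_pGen_le {X W S : Subgroup G} (h : SN X W) (hSX : S ≤ X) (hS : IsSyl p S W) :
    pGen p W ≤ X := by
  induction h with
  | refl => exact pGen_le _
  | step X Y E hXY hN hYE ih =>
    have h1 := ih (hSX.trans hXY) hS
    unfold pGen
    rw [Subgroup.closure_le]
    rintro y ⟨hy, k, hk⟩
    have hyY : y ∈ Y := h1 (Subgroup.subset_closure ⟨hy, k, hk⟩)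
    obtain ⟨S₁, hS₁, hyS₁⟩ := exists_isSyl_ge (p := p) (A := Subgroup.zpowers y) (K := Y)
      (by rwa [Subgroup.zpowers_le]) (isPGroup_zpowers_of_orderOf hk)
    obtain ⟨c, hc, rfl⟩ := (hS.of_le (hSX.trans hXY) hYE.le).exists_conj hS₁
    have h2 : S.map (MulAut.conj c).toMonoidHom ≤ X := by
      rw [← cj_eq_self_iff.2 (hN hc)]
      exact cj_mono c hSX
    exact h2 (hyS₁ (Subgroup.mem_zpowers y))

theorem SN_top_of_isSubnormal {L : Subgroup G} (h : L.IsSubnormal) : SN L ⊤ :=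
  SN.of_isSubnormal le_top h.subgroupOf

omit [Finite G] [Fact p.Prime] in
theorem pointStabilizer_eq (E T : Subgroup G) :
    pointStabilizer p E T = pGen p (E ⊓ Subgroup.centralizer (oz p T : Set G)) := rfl

theorem pointStabilizer_eq_pGen (hG : IsOfLocalCharacteristic p G) {T E : Subgroup G}
    (hT : IsSyl p T ⊤) (hE : E.IsSubnormal) :
    pointStabilizer p E (T ⊓ E) = pGen p (E ⊓ Subgroup.centralizer (oz p T : Set G)) := by
  rw [pointStabilizer_eq]
  by_cases hne : T ⊓ E = ⊥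
  · have hs := isSyl_inf_of_isSubnormal hT hE
    rw [hne] at hs
    have h1 : ∀ F : Subgroup G, pGen p (E ⊓ F) = ⊥ := fun F =>
      pGen_eq_bot (hs.of_le bot_le inf_le_left)
    rw [h1, h1]
  · rw [kieler_local hG hT hE hne]

theorem pointStabilizer_sup (hG : IsOfLocalCharacteristic p G) {T L₁ L₂ : Subgroup G}
    (hT : IsSyl p T ⊤) (h₁ : L₁.IsSubnormal) (h₂ : L₂.IsSubnormal) :
    pointStabilizer p (L₁ ⊔ L₂) (T ⊓ (L₁ ⊔ L₂))
      = pointStabilizer p L₁ (T ⊓ L₁) ⊔ pointStabilizer p L₂ (T ⊓ L₂) := by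
  have hL := Cfsg.Agent.Lib.Helper12.isSubnormal_sup h₁ h₂
  rw [pointStabilizer_eq_pGen hG hT hL, pointStabilizer_eq_pGen hG hT h₁,
    pointStabilizer_eq_pGen hG hT h₂]
  set C := Subgroup.centralizer (oz p T : Set G) with hC
  have hTC : T ≤ C := le_centralizer_oz T
  apply le_antisymm
  · have sn : ∀ E : Subgroup G, E.IsSubnormal → E ≤ L₁ ⊔ L₂ →
        SN (pGen p (E ⊓ C)) ((L₁ ⊔ L₂) ⊓ C) := by
      intro E hE hEL
      have h3 := (SN_top_of_isSubnormal hE).inf ((L₁ ⊔ L₂) ⊓ C)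
      rw [top_inf_eq, ← inf_assoc, inf_eq_left.2 hEL] at h3
      exact SN.step _ _ _ (pGen_le _)
        (Subgroup.le_normalizer.trans (normalizer_le_normalizer_pGen _)) h3
    apply SN_pGen_le (S := T ⊓ (L₁ ⊔ L₂)) ((sn L₁ h₁ le_sup_left).sup (sn L₂ h₂ le_sup_right))
    · rw [subn_syl hT h₁ h₂]
      apply sup_le_sup
      · exact le_pGen (hT.isPGroup.to_le inf_le_left) (le_inf inf_le_right (inf_le_left.trans hTC))
      · exact le_pGen (hT.isPGroup.to_le inf_le_left) (le_inf inf_le_right (inf_le_left.trans hTC))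
    · exact (isSyl_inf_of_isSubnormal hT hL).of_le (le_inf inf_le_right (inf_le_left.trans hTC))
        inf_le_left
  · exact sup_le (pGen_mono (inf_le_inf_right C le_sup_left))
      (pGen_mono (inf_le_inf_right C le_sup_right))

end

end Cfsg.Agent.Lib.Helper53
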