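import Cfsg.Agent.Lib.Helper53.SADefs

set_option autoImplicit false

/-! Assembly of the symmetric amalgam theorem from the rungs. -/

namespace Cfsg.Agent.Lib.Helper53.SA

open Cfsg Subgroup
open Cfsg.Agent.Lib.Helper53.JC (cjj QQ)

variable {G : Type*} [Group G]

/-- abstract part: in a `Geo` there is a critical edge. -/
theorem exists_crit_edge (h3 : B3St G) (h2 : B2St G) {Pc Qc Zc : G → Subgroup G} {Adj : G → G → Prop}
    (h : Geo Pc Qc Zc Adj) : ∃ g k, Adj g k ∧ ¬ Zc g ≤ Qc k := by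
  classical
  have hex : ∃ n : ℕ, ∃ δ : ℕ → G, Crit Qc Zc Adj n δ := by
    obtain ⟨n, δ, h1, h2⟩ := h.exc
    exact ⟨n, δ, h1, h2⟩
  obtain ⟨δ, hδ⟩ := Nat.find_spec hex
  have hmin : Min Qc Zc Adj (Nat.find hex) := by
    intro n hn δ' hw
    by_contra hcon
    exact Nat.find_min hex hn ⟨δ', hw, hcon⟩
  generalize Nat.find hex = b at hδ hmin
  have hb3 : b < 3 := h3 Pc Qc Zc Adj h b δ hmin hδ
  have hb0 : b ≠ 0 := by
    rintro rfl
    exact hδ.2 (h.ZQ _)
  have hb2 : b ≠ 2 := by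
    rintro rfl
    exact h2 Pc Qc Zc Adj h δ hmin hδ
  have hb1 : b = 1 := by omega
  subst hb1
  exact ⟨δ 0, δ 1, hδ.1 0 (by norm_num), hδ.2⟩

theorem main_of (hg : GeoSt G) (he : EndSt G) (h3 : B3St G) (h2 : B2St G) : MainSt G := by
  intro P T x hyp
  exact he P T x hyp (exists_crit_edge h3 h2 (hg P T x hyp))

end Cfsg.Agent.Lib.Helper53.SA
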