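import Cfsg.Agent.Lib.Helper53.TransFam
import Cfsg.Agent.Lib.Helper12.Subnormal
import Cfsg.Agent.Lib.Helper2.Gaschutz

set_option autoImplicit false
set_option maxHeartbeats 400000

namespace Cfsg.Agent.Lib.Helper53

open Cfsg Cfsg.Agent.Lib.Helper12

universe u

section
variable {G : Type u} [Group G] [Finite G] {p : ℕ} [Fact p.Prime]

theorem isSyl_inf_of_isSubnormal {S J : Subgroup G} (hS : IsSyl p S ⊤) (hJ : J.IsSubnormal) :
    IsSyl p (S ⊓ J) J := by
  induction hJ with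
  | top => rwa [inf_top_eq]
  | step H K h_le hSubn hN ih =>
    have h1 := ih.inf_normal h_le ((Subgroup.normal_subgroupOf_iff_le_normalizer h_le).mp hN)
    rwa [inf_assoc, inf_eq_right.mpr h_le] at h1

/-- `S ∩ AB = (S ∩ A)(S ∩ B)` if `A` normalises `B` and `S ∩ A` is Sylow in `A`. -/
theorem syl_sup_le {A B S : Subgroup G} (hS : IsPGroup p S)
    (hAB : A ≤ Subgroup.normalizer (B : Set G)) (hA : IsSyl p (S ⊓ A) A) :
    S ⊓ (A ⊔ B) ≤ (S ⊓ A) ⊔ (S ⊓ B) := by
  set D := S ⊓ (A ⊔ B) with hD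
  have hDn : D ≤ Subgroup.normalizer (B : Set G) :=
    inf_le_right.trans (sup_le hAB Subgroup.le_normalizer)
  have hDp : IsPGroup p D := hS.to_le inf_le_left
  have h1 : (B ⊓ A) ⊔ (S ⊓ A) = (D ⊔ B) ⊓ A := by
    apply sup_isSyl_eq (p := p) (le_inf (inf_le_left.trans le_sup_right) inf_le_right)
    · exact inf_le_right.trans (le_normalizer_inf hAB Subgroup.le_normalizer)
    · rintro x ⟨hx1, hx2⟩
      obtain ⟨k, hk⟩ := exists_pow_mem_of_mem_sup hDn hDp hx1
      exact ⟨k, hk, A.pow_mem hx2 _⟩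
    · apply hA.of_le _ inf_le_right
      exact le_inf ((inf_le_inf_left S le_sup_left).trans le_sup_left) inf_le_right
  have h2 : D ⊔ B ≤ ((D ⊔ B) ⊓ A) ⊔ B := by
    have := inf_sup_le_of_le (X := D ⊔ B) (E := A) (P := B) le_sup_right hAB
    rwa [inf_eq_left.2 (sup_le inf_le_right le_sup_right)] at this
  have h3 : D ≤ (S ⊓ A) ⊔ B := by
    refine (le_sup_left.trans h2).trans ?_
    rw [← h1]
    exact sup_le (sup_le (inf_le_left.trans le_sup_right) le_sup_left) le_sup_right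
  intro x hx
  obtain ⟨a, ha, b, hb, rfl⟩ := (mem_sup_of_le_normalizer (inf_le_right.trans hAB)).1 (h3 hx)
  have hbS : b ∈ S := by
    have := S.mul_mem (S.inv_mem ha.1) hx.1
    simpa using this
  exact Subgroup.mul_mem_sup ha ⟨hbS, hb⟩

theorem normal_of_le_center' {X : Subgroup G} (h : X ≤ Subgroup.center G) : X.Normal := by
  constructor
  intro x hx g
  have := (Subgroup.mem_center_iff.1 (h hx)) g
  rw [this, mul_inv_cancel_right]
  exact hx

end

end Cfsg.Agent.Lib.Helper53
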