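import Cfsg.Agent.Lib.Helper53.SubnSyl

set_option autoImplicit false
set_option maxHeartbeats 400000

namespace Cfsg.Agent.Lib.Helper53

open Cfsg Cfsg.Agent.Lib.Helper12

universe u

section
variable {G : Type u} [Group G] [Finite G] {p : ℕ} [Fact p.Prime]

theorem isSyl_map_mk {S : Subgroup G} (hS : IsSyl p S ⊤) (M : Subgroup G) [M.Normal] :
    IsSyl p (S.map (QuotientGroup.mk' M)) ⊤ := by
  have := isSyl_top_of_sylow (hS.toSylowTop.mapSurjective (QuotientGroup.mk'_surjective M))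
  rwa [Sylow.coe_mapSurjective] at this

/-- the case `A₁ ⊔ A₂ = ⊤`, step modulo a minimal normal subgroup -/
theorem subn_syl_step
    (ih : ∀ M : Subgroup G, ∀ _ : M.Normal, M ≠ ⊥ → ∀ S' : Subgroup (G ⧸ M), IsSyl p S' ⊤ →
      ∀ B₁ B₂ : Subgroup (G ⧸ M), B₁.IsSubnormal → B₂.IsSubnormal →
        S' ⊓ (B₁ ⊔ B₂) ≤ (S' ⊓ B₁) ⊔ (S' ⊓ B₂))
    {S A₁ A₂ : Subgroup G} (hS : IsSyl p S ⊤) (h₁ : A₁.IsSubnormal) (h₂ : A₂.IsSubnormal)
    (htop : A₁ ⊔ A₂ = ⊤) {M : Subgroup G} (hM : IsMinNormal M) :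
    S ≤ ((S ⊓ A₁) ⊔ (S ⊓ A₂)) ⊔ (S ⊓ M) := by
  have hMn := hM.1
  have h := ih M hMn hM.2.1 _ (isSyl_map_mk hS M) _ _ (h₁.quotient (K := M)) (h₂.quotient (K := M))
  rw [← Subgroup.map_sup, htop, Subgroup.map_top_of_surjective _ (QuotientGroup.mk'_surjective M),
    inf_top_eq] at h
  have aux : ∀ A : Subgroup G, A.IsSubnormal →
      S.map (QuotientGroup.mk' M) ⊓ A.map (QuotientGroup.mk' M)
        ≤ (S ⊓ A).map (QuotientGroup.mk' M) := by
    rintro A hA y ⟨⟨s, hs, rfl⟩, ⟨a, ha, hsa⟩⟩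
    have h1 : a⁻¹ * s ∈ M := QuotientGroup.eq.1 hsa
    have h2 : s ∈ S ⊓ (A ⊔ M) := by
      refine ⟨hs, ?_⟩
      have := Subgroup.mul_mem_sup ha h1
      simpa using this
    have h3 := syl_sup_le hS.isPGroup Subgroup.le_normalizer_of_normal
      (isSyl_inf_of_isSubnormal hS hA) h2
    have h4 := Subgroup.mem_map_of_mem (QuotientGroup.mk' M) h3
    rw [Subgroup.map_sup] at h4
    have h5 : (S ⊓ M).map (QuotientGroup.mk' M) = ⊥ := by
      rw [Subgroup.map_eq_bot_iff, QuotientGroup.ker_mk']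
      exact inf_le_right
    rwa [h5, sup_bot_eq] at h4
  have h6 : S.map (QuotientGroup.mk' M) ≤ ((S ⊓ A₁) ⊔ (S ⊓ A₂)).map (QuotientGroup.mk' M) := by
    rw [Subgroup.map_sup]
    exact h.trans (sup_le_sup (aux A₁ h₁) (aux A₂ h₂))
  rw [Subgroup.map_le_map_iff, QuotientGroup.ker_mk'] at h6
  intro x hx
  obtain ⟨t, ht, m, hm, rfl⟩ :=
    (mem_sup_of_le_normalizer (Subgroup.le_normalizer_of_normal)).1 (h6 hx)
  have htS : t ∈ S := (sup_le inf_le_left inf_le_left : (S ⊓ A₁) ⊔ (S ⊓ A₂) ≤ S) ht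
  have hmS : m ∈ S := by
    have := S.mul_mem (S.inv_mem htS) hx
    simpa using this
  exact Subgroup.mul_mem_sup ht ⟨hmS, hm⟩

/-- dichotomy for a minimal normal subgroup -/
theorem subn_syl_dich {S A₁ A₂ : Subgroup G} (hS : IsSyl p S ⊤) (h₁ : A₁.IsSubnormal)
    (h₂ : A₂.IsSubnormal) (htop : A₁ ⊔ A₂ = ⊤) {M : Subgroup G} (hM : IsMinNormal M)
    (hstep : S ≤ ((S ⊓ A₁) ⊔ (S ⊓ A₂)) ⊔ (S ⊓ M)) :
    S ≤ (S ⊓ A₁) ⊔ (S ⊓ A₂) ∨
      (M ≤ Subgroup.center G ∧ M ≤ S ∧ M ⊓ ((S ⊓ A₁) ⊔ (S ⊓ A₂)) = ⊥ ∧ M ⊓ A₁ = ⊥ ∧ M ⊓ A₂ = ⊥) := by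
  have hMn := hM.1
  have n₁ := hM.le_normalizer_of_isSubnormal h₁
  have n₂ := hM.le_normalizer_of_isSubnormal h₂
  have c₁ : ⁅M, A₁⁆ ≤ M ⊓ A₁ :=
    le_inf (Subgroup.commutator_le_left _ _) (Subgroup.le_normalizer_iff_commutator_le_right.1 n₁)
  have c₂ : ⁅M, A₂⁆ ≤ M ⊓ A₂ :=
    le_inf (Subgroup.commutator_le_left _ _) (Subgroup.le_normalizer_iff_commutator_le_right.1 n₂)
  have hM₀ : ((M ⊓ A₁) ⊔ (M ⊓ A₂)).Normal := by
    rw [← Subgroup.normalizer_eq_top_iff, eq_top_iff, ← htop]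
    apply sup_le
    · rw [sup_comm]
      apply le_normalizer_sup_of_commutator_le
      · rw [Subgroup.commutator_comm]
        exact (Subgroup.commutator_mono inf_le_left le_rfl).trans c₁
      · exact le_normalizer_inf Subgroup.le_normalizer_of_normal Subgroup.le_normalizer
    · apply le_normalizer_sup_of_commutator_le
      · rw [Subgroup.commutator_comm]
        exact (Subgroup.commutator_mono inf_le_left le_rfl).trans c₂
      · exact le_normalizer_inf Subgroup.le_normalizer_of_normal Subgroup.le_normalizer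
  rcases hM.2.2 _ hM₀ (sup_le inf_le_left inf_le_left) with h0 | h0
  · -- central case
    have b₁ : M ⊓ A₁ = ⊥ := by rw [eq_bot_iff, ← h0]; exact le_sup_left
    have b₂ : M ⊓ A₂ = ⊥ := by rw [eq_bot_iff, ← h0]; exact le_sup_right
    have hc : M ≤ Subgroup.center G := by
      have h3 : Subgroup.centralizer (M : Set G) = ⊤ := by
        rw [eq_top_iff, ← htop]
        apply sup_le
        · rw [← Subgroup.commutator_eq_bot_iff_le_centralizer, Subgroup.commutator_comm, eq_bot_iff,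
            ← b₁]
          exact c₁
        · rw [← Subgroup.commutator_eq_bot_iff_le_centralizer, Subgroup.commutator_comm, eq_bot_iff,
            ← b₂]
          exact c₂
      exact Subgroup.centralizer_eq_top_iff_subset.1 h3
    rcases hM.2.2 (S ⊓ M) (normal_of_le_center' (inf_le_right.trans hc)) inf_le_right with h4 | h4
    · left
      rwa [h4, sup_bot_eq] at hstep
    · have hMS : M ≤ S := by rw [← h4]; exact inf_le_left
      rcases hM.2.2 (M ⊓ ((S ⊓ A₁) ⊔ (S ⊓ A₂))) (normal_of_le_center' (inf_le_left.trans hc))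
        inf_le_left with h5 | h5
      · exact Or.inr ⟨hc, hMS, h5, b₁, b₂⟩
      · left
        refine hstep.trans (sup_le le_rfl (inf_le_right.trans ?_))
        rw [← h5]; exact inf_le_right
  · left
    refine hstep.trans (sup_le le_rfl ?_)
    have h6 : S ⊓ ((M ⊓ A₂) ⊔ (M ⊓ A₁)) ≤ (S ⊓ (M ⊓ A₂)) ⊔ (S ⊓ (M ⊓ A₁)) := by
      apply syl_sup_le hS.isPGroup
      · exact inf_le_left.trans (le_normalizer_inf Subgroup.le_normalizer n₁)
      · exact isSyl_inf_of_isSubnormal hS (hMn.isSubnormal.inf h₂)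
    rw [sup_comm, h0] at h6
    refine h6.trans (sup_le ?_ ?_)
    · exact (inf_le_inf_left S inf_le_right).trans le_sup_right
    · exact (inf_le_inf_left S inf_le_right).trans le_sup_left

end

end Cfsg.Agent.Lib.Helper53
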