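import Cfsg.Agent.Lib.Helper53.SubnSyl2

set_option autoImplicit false
set_option maxHeartbeats 400000

namespace Cfsg.Agent.Lib.Helper53

open Cfsg Cfsg.Agent.Lib.Helper12

universe u

section
variable {G : Type u} [Group G] [Finite G] {p : ℕ} [Fact p.Prime]

theorem subn_syl_top
    (ih : ∀ M : Subgroup G, ∀ _ : M.Normal, M ≠ ⊥ → ∀ S' : Subgroup (G ⧸ M), IsSyl p S' ⊤ →
      ∀ B₁ B₂ : Subgroup (G ⧸ M), B₁.IsSubnormal → B₂.IsSubnormal →
        S' ⊓ (B₁ ⊔ B₂) ≤ (S' ⊓ B₁) ⊔ (S' ⊓ B₂))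
    {S A₁ A₂ : Subgroup G} (hS : IsSyl p S ⊤) (h₁ : A₁.IsSubnormal) (h₂ : A₂.IsSubnormal)
    (htop : A₁ ⊔ A₂ = ⊤) : S ≤ (S ⊓ A₁) ⊔ (S ⊓ A₂) := by
  set T := (S ⊓ A₁) ⊔ (S ⊓ A₂) with hT
  have hTS : T ≤ S := sup_le inf_le_left inf_le_left
  rcases subsingleton_or_nontrivial G with hs | hnt
  · intro x _
    rw [Subsingleton.elim x 1]; exact one_mem _
  have step := fun {M : Subgroup G} (hM : IsMinNormal M) => subn_syl_step ih hS h₁ h₂ htop hM
  have dich := fun {M : Subgroup G} (hM : IsMinNormal M) =>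
    subn_syl_dich hS h₁ h₂ htop hM (step hM)
  obtain ⟨M, hM⟩ := exists_minNormal (G := G)
  rcases dich hM with h | ⟨hc, hMS, hMT, b₁, b₂⟩
  · exact h
  have hMn := hM.1
  have hcomm : IsMulCommutative M := by
    rw [← Subgroup.le_centralizer_iff_isMulCommutative]
    exact hc.trans (Subgroup.center_le_centralizer _)
  have hSM : M ⊔ T = S := by
    apply le_antisymm (sup_le hMS hTS)
    refine (step hM).trans ?_
    rw [sup_comm]
    exact sup_le_sup_right inf_le_right _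
  have hcop : (Nat.card M).Coprime S.index := by
    obtain ⟨k, hk⟩ := IsPGroup.iff_card.1 (hS.isPGroup.to_le hMS)
    rw [hk]
    apply Nat.Coprime.pow_left
    rw [Nat.Prime.coprime_iff_not_dvd Fact.out]
    have := (isSyl_iff_relIndex.1 hS).2.2
    rwa [Subgroup.relIndex_top_right] at this
  obtain ⟨N, hN⟩ := Cfsg.Agent.Lib.Helper2.gaschutz_exists M S T hcop (by rw [inf_comm]; exact hMT) hSM
  have hNM : M ⊓ N = ⊥ := hN.disjoint.eq_bot
  have hNtop : M ⊔ N = ⊤ := hN.sup_eq_top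
  have hNn : N.Normal := by
    rw [← Subgroup.normalizer_eq_top_iff, eq_top_iff, ← hNtop]
    apply sup_le _ Subgroup.le_normalizer
    exact (hc.trans (Subgroup.center_le_centralizer _)).trans (Subgroup.centralizer_le_normalizer _)
  by_cases hNb : N = ⊥
  · exfalso
    rw [hNb, sup_bot_eq] at hNtop
    rw [hNtop, top_inf_eq] at b₁ b₂
    rw [b₁, b₂, sup_bot_eq] at htop
    exact bot_ne_top htop
  obtain ⟨M', hM'N, hM'⟩ := exists_minNormal_le N hNn hNb
  rcases dich hM' with h | ⟨hc', hMS', hMT', -, -⟩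
  · exact h
  have hM'n := hM'.1
  obtain ⟨⟨m, hm⟩, hm1'⟩ := (Subgroup.ne_bot_iff_exists_ne_one).1 hM.2.1
  have hm1 : m ≠ 1 := fun h => hm1' (Subtype.ext h)
  have hmS : m ∈ T ⊔ (S ⊓ M') := step hM' (hMS hm)
  obtain ⟨t, ht, m', hm', rfl⟩ :=
    (mem_sup_of_le_normalizer (le_normalizer_inf (hTS.trans Subgroup.le_normalizer)
      Subgroup.le_normalizer_of_normal)).1 hmS
  have htc : t ∈ Subgroup.center G := by
    have := mul_mem (hc hm) (inv_mem (hc' hm'.2))
    simpa using this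
  have ht1 : t ≠ 1 := by
    rintro rfl
    rw [one_mul] at hm hm1
    have : m' ∈ M ⊓ N := ⟨hm, hM'N hm'.2⟩
    rw [hNM, Subgroup.mem_bot] at this
    exact hm1 this
  have hZc : Subgroup.zpowers t ≤ Subgroup.center G := by
    rw [Subgroup.zpowers_le]; exact htc
  have hZT : Subgroup.zpowers t ≤ T := by
    rw [Subgroup.zpowers_le]; exact ht
  have hZb : Subgroup.zpowers t ≠ ⊥ := by
    rw [Ne, Subgroup.zpowers_eq_bot]; exact ht1
  obtain ⟨M'', hM''Z, hM''⟩ := exists_minNormal_le _ (normal_of_le_center' hZc) hZb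
  rcases dich hM'' with h | ⟨-, -, hMT'', -, -⟩
  · exact h
  · exfalso
    apply hM''.2.1
    rw [eq_bot_iff, ← hMT'']
    exact le_inf le_rfl (hM''Z.trans hZT)

end

theorem subn_syl_aux {p : ℕ} [Fact p.Prime] (n : ℕ) : ∀ (G : Type u) [Group G] [Finite G],
    Nat.card G = n → ∀ S : Subgroup G, IsSyl p S ⊤ → ∀ A₁ A₂ : Subgroup G, A₁.IsSubnormal →
      A₂.IsSubnormal → S ⊓ (A₁ ⊔ A₂) ≤ (S ⊓ A₁) ⊔ (S ⊓ A₂) := by
  induction n using Nat.strong_induction_on with
  | _ n ih =>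
    intro G _ _ hcard S hS A₁ A₂ h₁ h₂
    by_cases htop : A₁ ⊔ A₂ = ⊤
    · rw [htop, inf_top_eq]
      apply subn_syl_top _ hS h₁ h₂ htop
      intro M hMn hMb
      have hcardq : Nat.card (G ⧸ M) < n := by
        rw [← hcard]
        have h1 := Subgroup.card_mul_index M
        rw [Subgroup.index_eq_card] at h1
        have h2 : 1 < Nat.card M := by
          rw [Subgroup.one_lt_card_iff_ne_bot]; exact hMb
        have h3 : 0 < Nat.card (G ⧸ M) := Nat.card_pos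
        nlinarith
      exact ih _ hcardq (G ⧸ M) rfl
    · set L := A₁ ⊔ A₂ with hL
      have hLs : L.IsSubnormal := isSubnormal_sup h₁ h₂
      have hcardL : Nat.card L < n := by
        rw [← hcard]
        exact lt_of_le_of_ne (Subgroup.card_le_card_group L)
          (fun h => htop (Subgroup.eq_top_of_card_eq L h))
      have hSL := isSyl_inf_of_isSubnormal hS hLs
      have hS' : IsSyl p ((S ⊓ L).subgroupOf L) ⊤ := by
        have := isSyl_top_of_sylow hSL.toSylow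
        rwa [IsSyl.coe_toSylow] at this
      have h := ih _ hcardL L rfl _ hS' _ _ (h₁.subgroupOf (K := L)) (h₂.subgroupOf (K := L))
      have e : A₁.subgroupOf L ⊔ A₂.subgroupOf L = ⊤ := by
        rw [← Subgroup.subgroupOf_sup le_sup_left le_sup_right]
        exact Subgroup.subgroupOf_self _
      rw [e, inf_top_eq] at h
      intro x hx
      have h1 := Subgroup.mem_map_of_mem L.subtype (h (x := ⟨x, hx.2⟩) hx)
      rw [Subgroup.map_sup] at h1
      have aux : ∀ A : Subgroup G,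
          ((S ⊓ L).subgroupOf L ⊓ A.subgroupOf L).map L.subtype ≤ S ⊓ A := by
        rintro A _ ⟨y, ⟨hy1, hy2⟩, rfl⟩
        exact ⟨hy1.1, hy2⟩
      exact (sup_le_sup (aux A₁) (aux A₂)) h1

/-- For subnormal `A₁, A₂` and a Sylow `p`-subgroup `S`: `S ∩ ⟨A₁, A₂⟩ = ⟨S ∩ A₁, S ∩ A₂⟩`. -/
theorem subn_syl {G : Type u} [Group G] [Finite G] {p : ℕ} [Fact p.Prime] {S A₁ A₂ : Subgroup G}
    (hS : IsSyl p S ⊤) (h₁ : A₁.IsSubnormal) (h₂ : A₂.IsSubnormal) :
    S ⊓ (A₁ ⊔ A₂) = (S ⊓ A₁) ⊔ (S ⊓ A₂) :=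
  le_antisymm (subn_syl_aux _ G rfl S hS A₁ A₂ h₁ h₂)
    (sup_le (inf_le_inf_left S le_sup_left) (inf_le_inf_left S le_sup_right))

end Cfsg.Agent.Lib.Helper53
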