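import Cfsg.Agent.Lib.Helper53.Large4

set_option autoImplicit false

namespace Cfsg.Agent.Lib.Helper53

open Cfsg
open scoped commutatorElement

variable {G : Type*} [Group G]

theorem cj_ne_top {X : Subgroup G} (h : X ≠ ⊤) (g : G) :
    X.map (MulAut.conj g).toMonoidHom ≠ ⊤ := by
  intro h1
  apply h
  rw [cj_eq_iff] at h1
  rw [h1]
  exact Subgroup.map_top_of_surjective _ (MulAut.conj g⁻¹).surjective

theorem IsMinimalOver.eq_top_of_normal {Y X : Subgroup G} (h : IsMinimalOver Y) (hX : X.Normal)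
    (hYX : Y ≤ X) : X = ⊤ := by
  rw [eq_top_iff, ← h.1]
  exact Subgroup.normalClosure_le_normal hYX

theorem IsMinimalOver.eq_top_of_normalizer {Y X : Subgroup G} (h : IsMinimalOver Y)
    (hX : Subgroup.normalizer (X : Set G) = ⊤) (hYX : Y ≤ X) : X = ⊤ :=
  IsMinimalOver.eq_top_of_normal h (Subgroup.normalizer_eq_top_iff.1 hX) hYX

section
variable [Finite G] {p : ℕ} [Fact p.Prime] {L₀ Y T : Subgroup G}

theorem ymin_normalizer_le (hL₀ : IsCoatom L₀) (hmin : IsMinimalOver Y) (hYT : Y ≤ T)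
    (hT : T ≤ L₀) : Subgroup.normalizer (T : Set G) ≤ L₀ := by
  apply IsMinimalOver.le_of_ne_top hmin hL₀ (hYT.trans hT) (hYT.trans Subgroup.le_normalizer)
  intro h
  have := IsMinimalOver.eq_top_of_normalizer hmin h hYT
  exact hL₀.1 (top_le_iff.1 (this ▸ hT))

theorem ymin_normalizer_eq (hL₀ : IsCoatom L₀) (hmin : IsMinimalOver Y) (hY : Y ≤ L₀) :
    Subgroup.normalizer (L₀ : Set G) = L₀ :=
  le_antisymm (ymin_normalizer_le hL₀ hmin hY le_rfl) Subgroup.le_normalizer

theorem ymin_isSyl_top (hL₀ : IsCoatom L₀) (hmin : IsMinimalOver Y) (hYT : Y ≤ T)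
    (hT : IsSyl p T L₀) : IsSyl p T ⊤ := by
  obtain ⟨P, hP, hTP⟩ := exists_isSyl_ge (le_top : T ≤ ⊤) hT.isPGroup
  have : T = P := by
    by_contra hne
    have h1 := lt_inf_normalizer hP.isPGroup (lt_of_le_of_ne hTP hne)
    have h2 := hT.eq_of_le (inf_le_right.trans (ymin_normalizer_le hL₀ hmin hYT hT.le))
      hP.isPGroup.to_inf_left h1.le
    exact h1.ne h2.symm
  rw [this]
  exact hP

theorem ymin_sup_cj_eq_top (hL₀ : IsCoatom L₀) (hmin : IsMinimalOver Y) (hY : Y ≤ L₀) {g : G}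
    (hg : g ∉ L₀) : Y ⊔ Y.map (MulAut.conj g).toMonoidHom = ⊤ := by
  by_contra hne
  apply hg
  have h1 := IsMinimalOver.le_of_ne_top hmin hL₀ hY le_sup_left hne
  have h2 : Y ≤ L₀.map (MulAut.conj g⁻¹).toMonoidHom := (cj_le_iff g).1 (le_sup_right.trans h1)
  have h3 := IsMinimalOver.le_of_ne_top hmin hL₀ hY h2 (cj_ne_top hL₀.1 _)
  have h4 : g⁻¹ ∈ Subgroup.normalizer (L₀ : Set G) := cj_eq_self_iff.1 (cj_eq_of_le h3)
  rw [ymin_normalizer_eq hL₀ hmin hY] at h4
  simpa using L₀.inv_mem h4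

theorem ymin_inf_cj (hL₀ : IsCoatom L₀) (hmin : IsMinimalOver Y) (hY : Y ≤ L₀)
    (hc : IsMulCommutative Y) {g : G} (hg : g ∉ L₀) :
    Y ⊓ Y.map (MulAut.conj g).toMonoidHom = Y ⊓ Subgroup.center G := by
  have hYc : Y ≤ Subgroup.centralizer (Y : Set G) := Subgroup.le_centralizer_iff_isMulCommutative.2 hc
  apply le_antisymm
  · apply le_inf inf_le_left
    have h1 : Y ⊔ Y.map (MulAut.conj g).toMonoidHom ≤
        Subgroup.centralizer ((Y ⊓ Y.map (MulAut.conj g).toMonoidHom : Subgroup G) : Set G) := by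
      apply sup_le
      · exact hYc.trans (Subgroup.centralizer_le inf_le_left)
      · have h2 : Y.map (MulAut.conj g).toMonoidHom ≤ Subgroup.centralizer
            ((Y.map (MulAut.conj g).toMonoidHom : Subgroup G) : Set G) := by
          rw [centralizer_cj]
          exact cj_mono g hYc
        exact h2.trans (Subgroup.centralizer_le inf_le_right)
    rw [ymin_sup_cj_eq_top hL₀ hmin hY hg, top_le_iff, Subgroup.centralizer_eq_top_iff_subset] at h1
    exact h1
  · rintro x ⟨hxY, hxZ⟩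
    refine ⟨hxY, ?_⟩
    change x ∈ Y.map (MulAut.conj g).toMonoidHom
    rw [mem_cj]
    have : g⁻¹ * x * g = x := by
      rw [mul_assoc, ← (Subgroup.mem_center_iff.1 hxZ g)]; group
    rw [this]
    exact hxY

end

end Cfsg.Agent.Lib.Helper53
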