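import Cfsg.Agent.Lib.Helper53.WcFactor
import Cfsg.Agent.Lib.Helper53.YMin

set_option autoImplicit false

namespace Cfsg.Agent.Lib.Helper53

open Cfsg

variable {G : Type*} [Group G]

theorem le_normalizer_iSup {ι : Sort*} {A : ι → Subgroup G} {K : Subgroup G}
    (h : ∀ i, K ≤ Subgroup.normalizer (A i : Set G)) :
    K ≤ Subgroup.normalizer ((⨆ i, A i : Subgroup G) : Set G) := by
  intro k hk
  rw [← cj_eq_self_iff, Subgroup.map_iSup]
  exact iSup_congr fun i => cj_eq_self_iff.2 (h i hk)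

/-- Dedekind: `X ⊓ (E ⊔ P) ≤ (X ⊓ E) ⊔ P` if `P ≤ X` and `E` normalises `P`. -/
theorem inf_sup_le_of_le {X E P : Subgroup G} (hPX : P ≤ X)
    (hE : E ≤ Subgroup.normalizer (P : Set G)) : X ⊓ (E ⊔ P) ≤ (X ⊓ E) ⊔ P := by
  rintro x ⟨hxX, hx⟩
  obtain ⟨e, he, y, hy, rfl⟩ := (mem_sup_of_le_normalizer hE).1 hx
  have : e ∈ X := by
    have := X.mul_mem hxX (X.inv_mem (hPX hy))
    simpa using this
  exact Subgroup.mul_mem_sup ⟨this, he⟩ hy

theorem isMinimalOver_of_bound {Y Z : Subgroup G}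
    (h1 : ∀ N : Subgroup G, N.Normal → Y ≤ N → N = ⊤) (hYZ : Y ≤ Z) (hZ : Z ≠ ⊤)
    (h : ∀ X, Y ≤ X → X ≠ ⊤ → X ≤ Z) : IsMinimalOver Y := by
  refine ⟨h1 _ Subgroup.normalClosure_normal Subgroup.le_normalClosure, Z, ⟨⟨hZ, ?_⟩, hYZ⟩, ?_⟩
  · intro X hX
    by_contra hne
    exact absurd (h X (hYZ.trans hX.le) hne) (not_le_of_gt hX)
  · rintro M ⟨hM, hYM⟩
    rcases hM.le_iff.1 (h M hYM hM.1) with h2 | h2
    · exact absurd h2 hZ
    · exact h2.symm

/-- ambient form of minimality over a subgroup -/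
theorem minimalOver_sub [Finite G] {Y E : Subgroup G} (hYE : Y ≤ E)
    (h : IsMinimalOver (Y.subgroupOf E)) :
    (∀ N : Subgroup G, Y ≤ N → E ≤ Subgroup.normalizer (N : Set G) → E ≤ N) ∧
    ∃ M : Subgroup G, Y ≤ M ∧ M ≤ E ∧ M ≠ E ∧ ∀ X : Subgroup G, Y ≤ X → X ≤ E → X ≠ E → X ≤ M := by
  constructor
  · intro N hYN hEN
    have h1 : ((N ⊓ E).subgroupOf E).Normal :=
      (Subgroup.normal_subgroupOf_iff_le_normalizer inf_le_right).2
        (le_normalizer_inf hEN Subgroup.le_normalizer)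
    have h2 := IsMinimalOver.eq_top_of_normal h h1 (Subgroup.comap_mono (le_inf hYN hYE))
    rw [Subgroup.subgroupOf_eq_top] at h2
    exact h2.trans inf_le_left
  · obtain ⟨M₀, ⟨hM₀, hYM₀⟩, -⟩ := h.2
    refine ⟨M₀.map E.subtype, ?_, Subgroup.map_subtype_le M₀, ?_, ?_⟩
    · have := Subgroup.map_mono (f := E.subtype) hYM₀
      rwa [subgroupOf_map_subtype_of_le hYE] at this
    · intro he
      apply hM₀.1
      rw [eq_top_iff]
      intro x _
      have : (x : G) ∈ M₀.map E.subtype := by rw [he]; exact x.2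
      obtain ⟨y, hy, hyx⟩ := this
      have : y = x := Subtype.ext hyx
      rwa [← this]
    · intro X hYX hXE hne
      have h3 : X.subgroupOf E ≠ ⊤ := by
        intro h4
        rw [Subgroup.subgroupOf_eq_top] at h4
        exact hne (le_antisymm hXE h4)
      have h5 : X.subgroupOf E ≤ M₀ :=
        IsMinimalOver.le_of_ne_top h hM₀ hYM₀ (Subgroup.comap_mono hYX) h3
      have := Subgroup.map_mono (f := E.subtype) h5
      rwa [subgroupOf_map_subtype_of_le hXE] at this

/-- ambient form of strong `p`-irreducibility -/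
theorem pRes_le_of_strongIrred {p : ℕ} {E N : Subgroup G} (hE : IsStronglyPIrreducible p ↥E)
    (hN : N ≤ E) (hn : E ≤ Subgroup.normalizer (N : Set G)) (hc : ¬ ⁅N, E⁆ ≤ pCoreOf p E) :
    (pResidual p E).map E.subtype ≤ N := by
  rw [Subgroup.map_le_iff_le_comap]
  apply hE.2 (N.subgroupOf E) ((Subgroup.normal_subgroupOf_iff_le_normalizer hN).2 hn)
  intro h
  apply hc
  have := Subgroup.map_mono (f := E.subtype) h
  rwa [Subgroup.map_commutator, subgroupOf_map_subtype_of_le hN, ← MonoidHom.range_eq_map,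
    Subgroup.range_subtype] at this

section strong
variable [Finite G] {p : ℕ} [Fact p.Prime] {E S : Subgroup G}

theorem strongIrred_gen (hE : IsStronglyPIrreducible p ↥E) (hS : IsSyl p S E) {Y : Subgroup G}
    (hSY : S ≤ Y) (hEY : E ≤ Subgroup.normalizer (Y : Set G)) : E ≤ Y := by
  have h1 : (pResidual p E).map E.subtype ≤ Y ⊓ E := by
    apply pRes_le_of_strongIrred hE inf_le_right (le_normalizer_inf hEY Subgroup.le_normalizer)
    intro h
    apply hE.1
    apply isPClosed_of_isSyl hS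
    apply Subgroup.le_normalizer_iff_commutator_le_left.2
    exact ((Subgroup.commutator_mono (le_inf hSY hS.le) le_rfl).trans h).trans (pCoreOf_le_isSyl hS)
  rw [← pRes_sup_isSyl hS]
  exact sup_le (h1.trans inf_le_left) hSY

theorem strongIrred_pRes_le_commutator (hE : IsStronglyPIrreducible p ↥E) :
    (pResidual p E).map E.subtype ≤ ⁅E, E⁆ := by
  have hEE : ⁅E, E⁆ ≤ E := Subgroup.le_normalizer_iff_commutator_le_left.1 Subgroup.le_normalizer
  have hn : E ≤ Subgroup.normalizer ((⁅E, E⁆ : Subgroup G) : Set G) :=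
    le_normalizer_commutator Subgroup.le_normalizer Subgroup.le_normalizer
  apply pRes_le_of_strongIrred hE hEE hn
  intro h
  apply hE.1
  obtain ⟨S, hS⟩ := exists_isSyl p E
  have h1 : E ≤ Subgroup.normalizer ((S ⊔ ⁅E, E⁆ : Subgroup G) : Set G) :=
    le_normalizer_sup_of_commutator_le (Subgroup.commutator_mono le_rfl hS.le) hn
  have h2 : S ⊔ ⁅E, E⁆ ≤ Subgroup.normalizer (S : Set G) := by
    apply sup_le Subgroup.le_normalizer
    apply Subgroup.le_normalizer_iff_commutator_le_right.2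
    exact ((Subgroup.commutator_mono le_rfl hS.le).trans h).trans (pCoreOf_le_isSyl hS)
  have h3 : S ≤ pCoreOf p E :=
    (le_pCoreOf le_sup_left h2 hS.isPGroup).trans
      (pCoreOf_le_pCoreOf_of_normal p (sup_le hS.le hEE) h1)
  apply isPClosed_of_isSyl hS
  rw [le_antisymm h3 (pCoreOf_le_isSyl hS)]
  exact le_normalizer_pCoreOf p E

end strong

end Cfsg.Agent.Lib.Helper53
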