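import Cfsg.Agent.Lib.Helper53.TransFam

set_option autoImplicit false
set_option maxHeartbeats 400000

namespace Cfsg.Agent.Lib.Helper53

open Cfsg

variable {G : Type*} [Group G]

/-- a conjugation-invariant, transitive family of subgroups as in MSS 1.41 -/
structure Fam (p : ℕ) (𝒦 : Set (Subgroup G)) : Prop where
  hinv : ∀ h : G, ∀ E ∈ 𝒦, E.map (MulAut.conj h).toMonoidHom ∈ 𝒦
  htr : ∀ E ∈ 𝒦, ∀ K ∈ 𝒦, ∃ h : G, K = E.map (MulAut.conj h).toMonoidHom
  hres : pResidual p G ≤ sSup 𝒦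
  hnorm : ∀ E ∈ 𝒦, sSup 𝒦 ⊔ pCore p G ≤ Subgroup.normalizer ((E ⊔ pCore p G : Subgroup G) : Set G)

namespace Fam

variable [Finite G] {p : ℕ} [Fact p.Prime] {𝒦 : Set (Subgroup G)}

theorem normal_sSup (F : Fam p 𝒦) : (sSup 𝒦).Normal := by
  rw [← Subgroup.normalizer_eq_top_iff, eq_top_iff]
  intro h _
  rw [← cj_eq_self_iff]
  apply cj_eq_of_le
  rw [Subgroup.map_le_iff_le_comap]
  apply sSup_le
  intro E hE
  rw [← Subgroup.map_le_iff_le_comap]
  exact le_sSup (F.hinv h E hE)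

theorem normal_Rh (F : Fam p 𝒦) : (sSup 𝒦 ⊔ pCore p G).Normal := by
  have := F.normal_sSup
  infer_instance

theorem le_Rh (_F : Fam p 𝒦) {E : Subgroup G} (hE : E ∈ 𝒦) :
    E ⊔ pCore p G ≤ sSup 𝒦 ⊔ pCore p G :=
  sup_le_sup_right (le_sSup hE) _

theorem le_normalizer_P (K : Subgroup G) : K ≤ Subgroup.normalizer ((pCore p G : Subgroup G) : Set G) :=
  Subgroup.le_normalizer_of_normal

theorem cj_P (g : G) : (pCore p G).map (MulAut.conj g).toMonoidHom = pCore p G :=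
  cj_eq_self_iff.2 (by rw [Subgroup.normalizer_eq_top_iff.2 (Cfsg.pCore_normal p G)]; trivial)

theorem P_le {T : Subgroup G} (hT : IsSyl p T ⊤) : pCore p G ≤ T := by
  have := pCoreOf_le_isSyl hT
  rwa [pCoreOf_top] at this

theorem syl_F (F : Fam p 𝒦) {T E : Subgroup G} (hT : IsSyl p T ⊤) (hE : E ∈ 𝒦) :
    IsSyl p (T ⊓ (E ⊔ pCore p G)) (E ⊔ pCore p G) := by
  have := F.normal_Rh
  have h1 := (hT.inf_normal (N := sSup 𝒦 ⊔ pCore p G) le_top
    Subgroup.le_normalizer_of_normal).inf_normal (F.le_Rh hE) (F.hnorm E hE)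
  rwa [inf_assoc, inf_eq_right.2 (F.le_Rh hE)] at h1

theorem syl_E (F : Fam p 𝒦) {T E : Subgroup G} (hT : IsSyl p T ⊤) (hE : E ∈ 𝒦) :
    IsSyl p (T ⊓ E) E := by
  obtain ⟨S, hS, hTS⟩ := exists_isSyl_ge (p := p) (inf_le_right : T ⊓ E ≤ E) hT.isPGroup.to_inf_left
  have h1 : IsPGroup p (S ⊔ pCore p G : Subgroup G) :=
    hS.isPGroup.to_sup_of_normal_right (pCore_isPGroup p G)
  have h2 : T ⊓ (E ⊔ pCore p G) ≤ S ⊔ pCore p G :=
    (inf_sup_le_of_le (P_le hT) (le_normalizer_P E)).trans (sup_le_sup_right hTS _)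
  have h3 := (F.syl_F hT hE).eq_of_le (sup_le_sup_right hS.le _) h1 h2
  have h4 : S ≤ T ⊓ E := le_inf ((le_sup_left.trans h3.le).trans inf_le_left) hS.le
  rw [le_antisymm hTS h4]
  exact hS

theorem le_pRes_sup (F : Fam p 𝒦) {T E : Subgroup G} (hT : IsSyl p T ⊤) (hE : E ∈ 𝒦) :
    E ≤ (pResidual p E).map E.subtype ⊔ T := by
  conv_lhs => rw [← pRes_sup_isSyl (F.syl_E hT hE)]
  exact sup_le_sup_left inf_le_left _

theorem sSup_sup_eq_top (F : Fam p 𝒦) {T : Subgroup G} (hT : IsSyl p T ⊤) : sSup 𝒦 ⊔ T = ⊤ := by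
  rw [eq_top_iff]
  have := pRes_sup_isSyl hT
  rw [pRes_top] at this
  rw [← this]
  exact sup_le_sup_right F.hres _

/-- If `X ≥ T` contains one member of the family it is everything. -/
theorem eq_top_of_le (F : Fam p 𝒦) {T E X : Subgroup G} (hT : IsSyl p T ⊤) (hE : E ∈ 𝒦)
    (hTX : T ≤ X) (hEX : E ≤ X) : X = ⊤ := by
  rw [eq_top_iff, ← F.sSup_sup_eq_top hT]
  apply sup_le _ hTX
  apply sSup_le
  intro K hK
  obtain ⟨h, rfl⟩ := F.htr E hE K hK
  have := F.normal_Rh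
  have hh : h ∈ T ⊔ (sSup 𝒦 ⊔ pCore p G) := by
    have h1 : T ⊔ (sSup 𝒦 ⊔ pCore p G) = ⊤ := by
      rw [eq_top_iff, ← F.sSup_sup_eq_top hT]
      exact sup_le (le_sup_left.trans le_sup_right) le_sup_left
    rw [h1]; trivial
  obtain ⟨t, ht, r, hr, rfl⟩ := (mem_sup_of_le_normalizer Subgroup.le_normalizer_of_normal).1 hh
  have h2 : (E ⊔ pCore p G).map (MulAut.conj (t * r)).toMonoidHom ≤ X := by
    rw [← cj_cj, cj_eq_self_iff.2 (F.hnorm E hE hr)]
    exact cj_le_of_le_of_mem (sup_le hEX ((P_le hT).trans hTX)) (hTX ht)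
  exact (cj_mono _ le_sup_left).trans h2

theorem normalClosure_eq_top (F : Fam p 𝒦) {T : Subgroup G} (hT : IsSyl p T ⊤)
    (hgen : ∀ E ∈ 𝒦, ∀ Y : Subgroup G, T ⊓ E ≤ Y → E ≤ Subgroup.normalizer (Y : Set G) → E ≤ Y)
    (N : Subgroup G) (hN : N.Normal) (hTN : T ≤ N) : N = ⊤ := by
  rw [eq_top_iff, ← F.sSup_sup_eq_top hT]
  apply sup_le _ hTN
  apply sSup_le
  intro E hE
  exact hgen E hE N (inf_le_left.trans hTN) Subgroup.le_normalizer_of_normal

/-- part (a) -/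
theorem minimalOver (F : Fam p 𝒦) (hne : 𝒦.Nonempty) {T : Subgroup G} (hT : IsSyl p T ⊤)
    (hmin : ∀ E ∈ 𝒦, IsMinimalOver ((T ⊓ E).subgroupOf E)) : IsMinimalOver T := by
  have hRn := F.normal_Rh
  obtain ⟨E, hE⟩ := hne
  set P := pCore p G with hP
  set Rh := sSup 𝒦 ⊔ P with hRh
  obtain ⟨hgen, M, hTM, hME, hMne, hM⟩ := minimalOver_sub inf_le_right (hmin E hE)
  have hPT : P ≤ T := P_le hT
  have hTF : T ⊓ (E ⊔ P) ≤ M ⊔ P :=
    (inf_sup_le_of_le hPT (le_normalizer_P E)).trans (sup_le_sup_right hTM _)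
  have hEN : ¬ E ≤ M ⊔ P := by
    intro h
    apply hMne
    apply le_antisymm hME
    intro e he
    obtain ⟨m, hm, y, hy, rfl⟩ := (mem_sup_of_le_normalizer (le_normalizer_P M)).1 (h he)
    have hyE : y ∈ E := by
      have := E.mul_mem (E.inv_mem (hME hm)) he
      simpa using this
    exact M.mul_mem hm (hTM ⟨hPT hy, hyE⟩)
  have hNF : M ⊔ P ≤ E ⊔ P := sup_le_sup_right hME _
  have hN : ∀ X : Subgroup G, T ⊓ (E ⊔ P) ≤ X → X ≤ E ⊔ P → ¬ E ≤ X → X ≤ M ⊔ P := by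
    intro X h1 h2 h3
    have hPX : P ≤ X := (le_inf hPT le_sup_right).trans h1
    have h4 : X ≤ (X ⊓ E) ⊔ P := by
      have := inf_sup_le_of_le hPX (le_normalizer_P E)
      rwa [inf_eq_left.2 h2] at this
    refine h4.trans (sup_le_sup_right ?_ _)
    apply hM _ (le_inf ((inf_le_inf_left T le_sup_left).trans h1) inf_le_right) inf_le_right
    intro h5
    exact h3 (inf_eq_right.1 h5)
  -- claim A
  have hA : ¬ E ≤ Subgroup.normalizer ((M ⊔ P : Subgroup G) : Set G) := fun h =>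
    hEN (hgen _ (hTM.trans le_sup_left) h)
  -- claim B
  have hB : ∀ X : Subgroup G, T ≤ X → X ≠ ⊤ →
      X ⊓ Rh ≤ Subgroup.normalizer ((M ⊔ P : Subgroup G) : Set G) := by
    rintro X hTX hX x ⟨hxX, hxR⟩
    have hxF := cj_eq_self_iff.2 (F.hnorm E hE hxR)
    have hsF := F.syl_F hT hE
    have h1 : (T ⊓ (E ⊔ P)).map (MulAut.conj x).toMonoidHom ≤ M ⊔ P := by
      have h2 : X ⊓ (E ⊔ P) ≤ M ⊔ P := by
        apply hN _ (inf_le_inf_right _ hTX) inf_le_right
        intro h3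
        exact hX (F.eq_top_of_le hT hE hTX (h3.trans inf_le_left))
      refine le_trans (le_inf ?_ ?_) h2
      · exact cj_le_of_le_of_mem (inf_le_left.trans hTX) hxX
      · conv_rhs => rw [← hxF]
        exact cj_mono x inf_le_right
    have h3 : IsSyl p ((T ⊓ (E ⊔ P)).map (MulAut.conj x).toMonoidHom) (M ⊔ P) := by
      have := hsF.cj x
      rw [hxF] at this
      exact this.of_le h1 hNF
    obtain ⟨m, hm, hm2⟩ := (hsF.of_le hTF hNF).exists_conj h3
    have hmR : m ∈ Rh := F.le_Rh hE (hNF hm)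
    have hy : m⁻¹ * x ∈ Subgroup.normalizer ((T ⊓ (E ⊔ P) : Subgroup G) : Set G) := by
      rw [← cj_eq_self_iff, ← cj_cj, hm2, cj_cj, inv_mul_cancel, cj_one]
    have hyF := cj_eq_self_iff.2 (F.hnorm E hE (Rh.mul_mem (Rh.inv_mem hmR) hxR))
    have hy2 : m⁻¹ * x ∈ Subgroup.normalizer ((M ⊔ P : Subgroup G) : Set G) := by
      rw [← cj_eq_self_iff]
      apply cj_eq_of_le
      apply hN
      · rw [← cj_eq_self_iff.2 hy]
        exact cj_mono _ hTF
      · rw [← hyF]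
        exact cj_mono _ hNF
      · intro h4
        have h5 : E ⊔ P ≤ (M ⊔ P).map (MulAut.conj (m⁻¹ * x)).toMonoidHom := by
          apply sup_le h4
          have h6 : P.map (MulAut.conj (m⁻¹ * x)).toMonoidHom = P := cj_P _
          conv_lhs => rw [← h6]
          exact cj_mono _ le_sup_right
        rw [← hyF, Subgroup.map_le_map_iff_of_injective (MulAut.conj (m⁻¹ * x)).injective] at h5
        exact hEN (le_sup_left.trans h5)
    have := mul_mem (Subgroup.le_normalizer hm) hy2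
    simpa using this
  -- the bound
  have hTtop : T ≠ ⊤ := by
    intro h
    apply hEN
    refine le_trans ?_ hTF
    rw [h]
    exact le_inf le_top le_sup_left
  set L : Subgroup G := ⨆ X : {X : Subgroup G // T ≤ X ∧ X ≠ ⊤}, ((X : Subgroup G) ⊓ Rh) with hL
  have hLN : L ≤ Subgroup.normalizer ((M ⊔ P : Subgroup G) : Set G) :=
    iSup_le fun X => hB X X.2.1 X.2.2
  have hTL : T ≤ Subgroup.normalizer (L : Set G) := by
    apply le_normalizer_iSup
    intro X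
    exact le_normalizer_inf (X.2.1.trans Subgroup.le_normalizer) Subgroup.le_normalizer_of_normal
  have hXL : ∀ X : Subgroup G, T ≤ X → X ≠ ⊤ → X ⊓ Rh ≤ L := fun X h1 h2 =>
    le_iSup (fun X : {X : Subgroup G // T ≤ X ∧ X ≠ ⊤} => ((X : Subgroup G) ⊓ Rh)) ⟨X, h1, h2⟩
  have htop : Rh ⊔ T = ⊤ := by
    rw [eq_top_iff, ← F.sSup_sup_eq_top hT]
    exact sup_le_sup_right le_sup_left _
  apply isMinimalOver_of_bound (Z := L ⊔ T)
    (F.normalClosure_eq_top hT fun E hE => (minimalOver_sub inf_le_right (hmin E hE)).1)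
    le_sup_right
  · intro h
    apply hA
    refine le_trans ?_ hLN
    intro e he
    have he' : e ∈ L ⊔ T := by rw [h]; trivial
    obtain ⟨l, hl, t, ht, rfl⟩ := (mem_sup_of_le_normalizer' hTL).1 he'
    have hlR : l ∈ Rh := by
      have : L ≤ Rh := iSup_le fun X => inf_le_right
      exact this hl
    have htR : t ∈ Rh := by
      have := Rh.mul_mem (Rh.inv_mem hlR) (F.le_Rh hE (Subgroup.mem_sup_left he))
      simpa using this
    exact L.mul_mem hl (hXL T le_rfl hTtop ⟨ht, htR⟩)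
  · intro X hTX hX x hx
    have hx' : x ∈ Rh ⊔ T := by rw [htop]; trivial
    obtain ⟨r, hr, t, ht, rfl⟩ :=
      (mem_sup_of_le_normalizer' (Subgroup.le_normalizer_of_normal : T ≤ _)).1 hx'
    have hrX : r ∈ X := by
      have := X.mul_mem hx (X.inv_mem (hTX ht))
      simpa using this
    exact Subgroup.mul_mem_sup (hXL X hTX hX ⟨hrX, hr⟩) ht

end Fam

end Cfsg.Agent.Lib.Helper53
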