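import Cfsg.Agent.Lib.Helper53.TransFam2

set_option autoImplicit false
set_option maxHeartbeats 400000

namespace Cfsg.Agent.Lib.Helper53

open Cfsg

variable {G : Type*} [Group G]

namespace Fam

variable [Finite G] {p : ℕ} [Fact p.Prime] {𝒦 : Set (Subgroup G)}

local notation "𝐏" => pCore p G

theorem pCoreOf_le_P (F : Fam p 𝒦) {E : Subgroup G} (hE : E ∈ 𝒦) : pCoreOf p E ≤ pCore p G := by
  have := F.normal_Rh
  have h1 : pCoreOf p E ⊔ pCore p G ≤ pCoreOf p (E ⊔ pCore p G) := by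
    apply le_pCoreOf (sup_le_sup_right (pCoreOf_le p E) _)
    · apply sup_le
      · exact le_normalizer_sup (le_normalizer_pCoreOf p E) (le_normalizer_P E)
      · exact le_sup_right.trans Subgroup.le_normalizer
    · exact (pCoreOf_isPGroup p E).to_sup_of_normal_right (pCore_isPGroup p G)
  exact (le_sup_left.trans h1).trans ((pCoreOf_le_pCoreOf_of_normal p (F.le_Rh hE)
    (F.hnorm E hE)).trans (pCoreOf_le_pCore_of_normal p _))

/-- a `p`-subgroup normalised by `R O_p(H)` and contained in it lies in `O_p(H)` -/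
theorem le_P_of_normal (F : Fam p 𝒦) {V : Subgroup G} (hV : V ≤ sSup 𝒦 ⊔ pCore p G)
    (hn : sSup 𝒦 ⊔ pCore p G ≤ Subgroup.normalizer (V : Set G)) (hp : IsPGroup p V) :
    V ≤ pCore p G := by
  have := F.normal_Rh
  exact (le_pCoreOf hV hn hp).trans (pCoreOf_le_pCore_of_normal p _)

theorem commutator_P_le (A : Subgroup G) : ⁅pCore p G, A⁆ ≤ pCore p G :=
  Subgroup.commutator_le_left _ _

/-- key lemma -/
theorem key (_F : Fam p 𝒦) {E Z : Subgroup G} (hs : IsStronglyPIrreducible p ↥E)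
    (h : ⁅⁅Z, E⁆, E⁆ ≤ pCore p G) : ⁅(pResidual p E).map E.subtype, Z⁆ ≤ pCore p G := by
  refine (Subgroup.commutator_mono (strongIrred_pRes_le_commutator hs) le_rfl).trans ?_
  apply Cfsg.Agent.Lib.Helper73.three_subgroups_le
  · rw [Subgroup.commutator_comm E Z]; exact h
  · exact h

/-- if `[N ⊓ E, E] ≤ P` with `P ≤ N` and `Z ≤ N` (`N` normal) normalises `EP`, then
`[O^p(E), Z] ≤ P`. -/
theorem key2 (F : Fam p 𝒦) {E Z N : Subgroup G} (hs : IsStronglyPIrreducible p ↥E)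
    (hPN : pCore p G ≤ N) (hEN : E ≤ Subgroup.normalizer (N : Set G))
    (hN : ⁅N ⊓ E, E⁆ ≤ pCore p G) (hZN : Z ≤ N)
    (hZ : Z ≤ Subgroup.normalizer ((E ⊔ pCore p G : Subgroup G) : Set G)) :
    ⁅(pResidual p E).map E.subtype, Z⁆ ≤ pCore p G := by
  apply F.key hs
  have h1 : ⁅Z, E⁆ ≤ N ⊓ (E ⊔ pCore p G) := by
    apply le_inf
    · exact (Subgroup.commutator_mono hZN le_rfl).trans
        (Subgroup.le_normalizer_iff_commutator_le_left.1 hEN)
    · exact (Subgroup.commutator_mono le_rfl le_sup_left).trans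
        (Subgroup.le_normalizer_iff_commutator_le_right.1 hZ)
  refine (Subgroup.commutator_mono (h1.trans (inf_sup_le_of_le hPN (le_normalizer_P E)))
    le_rfl).trans ?_
  exact Cfsg.Agent.Lib.Helper73.sup_commutator_le _ _ _ _ hN (commutator_P_le E)

theorem pRes_F_le (F : Fam p 𝒦) {E N : Subgroup G} (hE : E ∈ 𝒦)
    (hn : sSup 𝒦 ⊔ pCore p G ≤ Subgroup.normalizer (N : Set G))
    (h : (pResidual p E).map E.subtype ≤ N) :
    (pResidual p (E ⊔ pCore p G : Subgroup G)).map (E ⊔ pCore p G : Subgroup G).subtype ≤ N := by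
  obtain ⟨T, hT⟩ := exists_isSyl p (⊤ : Subgroup G)
  have hs := F.syl_E hT hE
  have hTE : T ⊓ E ≤ sSup 𝒦 := inf_le_right.trans (le_sSup hE)
  have hTE2 : (T ⊓ E) ⊔ pCore p G ≤ sSup 𝒦 ⊔ pCore p G := sup_le_sup_right hTE _
  apply pRes_le_of_le_sup (A := (T ⊓ E) ⊔ pCore p G)
  · exact hTE2.trans hn
  · exact hs.isPGroup.to_sup_of_normal_right (pCore_isPGroup p G)
  · apply sup_le _ (le_sup_right.trans le_sup_left)
    conv_lhs => rw [← pRes_sup_isSyl hs]
    exact sup_le (h.trans le_sup_right) (le_sup_left.trans le_sup_left)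

theorem pRes_F_eq (F : Fam p 𝒦) {E K : Subgroup G} (hE : E ∈ 𝒦) (hK : K ∈ 𝒦)
    (h : (pResidual p E).map E.subtype ≤ K ⊔ pCore p G) :
    (pResidual p (E ⊔ pCore p G : Subgroup G)).map (E ⊔ pCore p G : Subgroup G).subtype
      = (pResidual p (K ⊔ pCore p G : Subgroup G)).map (K ⊔ pCore p G : Subgroup G).subtype := by
  have h1 := F.pRes_F_le hE (F.hnorm K hK) h
  have h2 := pRes_mono p h1
  rw [pRes_pRes] at h2
  apply Subgroup.eq_of_le_of_card_ge h2
  obtain ⟨g, rfl⟩ := F.htr E hE K hK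
  have h3 : E.map (MulAut.conj g).toMonoidHom ⊔ pCore p G
      = (E ⊔ pCore p G).map (MulAut.conj g).toMonoidHom := by
    rw [cj_sup, cj_P]
  rw [h3, pRes_cj, card_cj]

theorem dichotomy (F : Fam p 𝒦) (hs : ∀ E ∈ 𝒦, IsStronglyPIrreducible p ↥E) {E K : Subgroup G}
    (hE : E ∈ 𝒦) (hK : K ∈ 𝒦) :
    (pResidual p (E ⊔ pCore p G : Subgroup G)).map (E ⊔ pCore p G : Subgroup G).subtype
      = (pResidual p (K ⊔ pCore p G : Subgroup G)).map (K ⊔ pCore p G : Subgroup G).subtype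
    ∨ ⁅E, K⁆ ≤ pCore p G := by
  by_cases c1 : (pResidual p E).map E.subtype ≤ K ⊔ pCore p G
  · exact Or.inl (F.pRes_F_eq hE hK c1)
  by_cases c2 : (pResidual p K).map K.subtype ≤ E ⊔ pCore p G
  · exact Or.inl (F.pRes_F_eq hK hE c2).symm
  right
  have hER : E ≤ sSup 𝒦 ⊔ pCore p G := (le_sSup hE).trans le_sup_left
  have hKR : K ≤ sSup 𝒦 ⊔ pCore p G := (le_sSup hK).trans le_sup_left
  have aux : ∀ {E K : Subgroup G}, E ∈ 𝒦 → K ∈ 𝒦 →
      ¬ (pResidual p E).map E.subtype ≤ K ⊔ pCore p G → ⁅(K ⊔ pCore p G) ⊓ E, E⁆ ≤ pCore p G := by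
    intro E K hE hK c
    by_contra hc
    apply c
    refine le_trans (pRes_le_of_strongIrred (hs E hE) inf_le_right ?_ ?_) inf_le_left
    · exact le_normalizer_inf (((le_sSup hE).trans le_sup_left).trans (F.hnorm K hK))
        Subgroup.le_normalizer
    · exact fun h => hc (h.trans (F.pCoreOf_le_P hE))
  have d1 := aux hE hK c1
  have d2 := aux hK hE c2
  have e1 : ⁅(pResidual p E).map E.subtype, K ⊔ pCore p G⁆ ≤ pCore p G :=
    F.key2 (hs E hE) le_sup_right (hER.trans (F.hnorm K hK)) d1 le_rfl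
      ((F.le_Rh hK).trans (F.hnorm E hE))
  have e2 : ⁅(pResidual p K).map K.subtype, E ⊔ pCore p G⁆ ≤ pCore p G :=
    F.key2 (hs K hK) le_sup_right (hKR.trans (F.hnorm E hE)) d2 le_rfl
      ((F.le_Rh hE).trans (F.hnorm K hK))
  obtain ⟨T, hT⟩ := exists_isSyl p (⊤ : Subgroup G)
  have sE := F.syl_E hT hE
  have sK := F.syl_E hT hK
  -- `I`
  have hI : ⁅E ⊔ pCore p G, K ⊔ pCore p G⁆ ≤ (E ⊔ pCore p G) ⊓ (K ⊔ pCore p G) := by
    apply le_inf
    · exact Subgroup.le_normalizer_iff_commutator_le_left.1 ((F.le_Rh hK).trans (F.hnorm E hE))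
    · exact Subgroup.le_normalizer_iff_commutator_le_right.1 ((F.le_Rh hE).trans (F.hnorm K hK))
  have hIE : ⁅(E ⊔ pCore p G) ⊓ (K ⊔ pCore p G), E⁆ ≤ pCore p G := by
    rw [inf_comm]
    refine (Subgroup.commutator_mono (inf_sup_le_of_le le_sup_right (le_normalizer_P E))
      le_rfl).trans ?_
    exact Cfsg.Agent.Lib.Helper73.sup_commutator_le _ _ _ _ d1 (commutator_P_le E)
  have hIK : ⁅(E ⊔ pCore p G) ⊓ (K ⊔ pCore p G), K⁆ ≤ pCore p G := by
    refine (Subgroup.commutator_mono (inf_sup_le_of_le le_sup_right (le_normalizer_P K))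
      le_rfl).trans ?_
    exact Cfsg.Agent.Lib.Helper73.sup_commutator_le _ _ _ _ d2 (commutator_P_le K)
  set U := ⁅T ⊓ E, T ⊓ K⁆ ⊔ pCore p G with hU
  have hUI : ⁅T ⊓ E, T ⊓ K⁆ ≤ (E ⊔ pCore p G) ⊓ (K ⊔ pCore p G) :=
    (Subgroup.commutator_mono (inf_le_right.trans le_sup_left)
      (inf_le_right.trans le_sup_left)).trans hI
  have hEU : E ≤ Subgroup.normalizer (U : Set G) := by
    apply le_normalizer_sup_of_commutator_le _ (le_normalizer_P E)
    rw [Subgroup.commutator_comm]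
    exact (Subgroup.commutator_mono hUI le_rfl).trans hIE
  have hKU : K ≤ Subgroup.normalizer (U : Set G) := by
    apply le_normalizer_sup_of_commutator_le _ (le_normalizer_P K)
    rw [Subgroup.commutator_comm]
    exact (Subgroup.commutator_mono hUI le_rfl).trans hIK
  have hPU : pCore p G ≤ U := le_sup_right
  have hUT : U ≤ T := by
    apply sup_le _ (P_le hT)
    exact (Subgroup.commutator_mono inf_le_left inf_le_left).trans
      (Subgroup.le_normalizer_iff_commutator_le_left.1 Subgroup.le_normalizer)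
  -- `[T ⊓ E, K] ≤ U`
  have f1 : ⁅K, T ⊓ E⁆ ≤ U := by
    conv_lhs => rw [← pRes_sup_isSyl sK]
    apply commutator_sup_le ((pRes_le p K).trans hKU) (inf_le_right.trans hKU)
    · exact ((Subgroup.commutator_mono le_rfl (inf_le_right.trans le_sup_left)).trans e2).trans hPU
    · rw [Subgroup.commutator_comm]; exact le_sup_left
  have f2 : ⁅E, K⁆ ≤ U := by
    conv_lhs => rw [← pRes_sup_isSyl sE]
    apply commutator_sup_le ((pRes_le p E).trans hEU) (inf_le_right.trans hEU)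
    · exact ((Subgroup.commutator_mono le_rfl le_sup_left).trans e1).trans hPU
    · rw [Subgroup.commutator_comm]; exact f1
  have f3 : ⁅E ⊔ pCore p G, K⁆ ≤ U :=
    commutator_sup_le hEU (hPU.trans Subgroup.le_normalizer) f2 ((commutator_P_le K).trans hPU)
  have f4 : ⁅E ⊔ pCore p G, K ⊔ pCore p G⁆ ≤ U := by
    rw [Subgroup.commutator_comm]
    apply commutator_sup_le hKU (hPU.trans Subgroup.le_normalizer)
    · rw [Subgroup.commutator_comm]; exact f3
    · exact (commutator_P_le _).trans hPU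
  refine (Subgroup.commutator_mono le_sup_left le_sup_left).trans
    (F.le_P_of_normal (V := ⁅E ⊔ pCore p G, K ⊔ pCore p G⁆) ?_ ?_ ?_)
  · exact (hI.trans inf_le_left).trans (F.le_Rh hE)
  · exact le_normalizer_commutator (F.hnorm E hE) (F.hnorm K hK)
  · exact hT.isPGroup.to_le (f4.trans hUT)

end Fam

end Cfsg.Agent.Lib.Helper53
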