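import Cfsg.Agent.Lib.Helper53.TransFam3

set_option autoImplicit false
set_option maxHeartbeats 400000

namespace Cfsg.Agent.Lib.Helper53

open Cfsg

variable {G : Type*} [Group G]

namespace Fam

variable [Finite G] {p : ℕ} [Fact p.Prime] {𝒦 : Set (Subgroup G)}

theorem pResidual_le_iSup (F : Fam p 𝒦) :
    pResidual p G ≤ ⨆ E : 𝒦, (pResidual p (E : Subgroup G)).map (E : Subgroup G).subtype := by
  obtain ⟨T, hT⟩ := exists_isSyl p (⊤ : Subgroup G)
  set O : Subgroup G := ⨆ E : 𝒦, (pResidual p (E : Subgroup G)).map (E : Subgroup G).subtype with hO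
  have hle : ∀ E ∈ 𝒦, (pResidual p E).map E.subtype ≤ O := fun E hE =>
    le_iSup (fun E : 𝒦 => (pResidual p (E : Subgroup G)).map (E : Subgroup G).subtype) ⟨E, hE⟩
  have hOn : O.Normal := by
    rw [← Subgroup.normalizer_eq_top_iff, eq_top_iff]
    intro g _
    rw [← cj_eq_self_iff]
    apply cj_eq_of_le
    rw [hO, Subgroup.map_iSup]
    apply iSup_le
    intro E
    rw [← pRes_cj]
    exact hle _ (F.hinv g E E.2)
  apply pResidual_le_of_sup_eq_top (A := T) Subgroup.le_normalizer_of_normal hT.isPGroup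
  rw [eq_top_iff, ← F.sSup_sup_eq_top hT]
  apply sup_le _ le_sup_left
  apply sSup_le
  intro E hE
  exact (F.le_pRes_sup hT hE).trans (sup_le ((hle E hE).trans le_sup_right) le_sup_left)

theorem commutator_pResidual_le (F : Fam p 𝒦) {Z : Subgroup G}
    (h : ∀ E ∈ 𝒦, ⁅(pResidual p E).map E.subtype, Z⁆ ≤ pCore p G) :
    ⁅pResidual p G, Z⁆ ≤ pCore p G :=
  (Subgroup.commutator_mono F.pResidual_le_iSup le_rfl).trans
    (Cfsg.Agent.Lib.Helper73.iSup_commutator_le _ _ _ fun E => h E E.2)

theorem isPClosed_crit {T N : Subgroup G} (hT : IsSyl p T ⊤) (hN : N.Normal)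
    (h : ⁅pResidual p G, T ⊓ N⁆ ≤ pCore p G) : IsPClosed p ↥N ∧ T ⊓ N ≤ pCore p G := by
  have hs : IsSyl p (T ⊓ N) N := hT.inf_normal le_top Subgroup.le_normalizer_of_normal
  have h1 : (pResidual p N).map N.subtype ≤ pResidual p G := by
    have := pRes_mono p (le_top : N ≤ ⊤)
    rwa [pRes_top] at this
  have h2 : ⁅(pResidual p N).map N.subtype, T ⊓ N⁆ ≤ T ⊓ N := by
    apply le_inf
    · exact ((Subgroup.commutator_mono h1 le_rfl).trans h).trans (P_le hT)
    · exact (Subgroup.commutator_mono (pRes_le p N) inf_le_right).trans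
        (Subgroup.le_normalizer_iff_commutator_le_left.1 Subgroup.le_normalizer)
  have h3 : N ≤ Subgroup.normalizer ((T ⊓ N : Subgroup G) : Set G) := by
    conv_lhs => rw [← pRes_sup_isSyl hs]
    exact sup_le (Subgroup.le_normalizer_iff_commutator_le_right.2 h2) Subgroup.le_normalizer
  exact ⟨isPClosed_of_isSyl hs h3,
    (le_pCoreOf inf_le_right h3 hs.isPGroup).trans (pCoreOf_le_pCore_of_normal p N)⟩

open scoped commutatorElement in
theorem irreducible (F : Fam p 𝒦) (hne : 𝒦.Nonempty)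
    (hs : ∀ E ∈ 𝒦, IsStronglyPIrreducible p ↥E) : IsPIrreducible p G := by
  have hRn := F.normal_Rh
  constructor
  · intro h
    obtain ⟨E, hE⟩ := hne
    exact (hs E hE).1 (isPClosed_mono (le_top : E ≤ ⊤) (isPClosed_top_iff.2 h))
  intro N hN hNc
  obtain ⟨T, hT⟩ := exists_isSyl p (⊤ : Subgroup G)
  have hN'n : (N ⊔ pCore p G).Normal := inferInstance
  by_cases c : ∃ E ∈ 𝒦, (pResidual p E).map E.subtype ≤ N ⊔ pCore p G
  · obtain ⟨E, hE, hEN⟩ := c
    have h1 : ∀ K ∈ 𝒦, (pResidual p K).map K.subtype ≤ N ⊔ pCore p G := by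
      intro K hK
      obtain ⟨g, rfl⟩ := F.htr E hE K hK
      rw [pRes_cj]
      have h2 : (N ⊔ pCore p G).map (MulAut.conj g).toMonoidHom = N ⊔ pCore p G :=
        cj_eq_self_iff.2 (by rw [Subgroup.normalizer_eq_top_iff.2 hN'n]; trivial)
      rw [← h2]
      exact cj_mono g hEN
    have h3 : pResidual p G ≤ pCore p G ⊔ N := by
      rw [sup_comm]
      refine F.pResidual_le_iSup.trans (iSup_le fun K => h1 K K.2)
    exact pResidual_le_of_pResidual_le_sup Subgroup.le_normalizer_of_normal (pCore_isPGroup p G) h3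
  · exfalso
    push Not at c
    apply hNc
    refine isPClosed_mono (le_sup_left : N ≤ N ⊔ pCore p G) ?_
    set N' := N ⊔ pCore p G with hN'
    have hPN : pCore p G ≤ N' := le_sup_right
    have d : ∀ E ∈ 𝒦, ⁅N' ⊓ E, E⁆ ≤ pCore p G := by
      intro E hE
      by_contra hc
      apply c E hE
      refine le_trans (pRes_le_of_strongIrred (hs E hE) inf_le_right ?_ ?_) inf_le_left
      · exact le_normalizer_inf Subgroup.le_normalizer_of_normal Subgroup.le_normalizer
      · exact fun h => hc (h.trans (F.pCoreOf_le_P hE))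
    -- `N₂`
    have hN₂n : (N' ⊓ (sSup 𝒦 ⊔ pCore p G)).Normal := inferInstance
    have e1 : ⁅pResidual p G, N' ⊓ (sSup 𝒦 ⊔ pCore p G)⁆ ≤ pCore p G := by
      apply F.commutator_pResidual_le
      intro E hE
      exact F.key2 (hs E hE) hPN Subgroup.le_normalizer_of_normal (d E hE) inf_le_left
        (inf_le_right.trans (F.hnorm E hE))
    have e2 : T ⊓ (N' ⊓ (sSup 𝒦 ⊔ pCore p G)) ≤ pCore p G :=
      (isPClosed_crit hT hN₂n ((Subgroup.commutator_mono le_rfl inf_le_right).trans e1)).2
    have e3 : ∀ E ∈ 𝒦, ⁅T ⊓ E, T ⊓ N'⁆ ≤ pCore p G := by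
      intro E hE
      refine le_trans (le_inf ?_ (le_inf ?_ ?_)) e2
      · exact (Subgroup.commutator_mono inf_le_left inf_le_left).trans
          (Subgroup.le_normalizer_iff_commutator_le_left.1 Subgroup.le_normalizer)
      · exact (Subgroup.commutator_mono le_rfl inf_le_right).trans
          (Subgroup.commutator_le_right _ _)
      · have hTE : T ⊓ E ≤ sSup 𝒦 ⊔ pCore p G := (inf_le_right.trans (le_sSup hE)).trans le_sup_left
        exact (Subgroup.commutator_mono hTE le_rfl).trans (Subgroup.commutator_le_left _ _)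
    have e4 : ∀ E ∈ 𝒦, T ⊓ N' ≤ Subgroup.normalizer ((E ⊔ pCore p G : Subgroup G) : Set G) := by
      intro E hE t ht
      have hgen := strongIrred_gen (hs E hE) (F.syl_E hT hE)
        (Y := (E ⊔ pCore p G).map (MulAut.conj t).toMonoidHom) ?_ ?_
      · have h5 : E ⊔ pCore p G ≤ (E ⊔ pCore p G).map (MulAut.conj t).toMonoidHom := by
          apply sup_le hgen
          conv_lhs => rw [← cj_P (p := p) t]
          exact cj_mono _ le_sup_right
        have h6 : (E ⊔ pCore p G).map (MulAut.conj t⁻¹).toMonoidHom ≤ E ⊔ pCore p G := by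
          rw [cj_le_iff, inv_inv]; exact h5
        have h7 := cj_eq_self_iff.1 (cj_eq_of_le h6)
        simpa using inv_mem h7
      · intro s hs'
        rw [mem_cj]
        have h8 : ⁅s⁻¹, t⁻¹⁆ ∈ pCore p G :=
          e3 E hE (Subgroup.commutator_mem_commutator (inv_mem hs') (inv_mem ht))
        have h9 : t⁻¹ * s * t = s * ⁅s⁻¹, t⁻¹⁆ := by
          rw [commutatorElement_def]; group
        rw [h9]
        exact mul_mem (Subgroup.mem_sup_left hs'.2) (Subgroup.mem_sup_right h8)
      · rw [normalizer_cj]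
        have h10 : (sSup 𝒦 ⊔ pCore p G).map (MulAut.conj t).toMonoidHom = sSup 𝒦 ⊔ pCore p G :=
          cj_eq_self_iff.2 (by rw [Subgroup.normalizer_eq_top_iff.2 hRn]; trivial)
        refine le_trans ?_ (cj_mono t (F.hnorm E hE))
        rw [h10]
        exact (le_sSup hE).trans le_sup_left
    have e5 : ⁅pResidual p G, T ⊓ N'⁆ ≤ pCore p G := by
      apply F.commutator_pResidual_le
      intro E hE
      exact F.key2 (hs E hE) hPN Subgroup.le_normalizer_of_normal (d E hE) inf_le_right (e4 E hE)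
    exact (isPClosed_crit hT hN'n e5).1

end Fam

end Cfsg.Agent.Lib.Helper53
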