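import Cfsg.Agent.Lib.Helper53.FrakH3
import Cfsg.Agent.Lib.Helper73.Commutator

set_option autoImplicit false

namespace Cfsg.Agent.Lib.Helper53

open Cfsg

variable {G : Type*} [Group G]

/-- Conjugates of a weakly closed `Q` inside `X` are conjugate under `O^p(⟨Q^X⟩)`. -/
theorem wc_conj_pRes [Finite G] {p : ℕ} [Fact p.Prime] {Q X : Subgroup G} (hQ : IsPGroup p Q)
    (hwc : IsWeaklyClosedSubgroup p Q) (hQX : Q ≤ X) {g : G}
    (hg : Q.map (MulAut.conj g).toMonoidHom ≤ X) :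
    ∃ r ∈ (pResidual p (weakClosure Q X)).map (weakClosure Q X).subtype,
      Q.map (MulAut.conj g).toMonoidHom = Q.map (MulAut.conj r).toMonoidHom := by
  have hQW : Q ≤ weakClosure Q X := le_weakClosure hQX
  obtain ⟨T, hT, hQT⟩ := exists_isSyl_ge hQW hQ
  obtain ⟨k, hk, hk2⟩ := wc_conj_in hQ hwc hQW (cj_le_weakClosure hg)
  rw [← pRes_sup_isSyl hT] at hk
  have hTn : T ≤ Subgroup.normalizer
      (((pResidual p (weakClosure Q X)).map (weakClosure Q X).subtype : Subgroup G) : Set G) :=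
    hT.le.trans (Subgroup.le_normalizer.trans (normalizer_le_normalizer_pRes p _))
  obtain ⟨r, hr, t, ht, rfl⟩ := (mem_sup_of_le_normalizer' hTn).1 hk
  refine ⟨r, hr, ?_⟩
  rw [hk2, ← cj_cj, cj_eq_self_iff.2 (wc_le_normalizer' hQ hwc hT.isPGroup hQT ht)]

theorem wc_weakClosure_eq_pRes_sup [Finite G] {p : ℕ} [Fact p.Prime] {Q X : Subgroup G}
    (hQ : IsPGroup p Q) (hwc : IsWeaklyClosedSubgroup p Q) (hQX : Q ≤ X) :
    weakClosure Q X = (pResidual p (weakClosure Q X)).map (weakClosure Q X).subtype ⊔ Q := by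
  apply le_antisymm
  · rw [weakClosure_le_iff]
    intro g hg
    obtain ⟨r, hr, hr2⟩ := wc_conj_pRes hQ hwc hQX hg
    rw [hr2]
    exact cj_le_of_le_of_mem le_sup_right (Subgroup.mem_sup_left hr)
  · exact sup_le (pRes_le p _) (le_weakClosure hQX)

theorem wc_pRes_commutator [Finite G] {p : ℕ} [Fact p.Prime] {Q X : Subgroup G}
    (hQ : IsPGroup p Q) (hwc : IsWeaklyClosedSubgroup p Q) (hQX : Q ≤ X) :
    ⁅(pResidual p (weakClosure Q X)).map (weakClosure Q X).subtype, Q⁆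
      = (pResidual p (weakClosure Q X)).map (weakClosure Q X).subtype := by
  set R := (pResidual p (weakClosure Q X)).map (weakClosure Q X).subtype with hR
  apply le_antisymm
  · rw [← Subgroup.le_normalizer_iff_commutator_le_left]
    exact (le_weakClosure hQX).trans
      (Subgroup.le_normalizer.trans (normalizer_le_normalizer_pRes p _))
  · apply pRes_le_of_le_sup (A := Q) (Subgroup.normalizer_commutator_ge_right _ _) hQ
    rw [weakClosure_le_iff]
    intro g hg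
    obtain ⟨r, hr, hr2⟩ := wc_conj_pRes hQ hwc hQX hg
    rw [hr2]
    have h2 := le_normalizer_sup_commutator R Q hr
    rw [← cj_eq_self_iff] at h2
    rw [← h2]
    exact cj_mono _ le_sup_left

open scoped commutatorElement in
theorem wc_factor_half [Finite G] {p : ℕ} [Fact p.Prime] {Q : Subgroup G} (hQp : IsPGroup p Q)
    (hwc : IsWeaklyClosedSubgroup p Q) {H₁ H₂ : Subgroup G}
    (hn₁ : H₁ ≤ weakClosure Q ⊤ ∧ weakClosure Q ⊤ ≤ Subgroup.normalizer (H₁ : Set G))
    (hn₂ : H₂ ≤ weakClosure Q ⊤ ∧ weakClosure Q ⊤ ≤ Subgroup.normalizer (H₂ : Set G))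
    (hprod : H₁ ⊔ H₂ = weakClosure Q ⊤)
    (hcomm : ⁅H₁, H₂⁆ ≤ Subgroup.normalizer (Q : Set G)) {K₁ : Subgroup G}
    (hK₁ : K₁ = (pResidual p (weakClosure Q (H₁ ⊔ Q))).map (weakClosure Q (H₁ ⊔ Q)).subtype) :
    ⁅K₁, Q⁆ = K₁ ∧ ⁅K₁, H₁⁆ = K₁ ∧ K₁ ≤ ⁅H₁, H₁⁆ ∧
      weakClosure Q ⊤ ≤ Subgroup.normalizer (K₁ : Set G) ∧
      ⁅K₁, H₂⁆ ≤ pCoreOf p (weakClosure Q ⊤) ∧ K₁ ≤ H₁ ∧
      weakClosure Q (H₁ ⊔ Q) = K₁ ⊔ Q := by
  set Hc := weakClosure Q ⊤ with hHc
  have hQHc : Q ≤ Hc := le_weakClosure le_top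
  have hHcn : Hc.Normal := by
    rw [← Subgroup.normalizer_eq_top_iff, eq_top_iff]
    refine le_trans ?_ (normalizer_le_normalizer_weakClosure Q ⊤)
    exact Subgroup.le_normalizer
  set P := pCoreOf p Hc with hP
  have hPn : P.Normal := by
    rw [← Subgroup.normalizer_eq_top_iff, eq_top_iff]
    refine le_trans ?_ (normalizer_le_normalizer_pCoreOf p Hc)
    rw [Subgroup.normalizer_eq_top_iff.2 hHcn]
  set D := ⁅H₁, H₂⁆ with hD
  have hDH₁ : D ≤ H₁ := Subgroup.le_normalizer_iff_commutator_le_left.1 (hn₂.1.trans hn₁.2)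
  have hDH₂ : D ≤ H₂ := Subgroup.le_normalizer_iff_commutator_le_right.1 (hn₁.1.trans hn₂.2)
  have hDn : Hc ≤ Subgroup.normalizer (D : Set G) := le_normalizer_commutator hn₁.2 hn₂.2
  have hDHc : D ≤ Hc := hDH₁.trans hn₁.1
  -- `[D, Hc] ≤ P`
  have hDP : ⁅Hc, D⁆ ≤ P := by
    rw [hHc]
    unfold weakClosure
    apply commutator_iSup_le
    · intro i
      exact le_trans le_top (Subgroup.normalizer_eq_top_iff.2 hPn).ge
    · rintro ⟨g, hg⟩
      change ⁅Q.map (MulAut.conj g).toMonoidHom, D⁆ ≤ P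
      obtain ⟨k, hk, hk2⟩ := wc_conj_in hQp hwc hQHc (g := g) (cj_le_weakClosure le_top)
      rw [hk2]
      have h1 : D ≤ Subgroup.normalizer ((Q.map (MulAut.conj k).toMonoidHom : Subgroup G) : Set G) := by
        rw [normalizer_cj, ← cj_eq_self_iff.2 (hDn hk)]
        exact cj_mono k hcomm
      have h2 : ⁅Q.map (MulAut.conj k).toMonoidHom, D⁆ ≤ Q.map (MulAut.conj k).toMonoidHom ⊓ D := by
        apply le_inf
        · exact Subgroup.le_normalizer_iff_commutator_le_left.1 h1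
        · apply Subgroup.le_normalizer_iff_commutator_le_right.1
          exact (cj_le_of_le_of_mem hQHc hk).trans hDn
      refine h2.trans (le_trans ?_ (pCoreOf_le_pCoreOf_of_normal p hDHc hDn))
      apply le_pCoreOf inf_le_right
      · exact le_normalizer_inf h1 Subgroup.le_normalizer
      · exact (isPGroup_cj hQp k).to_le inf_le_left
  have hQX : Q ≤ H₁ ⊔ Q := le_sup_right
  have hW : weakClosure Q (H₁ ⊔ Q) = K₁ ⊔ Q := by
    rw [hK₁]; exact wc_weakClosure_eq_pRes_sup hQp hwc hQX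
  have hKQ : ⁅K₁, Q⁆ = K₁ := by
    rw [hK₁]; exact wc_pRes_commutator hQp hwc hQX
  have hKH : K₁ ≤ H₁ := by
    rw [hK₁]
    apply pRes_le_of_le_sup (A := Q) (hQHc.trans hn₁.2) hQp
    rw [sup_comm]
    exact weakClosure_le _ _
  have hXK : H₁ ⊔ Q ≤ Subgroup.normalizer (K₁ : Set G) := by
    rw [hK₁]
    exact Subgroup.le_normalizer.trans ((normalizer_le_normalizer_weakClosure Q _).trans
      (normalizer_le_normalizer_pRes p _))
  have hXH : H₁ ⊔ Q ≤ Subgroup.normalizer (H₁ : Set G) :=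
    sup_le Subgroup.le_normalizer (hQHc.trans hn₁.2)
  set N := ⁅K₁, H₁⁆ with hN
  have hNK : N ≤ K₁ := Subgroup.le_normalizer_iff_commutator_le_left.1 (le_sup_left.trans hXK)
  have hXN : H₁ ⊔ Q ≤ Subgroup.normalizer (N : Set G) := le_normalizer_commutator hXK hXH
  have hDN : D ≤ Subgroup.normalizer (N : Set G) := hDH₁.trans (le_sup_left.trans hXN)
  have h1 : K₁ ≤ N ⊔ D := by
    rw [← hKQ, Subgroup.commutator_le]
    intro k hk q hq
    have hq' : q ∈ H₁ ⊔ H₂ := by rw [hprod]; exact hQHc hq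
    obtain ⟨a, ha, b, hb, rfl⟩ := (mem_sup_of_le_normalizer (hn₁.1.trans hn₂.2)).1 hq'
    have e : ⁅k, a * b⁆ = ⁅k, a⁆ * (a * ⁅k, b⁆ * a⁻¹) := by
      simp only [commutatorElement_def]; group
    rw [e]
    apply mul_mem (Subgroup.mem_sup_left (Subgroup.commutator_mem_commutator hk ha))
    apply Subgroup.mem_sup_right
    have h3 := cj_eq_self_iff.2 (hDn (hn₁.1 ha))
    rw [← h3]
    exact cj_mem a (Subgroup.commutator_mem_commutator (hKH hk) hb)
  have h2 : K₁ ≤ (D ⊓ Q) ⊔ N := by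
    rw [← hKQ, Subgroup.commutator_le]
    intro k hk q hq
    obtain ⟨n, hn, d, hd, rfl⟩ := (mem_sup_of_le_normalizer' hDN).1 (h1 hk)
    have e : ⁅n * d, q⁆ = n * ⁅d, q⁆ * n⁻¹ * ⁅n, q⁆ := by
      simp only [commutatorElement_def]; group
    rw [e]
    have hdq : ⁅d, q⁆ ∈ D ⊓ Q := by
      constructor
      · exact Subgroup.le_normalizer_iff_commutator_le_left.1 (hQHc.trans hDn)
          (Subgroup.commutator_mem_commutator hd hq)
      · exact Subgroup.le_normalizer_iff_commutator_le_right.1 hcomm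
          (Subgroup.commutator_mem_commutator hd hq)
    have hnq : ⁅n, q⁆ ∈ N := Subgroup.le_normalizer_iff_commutator_le_left.1
      (le_sup_right.trans hXN) (Subgroup.commutator_mem_commutator hn hq)
    exact mul_mem (mul_mem (mul_mem (Subgroup.mem_sup_right hn) (Subgroup.mem_sup_left hdq))
      (Subgroup.mem_sup_right (inv_mem hn))) (Subgroup.mem_sup_right hnq)
  have h3 : K₁ ≤ N := by
    have h4 : D ⊓ Q ≤ Subgroup.normalizer (N : Set G) := inf_le_left.trans hDN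
    have h5 := pRes_le_of_pRes_le_sup (p := p) (K := weakClosure Q (H₁ ⊔ Q)) h4
      (hQp.to_le inf_le_right) (by rw [← hK₁]; exact h2)
    rwa [← hK₁] at h5
  have hKN : N = K₁ := le_antisymm hNK h3
  have h6 : ⁅K₁, H₂⁆ ≤ P := by
    conv_lhs => rw [← hKN, hN]
    apply Cfsg.Agent.Lib.Helper73.three_subgroups_le
    · rw [Subgroup.commutator_comm]
      exact (Subgroup.commutator_mono (hKH.trans hn₁.1) le_rfl).trans hDP
    · rw [Subgroup.commutator_comm, Subgroup.commutator_comm H₂ K₁]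
      exact (Subgroup.commutator_mono hn₁.1 (Subgroup.commutator_mono hKH le_rfl)).trans hDP
  have h7 : ⁅H₂, K₁⁆ ≤ P ⊓ D := by
    rw [Subgroup.commutator_comm]
    exact le_inf h6 (Subgroup.commutator_mono hKH le_rfl)
  have hPD : Hc ≤ Subgroup.normalizer ((P ⊓ D : Subgroup G) : Set G) :=
    le_normalizer_inf (le_normalizer_pCoreOf p Hc) hDn
  have h8 : Hc ≤ Subgroup.normalizer ((K₁ ⊔ P ⊓ D : Subgroup G) : Set G) := by
    rw [← hprod]
    apply sup_le
    · exact le_normalizer_sup (le_sup_left.trans hXK) (hn₁.1.trans hPD)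
    · exact le_normalizer_sup_of_commutator_le h7 (hn₂.1.trans hPD)
  have h9 : (pResidual p (K₁ ⊔ P ⊓ D : Subgroup G)).map (K₁ ⊔ P ⊓ D : Subgroup G).subtype = K₁ := by
    apply le_antisymm
    · apply pRes_le_of_le_sup (A := P ⊓ D) ((inf_le_right.trans hDH₁).trans (le_sup_left.trans hXK))
        ((pCoreOf_isPGroup p Hc).to_le inf_le_left)
      rw [sup_comm]
    · have := pRes_mono p (le_sup_left : K₁ ≤ K₁ ⊔ P ⊓ D)
      refine le_trans ?_ this
      conv_lhs => rw [hK₁, ← pRes_pRes, ← hK₁]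
  have h10 : Hc ≤ Subgroup.normalizer (K₁ : Set G) := by
    have := h8.trans (normalizer_le_normalizer_pRes p _)
    rwa [h9] at this
  refine ⟨hKQ, hKN, ?_, h10, h6, hKH, hW⟩
  rw [← hKN]
  exact Subgroup.commutator_mono hKH le_rfl

end Cfsg.Agent.Lib.Helper53
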