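import Cfsg.Agent.Lib.Helper53.WeakClosed

set_option autoImplicit false

namespace Cfsg.Agent.Lib.Helper53

open Cfsg

variable {G : Type*} [Group G]

theorem map_cj {G' : Type*} [Group G'] (f : G →* G') (Q : Subgroup G) (g : G) :
    (Q.map (MulAut.conj g).toMonoidHom).map f = (Q.map f).map (MulAut.conj (f g)).toMonoidHom := by
  rw [Subgroup.map_map, Subgroup.map_map]
  congr 1
  ext x
  simp [MulAut.conj_apply]

theorem subgroupOf_map_subtype_of_le {Q K : Subgroup G} (h : Q ≤ K) :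
    (Q.subgroupOf K).map K.subtype = Q := by
  rw [Subgroup.subgroupOf_map_subtype, inf_of_le_left h]

theorem wc_subgroupOf [Finite G] {p : ℕ} [Fact p.Prime] {Q K : Subgroup G} (hQ : IsPGroup p Q)
    (hwc : IsWeaklyClosedSubgroup p Q) (hQK : Q ≤ K) :
    IsWeaklyClosedSubgroup p (Q.subgroupOf K) := by
  have hQ' : IsPGroup p (Q.subgroupOf K) := hQ.comap_subtype
  rw [wc_iff hQ']
  intro R hR hQR k hk
  apply Subgroup.map_injective K.subtype_injective
  rw [map_cj, subgroupOf_map_subtype_of_le hQK]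
  apply (wc_iff hQ).1 hwc (R.map K.subtype) (hR.map _)
  · have := Subgroup.map_mono (f := K.subtype) hQR
    rwa [subgroupOf_map_subtype_of_le hQK] at this
  · have := Subgroup.map_mono (f := K.subtype) hk
    rwa [map_cj, subgroupOf_map_subtype_of_le hQK] at this

theorem wc_exists_isSyl_le_normalizer [Finite G] {p : ℕ} [Fact p.Prime] {Q K : Subgroup G}
    (hQ : IsPGroup p Q) (hwc : IsWeaklyClosedSubgroup p Q) (hQK : Q ≤ K) :
    ∃ S, IsSyl p S K ∧ Q ≤ S ∧ S ≤ Subgroup.normalizer (Q : Set G) := by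
  obtain ⟨S, hS, hQS⟩ := exists_isSyl_ge hQK hQ
  exact ⟨S, hS, hQS, wc_le_normalizer' hQ hwc hS.isPGroup hQS⟩

theorem wc_normal_factor [Finite G] {p : ℕ} [Fact p.Prime] {Q : Subgroup G}
    (hQ : IsPGroup p Q) (hwc : IsWeaklyClosedSubgroup p Q) (N : Subgroup G) [N.Normal] :
    (N ⊓ Subgroup.normalizer (Q : Set G)) ⊔ (pResidual p N).map N.subtype = N := by
  obtain ⟨S, hS, -, hSQ⟩ := wc_exists_isSyl_le_normalizer hQ hwc (le_top : Q ≤ ⊤)
  have h1 : IsSyl p (S ⊓ N) N := hS.inf_normal le_top Subgroup.le_normalizer_of_normal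
  have h2 := pRes_sup_isSyl h1
  apply le_antisymm (sup_le inf_le_left (pRes_le p N))
  conv_lhs => rw [← h2]
  rw [sup_comm]
  exact sup_le_sup_right (le_inf inf_le_right (inf_le_left.trans hSQ)) _

theorem wc_map_mk [Finite G] {p : ℕ} [Fact p.Prime] {Q : Subgroup G}
    (hQ : IsPGroup p Q) (hwc : IsWeaklyClosedSubgroup p Q) (N : Subgroup G) [N.Normal] :
    IsWeaklyClosedSubgroup p (Q.map (QuotientGroup.mk' N)) := by
  obtain ⟨T, hQT⟩ := hQ.exists_le_sylow
  have hsurj := QuotientGroup.mk'_surjective N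
  refine ⟨T.mapSurjective hsurj, Subgroup.map_mono hQT, ?_⟩
  intro gbar hg
  obtain ⟨g, rfl⟩ := hsurj gbar
  rw [Sylow.coe_mapSurjective, ← map_cj, Subgroup.map_le_iff_le_comap, Subgroup.comap_map_eq,
    QuotientGroup.ker_mk', sup_comm] at hg
  obtain ⟨k, hk, hk2⟩ := wc_conj_in hQ hwc (hQT.trans le_sup_right) hg
  obtain ⟨n, hn, t, ht, rfl⟩ :=
    (mem_sup_of_le_normalizer' (Subgroup.le_normalizer_of_normal (H := N))).1 hk
  rw [← cj_cj, cj_eq_self_iff.2 (wc_le_normalizer' hQ hwc T.isPGroup' hQT ht)] at hk2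
  rw [← map_cj, hk2, map_cj]
  have : QuotientGroup.mk' N n = 1 := (QuotientGroup.eq_one_iff n).2 hn
  rw [this, cj_one]

end Cfsg.Agent.Lib.Helper53
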