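import Cfsg.Agent.Lib.Helper53.WeakClosed2

set_option autoImplicit false

namespace Cfsg.Agent.Lib.Helper53

open Cfsg

variable {G : Type*} [Group G]

theorem cj_le_weakClosure {Q K : Subgroup G} {g : G}
    (hg : Q.map (MulAut.conj g).toMonoidHom ≤ K) :
    Q.map (MulAut.conj g).toMonoidHom ≤ weakClosure Q K :=
  le_iSup (fun g : {g : G // Q.map (MulAut.conj g).toMonoidHom ≤ K} =>
    Q.map (MulAut.conj (g : G)).toMonoidHom) ⟨g, hg⟩

theorem weakClosure_le (Q K : Subgroup G) : weakClosure Q K ≤ K :=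
  iSup_le fun g => g.2

theorem le_weakClosure {Q K : Subgroup G} (h : Q ≤ K) : Q ≤ weakClosure Q K := by
  have := cj_le_weakClosure (Q := Q) (K := K) (g := 1) (by rwa [cj_one])
  rwa [cj_one] at this

theorem weakClosure_mono (Q : Subgroup G) {K L : Subgroup G} (h : K ≤ L) :
    weakClosure Q K ≤ weakClosure Q L :=
  iSup_le fun g => cj_le_weakClosure (g.2.trans h)

theorem weakClosure_le_iff {Q K X : Subgroup G} : weakClosure Q K ≤ X ↔
    ∀ g : G, Q.map (MulAut.conj g).toMonoidHom ≤ K → Q.map (MulAut.conj g).toMonoidHom ≤ X :=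
  ⟨fun h _ hg => (cj_le_weakClosure hg).trans h, fun h => iSup_le fun g => h g g.2⟩

theorem weakClosure_cj (Q K : Subgroup G) (a : G) :
    (weakClosure Q K).map (MulAut.conj a).toMonoidHom
      = weakClosure Q (K.map (MulAut.conj a).toMonoidHom) := by
  have key : ∀ (K : Subgroup G) (a : G), (weakClosure Q K).map (MulAut.conj a).toMonoidHom
      ≤ weakClosure Q (K.map (MulAut.conj a).toMonoidHom) := by
    intro K a
    unfold weakClosure
    rw [Subgroup.map_iSup]
    apply iSup_le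
    intro g
    rw [cj_cj]
    apply cj_le_weakClosure
    rw [← cj_cj]
    exact cj_mono a g.2
  apply le_antisymm (key K a)
  have := key (K.map (MulAut.conj a).toMonoidHom) a⁻¹
  rwa [cj_cj, inv_mul_cancel, cj_one, cj_le_iff, inv_inv] at this

theorem normalizer_le_normalizer_weakClosure (Q K : Subgroup G) :
    Subgroup.normalizer (K : Set G) ≤ Subgroup.normalizer (weakClosure Q K : Set G) := by
  intro g hg
  rw [← cj_eq_self_iff] at hg ⊢
  rw [weakClosure_cj, hg]

theorem weakClosure_eq_iSup [Finite G] {p : ℕ} [Fact p.Prime] {Q K : Subgroup G}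
    (hQ : IsPGroup p Q) (hwc : IsWeaklyClosedSubgroup p Q) (hQK : Q ≤ K) :
    weakClosure Q K = ⨆ k : K, Q.map (MulAut.conj (k : G)).toMonoidHom := by
  apply le_antisymm
  · apply iSup_le
    rintro ⟨g, hg⟩
    obtain ⟨k, hk, hk2⟩ := wc_conj_in hQ hwc hQK hg
    change Q.map (MulAut.conj g).toMonoidHom ≤ _
    rw [hk2]
    exact le_iSup (fun k : K => Q.map (MulAut.conj (k : G)).toMonoidHom) ⟨k, hk⟩
  · apply iSup_le
    intro k
    exact cj_le_weakClosure (cj_le_of_le_of_mem hQK k.2)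

theorem wc_conj_le_of_subnormal [Finite G] {p : ℕ} [Fact p.Prime] {Q X : Subgroup G}
    (hQ : IsPGroup p Q) (hwc : IsWeaklyClosedSubgroup p Q) (hX : X.IsSubnormal) :
    Q ≤ X → ∀ k : G, Q.map (MulAut.conj k).toMonoidHom ≤ X := by
  induction hX with
  | top => intro _ _; exact le_top
  | step X Y hXY _ hn ih =>
    intro hQX k
    obtain ⟨y, hy, hy2⟩ := wc_conj_in hQ hwc (hQX.trans hXY) (ih (hQX.trans hXY) k)
    rw [hy2]
    have h1 := (Subgroup.normal_subgroupOf_iff_le_normalizer hXY).1 hn hy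
    rw [← cj_eq_self_iff] at h1
    rw [← h1]
    exact cj_mono y hQX

theorem weakClosure_eq_subnormalClosure [Finite G] {p : ℕ} [Fact p.Prime] {Q K : Subgroup G}
    (hQ : IsPGroup p Q) (hwc : IsWeaklyClosedSubgroup p Q) (hQK : Q ≤ K) :
    weakClosure Q K = (subnormalClosure (Q.subgroupOf K)).map K.subtype := by
  apply le_antisymm
  · rw [weakClosure_eq_iSup hQ hwc hQK]
    apply iSup_le
    intro k
    have h1 : (Q.subgroupOf K).map (MulAut.conj k).toMonoidHom ≤ subnormalClosure (Q.subgroupOf K) := by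
      apply le_sInf
      rintro X ⟨hQX, hX⟩
      exact wc_conj_le_of_subnormal (Q := Q.subgroupOf K) hQ.comap_subtype
        (wc_subgroupOf hQ hwc hQK) hX hQX k
    have := Subgroup.map_mono (f := K.subtype) h1
    rwa [map_cj, subgroupOf_map_subtype_of_le hQK] at this
  · have h1 : subnormalClosure (Q.subgroupOf K) ≤ (weakClosure Q K).subgroupOf K := by
      apply sInf_le
      refine ⟨Subgroup.comap_mono (le_weakClosure hQK), Subgroup.Normal.isSubnormal ?_⟩
      rw [Subgroup.normal_subgroupOf_iff_le_normalizer (weakClosure_le Q K)]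
      exact Subgroup.le_normalizer.trans (normalizer_le_normalizer_weakClosure Q K)
    have := Subgroup.map_mono (f := K.subtype) h1
    rwa [subgroupOf_map_subtype_of_le (weakClosure_le Q K)] at this

open scoped commutatorElement in
theorem wc_factor_commutator [Finite G] {p : ℕ} [Fact p.Prime] {Q : Subgroup G}
    (hQ : IsPGroup p Q) (hwc : IsWeaklyClosedSubgroup p Q) (N : Subgroup G) [N.Normal] {n : G}
    (hn : n ∈ N) : ∃ a ∈ N ⊓ Subgroup.normalizer (Q : Set G), ∃ b ∈ ⁅N, Q⁆, n = a * b := by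
  have h1 : Q.map (MulAut.conj n⁻¹).toMonoidHom ≤ Q ⊔ ⁅N, Q⁆ := by
    have h2 := le_normalizer_sup_commutator N Q (N.inv_mem hn)
    rw [← cj_eq_self_iff] at h2
    rw [← h2]
    exact cj_mono _ le_sup_left
  obtain ⟨k, hk, hk2⟩ := wc_conj_in hQ hwc le_sup_left h1
  rw [sup_comm] at hk
  obtain ⟨d, hd, q, hq, rfl⟩ :=
    (mem_sup_of_le_normalizer' (Subgroup.normalizer_commutator_ge_right N Q)).1 hk
  rw [← cj_cj Q q d, cj_eq_self_of_mem hq] at hk2
  have hdN : d ∈ N := Subgroup.commutator_le_left N Q hd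
  refine ⟨n * d, ⟨N.mul_mem hn hdN, ?_⟩, d⁻¹, inv_mem hd, by group⟩
  change n * d ∈ Subgroup.normalizer (Q : Set G)
  rw [← cj_eq_self_iff, ← cj_cj, ← hk2, cj_cj, mul_inv_cancel, cj_one]

open scoped commutatorElement in
theorem wc_factor_commutator2 [Finite G] {p : ℕ} [Fact p.Prime] {Q : Subgroup G}
    (hQ : IsPGroup p Q) (hwc : IsWeaklyClosedSubgroup p Q) (N : Subgroup G) [N.Normal] {c : G}
    (hc : c ∈ ⁅N, Q⁆) : ∃ a ∈ Q ⊓ ⁅N, Q⁆, ∃ b ∈ ⁅⁅N, Q⁆, Q⁆, c = a * b := by
  have hnorm : Q ⊓ ⁅N, Q⁆ ≤ Subgroup.normalizer ((⁅⁅N, Q⁆, Q⁆ : Subgroup G) : Set G) :=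
    inf_le_left.trans (Subgroup.normalizer_commutator_ge_right _ _)
  rw [← mem_sup_of_le_normalizer hnorm]
  revert c
  change ⁅N, Q⁆ ≤ _
  rw [Subgroup.commutator_le]
  intro n hn q hq
  obtain ⟨a, ⟨haN, haQ⟩, b, hb, rfl⟩ := wc_factor_commutator hQ hwc N hn
  have e : ⁅a * b, q⁆ = a * ⁅b, q⁆ * a⁻¹ * ⁅a, q⁆ := by
    simp only [commutatorElement_def]; group
  rw [e]
  apply mul_mem
  · apply Subgroup.mem_sup_right
    have h1 : a ∈ Subgroup.normalizer ((⁅⁅N, Q⁆, Q⁆ : Subgroup G) : Set G) :=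
      mem_normalizer_commutator
        (mem_normalizer_commutator (Subgroup.le_normalizer_of_normal (K := ⊤) (Subgroup.mem_top a)) haQ) haQ
    exact (Subgroup.mem_normalizer_iff.1 h1 _).1 (Subgroup.commutator_mem_commutator hb hq)
  · apply Subgroup.mem_sup_left
    refine ⟨?_, Subgroup.commutator_mem_commutator haN hq⟩
    rw [commutatorElement_def]
    exact Q.mul_mem ((Subgroup.mem_normalizer_iff.1 haQ q).1 hq) (Q.inv_mem hq)

end Cfsg.Agent.Lib.Helper53
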