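import Cfsg.Agent.Lib.Helper53.YMin2

set_option autoImplicit false

namespace Cfsg.Agent.Lib.Helper53

open Cfsg

variable {G : Type*} [Group G]

theorem pCoreOf_eq_inf_of_normal (p : ℕ) (N : Subgroup G) [N.Normal] :
    pCoreOf p N = pCore p G ⊓ N :=
  le_antisymm (le_inf (pCoreOf_le_pCore_of_normal p N) (pCoreOf_le p N)) (pCore_inf_le p N)

theorem ymin_nilpotent [Finite G] {p : ℕ} [Fact p.Prime] {L₀ Y T : Subgroup G}
    (hL₀ : IsCoatom L₀) (hmin : IsMinimalOver Y) (hYT : Y ≤ T)
    (hT : IsSyl p T L₀) {N : Subgroup G} (hN : N.Normal) (hNL : N ≤ L₀) :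
    Group.IsNilpotent (↥N ⧸ pCore p ↥N) := by
  have hfr := ymin_core_map_eq_frattini hL₀ hmin hYT hT
  have hmem : ∀ n : N, ((QuotientGroup.mk' (pCore p G)).comp N.subtype) n
      ∈ frattini (G ⧸ pCore p G) := by
    intro n
    rw [← hfr]
    exact Subgroup.mem_map_of_mem _ ((Subgroup.normal_le_normalCore).2 hNL n.2)
  let φ : ↥N →* ↥(frattini (G ⧸ pCore p G)) :=
    ((QuotientGroup.mk' (pCore p G)).comp N.subtype).codRestrict _ hmem
  have hker : φ.ker = pCore p ↥N := by
    ext x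
    rw [MonoidHom.mem_ker, pCore_eq_subgroupOf, Subgroup.mem_subgroupOf,
      pCoreOf_eq_inf_of_normal]
    constructor
    · intro h
      have h1 : QuotientGroup.mk' (pCore p G) (x : G) = 1 := congrArg Subtype.val h
      exact ⟨(QuotientGroup.eq_one_iff _).1 h1, x.2⟩
    · intro h
      apply Subtype.ext
      exact (QuotientGroup.eq_one_iff (x : G)).2 h.1
  have hnil : Group.IsNilpotent ↥(frattini (G ⧸ pCore p G)) := frattini_nilpotent
  have h1 : Group.IsNilpotent (↥N ⧸ φ.ker) := by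
    apply Subgroup.isNilpotent_of_ker_le_center (QuotientGroup.kerLift φ)
    rw [(MonoidHom.ker_eq_bot_iff _).2 (QuotientGroup.kerLift_injective φ)]
    exact bot_le
  exact Group.nilpotent_of_mulEquiv (QuotientGroup.quotientMulEquivOfEq hker)

end Cfsg.Agent.Lib.Helper53
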